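import Mathlib
import Cfsg.Agent.Blocks.GroupAlg
import Cfsg.Agent.H992.HT.Trace
import Cfsg.Agent.Blocks.Basic
import Cfsg.Agent.Nodes.Coroot
import Cfsg.Agent.MK.T.A
import Cfsg.Agent.Characters.Values
import Cfsg.Agent.CharactersDeep.IrrEquiv
import Cfsg.Agent.S0188
import Cfsg.Agent.S0886
import Cfsg.Agent.CharactersDeep.ExtGroup
import Cfsg.Agent.MK.S.Pc
import Cfsg.Agent.H246.TitsComp
import Cfsg.Agent.MK.T.D_m3
import Cfsg.Agent.H710.PPrimeDeg
import Cfsg.Agent.OddOrderCharacters.PF9.GaloisClifford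
import Cfsg.Agent.KFacts.AutLarge
import Cfsg.Agent.H16.NunLarge
import Cfsg.Agent.SporadicStructure.M24El
import Cfsg.Agent.SporadicA.Co0Basic
import Cfsg.Agent.SporadicA.GolayPerm
import Cfsg.Agent.Lib.ListFast
import Cfsg.Agent.Lib.NodupNat
import Cfsg.Agent.MK.C.Main_m3
import Cfsg.Agent.H672.RM.Final
import Cfsg.Agent.H676.RM.Central
import Cfsg.Agent.S0397
import Cfsg.Prelude.Def_Spor_Conway
import Cfsg.Agent.FastGrp
import Cfsg.Agent.Prune
set_option linter.all false

section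
prune_inst 0x7ffca8f8a9a8a9dfdfbf7e37a6d4cdf9b1a8afffa4dff943ffe06b9f0b9f0b2149c5638501e000fe8e16c01410a87b03f97eceffe26bdc7fe3fd5fb41ffbee0fe5f6b1085190882006282ffe03f047086a3fdf76efffffffffffffffffffffffffbfebfeffff

-- part: MK/Y/Fam
section
prune_inst 0x315035647562020400180090b320046074000522004b8000b0020b46074da840a0c38ea1eff0051e92380c450804006813100180422000000a000400011d01a090c00004c009010854000f002983405000080000000000000000000000000004000000000
set_option linter.all false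
open scoped Cfsg.Agent.FastGrp

/-!
# MK-Y1: the deformation of a Yokonuma-Hecke type algebra to the group algebra (helper15)

`T n` is the matrix of the left multiplication by the `n`-th vector of an orthonormal basis indexed by a finite group `N`
with a length function.  `Dm.exists_fam` : a continuous family `F x` of such systems of matrices, `F 1 = T`, `F 0` the regular
representation of `N`.
-/

set_option autoImplicit false
set_option linter.unusedSectionVars false

namespace Cfsg.Agent.MK.Y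

open Matrix
open scoped ComplexConjugate

variable {N : Type} [Group N]

/-- a length function -/
structure Len (len : N → ℕ) : Prop where
  one : len 1 = 0
  inv : ∀ n, len n⁻¹ = len n
  zero : ∀ t, len t = 0 → ∀ n, len (t * n) = len n
  step : ∀ s, len s = 1 → ∀ n, len (s * n) = len n + 1 ∨ len (s * n) + 1 = len n
  desc : ∀ n, len n ≠ 0 → ∃ s, len s = 1 ∧ len (s * n) + 1 = len n

namespace Len

variable {len : N → ℕ} (h : Len len)
include h

theorem swap (a b : N) : len (a * b) = len (b⁻¹ * a⁻¹) := by rw [← _root_.mul_inv_rev, h.inv]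

theorem zero' {t : N} (ht : len t = 0) (n : N) : len (n * t) = len n := by
  rw [h.swap, h.zero _ (by rw [h.inv, ht]), h.inv]

/-- induction from the left -/
theorem indL {p : N → Prop} (h0 : ∀ t, len t = 0 → p t)
    (h1 : ∀ s m, len s = 1 → len (s * m) = len m + 1 → p m → p (s * m)) (n : N) : p n := by
  induction hn : len n using Nat.strong_induction_on generalizing n with
  | _ k ih =>
    by_cases hk : len n = 0
    · exact h0 n hk
    · obtain ⟨s, hs, hl⟩ := h.desc n hk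
      have e : n = s⁻¹ * (s * n) := by group
      rw [e]
      exact h1 _ _ (by rw [h.inv, hs]) (by rw [← e, hl]) (ih _ (by omega) _ rfl)

/-- induction from the right -/
theorem indR {p : N → Prop} (h0 : ∀ t, len t = 0 → p t)
    (h1 : ∀ s m, len s = 1 → len (m * s) = len m + 1 → p m → p (m * s)) (n : N) : p n := by
  have := h.indL (p := fun n => p n⁻¹) (fun t ht => h0 _ (by rw [h.inv, ht]))
    (fun s m hs hl hm => by
      rw [_root_.mul_inv_rev]
      exact h1 _ _ (by rw [h.inv, hs]) (by rw [← h.swap, hl, h.inv]) hm) n⁻¹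
  rwa [inv_inv] at this

end Len

variable [Fintype N] [DecidableEq N]

/-- the regular representation -/
def lam (a : N) : Matrix N N ℂ := fun k n => if k = a * n then 1 else 0

/-- the conjugate linear automorphism which exchanges left and right -/
def fl (a : Matrix N N ℂ) : Matrix N N ℂ := fun k n => conj (a k⁻¹ n⁻¹)

theorem fl_mul (a b : Matrix N N ℂ) : fl (a * b) = fl a * fl b := by
  ext k n
  simp only [fl, Matrix.mul_apply, map_sum, map_mul]
  exact Fintype.sum_equiv (Equiv.inv N) _ _ fun j => by simp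

theorem fl_add (a b : Matrix N N ℂ) : fl (a + b) = fl a + fl b := by
  ext k n
  simp [fl]

theorem fl_sub (a b : Matrix N N ℂ) : fl (a - b) = fl a - fl b := by
  ext k n
  simp [fl]

theorem fl_smul (x : ℝ) (a : Matrix N N ℂ) : fl ((x : ℂ) • a) = (x : ℂ) • fl a := by
  ext k n
  simp [fl]

theorem fl_neg (a : Matrix N N ℂ) : fl (-a) = -fl a := by
  ext k n
  simp only [fl, _root_.Matrix.neg_apply, _root_.map_neg]

theorem fl_lam (a k n : N) : fl (lam a⁻¹) k n = if k = n * a then 1 else 0 := by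
  have e : k⁻¹ = a⁻¹ * n⁻¹ ↔ k = n * a := by rw [← _root_.mul_inv_rev, _root_.inv_inj]
  simp only [fl, lam, e]
  split_ifs <;> simp

theorem mul_col (a b : Matrix N N ℂ) {n m : N} (h : ∀ k, b k n = if k = m then 1 else 0) (k : N) :
    (a * b) k n = a k m := by
  rw [Matrix.mul_apply, Finset.sum_eq_single m]
  · simp [h]
  · intro j _ hj
    simp [h, hj]
  · simp

theorem lam_fl (a b : N) : lam a * fl (lam b⁻¹) = fl (lam b⁻¹) * lam a := by
  ext k n
  rw [mul_col _ _ (fun j => fl_lam b j n), mul_col (m := a * n) _ _ (fun j => rfl), fl_lam, lam, mul_assoc]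

theorem lam_star (a : N) : (lam a)ᴴ = lam a⁻¹ := by
  ext k n
  have e : n = a * k ↔ k = a⁻¹ * n := by rw [eq_inv_mul_iff_mul_eq, eq_comm]
  simp only [conjTranspose_apply, lam, e]
  split_ifs <;> simp

/-- the parity operator -/
def par (len : N → ℕ) : Matrix N N ℂ := diagonal fun n => (-1) ^ len n

theorem par_sq (len : N → ℕ) : par len * par len = 1 := by
  rw [par, diagonal_mul_diagonal, ← diagonal_one]
  congr 1
  funext n
  rw [← mul_pow]
  simp

theorem fl_par {len : N → ℕ} (h : Len len) : fl (par len) = par len := by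
  ext k n
  by_cases e : k = n
  · subst e
    simp only [fl, par, h.inv, _root_.Matrix.diagonal_apply_eq, _root_.map_pow, _root_.map_neg, _root_.map_one]
  · simp only [fl, par, e, _root_.ne_eq, _root_.inv_inj, _root_.not_false_eq_true, _root_.Matrix.diagonal_apply_ne, _root_.map_zero]

theorem par_even {len : N → ℕ} {a : Matrix N N ℂ} (ha : ∀ k n, len k ≠ len n → a k n = 0) : par len * a = a * par len := by
  ext k n
  rw [par, diagonal_mul, mul_diagonal]
  by_cases e : len k = len n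
  · rw [e, mul_comm]
  · simp only [ha k n e, _root_.MulZeroClass.mul_zero, _root_.MulZeroClass.zero_mul]

theorem par_odd {len : N → ℕ} (h : Len len) {s : N} (hs : len s = 1) : par len * lam s = -(lam s * par len) := by
  ext k n
  rw [par, neg_apply, diagonal_mul, mul_diagonal]
  by_cases e : k = s * n
  · subst e
    rcases h.step s hs n with h1 | h1
    · simp only [lam, h1, pow_succ, _root_.mul_neg, _root_.mul_one, ↓ _root_.reduceIte, _root_.one_mul]
    · simp only [lam, ← h1, pow_succ, ↓ _root_.reduceIte, _root_.mul_one, _root_.mul_neg, _root_.one_mul, _root_.neg_neg]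
  · simp [lam, e]

/-- separation of the parities -/
theorem comm_of_par {R : Type} [Ring R] [Algebra ℂ R] {P A0 A1 B0 B1 : R} (hP : P * P = 1)
    (a0 : P * A0 = -(A0 * P)) (a1 : P * A1 = A1 * P) (b0 : P * B0 = -(B0 * P)) (b1 : P * B1 = B1 * P)
    (h0 : A0 * B0 = B0 * A0) (h1 : (A0 + A1) * (B0 + B1) = (B0 + B1) * (A0 + A1)) (x : ℂ) :
    (A0 + x • A1) * (B0 + x • B1) = (B0 + x • B1) * (A0 + x • A1) := by
  set X := A0 * B1 + A1 * B0 - B1 * A0 - B0 * A1 with hX
  set Y := A1 * B1 - B1 * A1 with hY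
  have e1 : X + Y = 0 := by
    have : X + Y = (A0 + A1) * (B0 + B1) - (B0 + B1) * (A0 + A1) - (A0 * B0 - B0 * A0) := by
      rw [hX, hY]
      noncomm_ring
    rw [this, h1, h0]
    simp
  have m : ∀ {a b : R} {u v : ℤ}, P * a = u • (a * P) → P * b = v • (b * P) → P * (a * b) = (u * v) • (a * b * P) := by
    intro a b u v ha hb
    rw [← mul_assoc, ha, smul_mul_assoc, mul_assoc, hb, mul_smul_comm, smul_smul, mul_assoc]
  have a0' : P * A0 = (-1 : ℤ) • (A0 * P) := by simpa using a0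
  have b0' : P * B0 = (-1 : ℤ) • (B0 * P) := by simpa using b0
  have a1' : P * A1 = (1 : ℤ) • (A1 * P) := by simpa using a1
  have b1' : P * B1 = (1 : ℤ) • (B1 * P) := by simpa using b1
  have eX : P * X = -(X * P) := by
    rw [hX, mul_sub, mul_sub, mul_add, m a0' b1', m a1' b0', m b1' a0', m b0' a1']
    simp only [mul_one, one_mul, neg_smul, one_smul, sub_mul, add_mul]
    abel
  have eY : P * Y = Y * P := by
    rw [hY, mul_sub, m a1' b1', m b1' a1']
    simp [sub_mul]
  have e2 : -X + Y = 0 := by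
    have h2 : P * (X + Y) * P = 0 := by rw [e1]; simp
    rwa [mul_add, eX, eY, add_mul, neg_mul, mul_assoc, mul_assoc, hP, mul_one, mul_one] at h2
  have e3 : Y = 0 := by
    have h3 : (2 : ℂ) • Y = 0 := by
      rw [two_smul]
      have : Y + Y = (X + Y) + (-X + Y) := by abel
      rw [this, e1, e2, add_zero]
    have h4 := congrArg (fun z => (2 : ℂ)⁻¹ • z) h3
    simpa [smul_smul] using h4
  have e4 : X = 0 := by rwa [e3, add_zero] at e1
  have : (A0 + x • A1) * (B0 + x • B1) - (B0 + x • B1) * (A0 + x • A1) =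
      (A0 * B0 - B0 * A0) + x • X + (x * x) • Y := by
    rw [hX, hY]
    simp only [mul_add, add_mul, smul_mul_assoc, mul_smul_comm, smul_add, smul_sub, smul_smul]
    abel
  rw [← sub_eq_zero, this, e3, e4, h0]
  simp

/-- the system of matrices at the parameter one -/
structure Dm (len : N → ℕ) (T : N → Matrix N N ℂ) : Prop where
  ln : Len len
  col : ∀ n k, T n k 1 = if k = n then 1 else 0
  mul : ∀ m n, T m * T n = ∑ k, T m k n • T k
  star : ∀ n, (T n)ᴴ = T n⁻¹
  up : ∀ a n, len a ≤ 1 → len (a * n) = len a + len n → ∀ k, T a k n = if k = a * n then 1 else 0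
  down : ∀ s, len s = 1 → ∀ k n, len k ≠ len n → T s k n = if k = s * n then 1 else 0

/-- the deformed left multiplication by a generator -/
noncomputable def Lx (T : N → Matrix N N ℂ) (x : ℝ) (a : N) : Matrix N N ℂ := lam a + (x : ℂ) • (T a - lam a)

/-- the deformed right multiplication by a generator -/
noncomputable def Rx (T : N → Matrix N N ℂ) (x : ℝ) (a : N) : Matrix N N ℂ := fl (Lx T x a⁻¹)

theorem Rx_eq (T : N → Matrix N N ℂ) (x : ℝ) (a : N) :
    Rx T x a = fl (lam a⁻¹) + (x : ℂ) • fl (T a⁻¹ - lam a⁻¹) := by rw [Rx, Lx, fl_add, fl_smul]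

namespace Dm

variable {len : N → ℕ} {T : N → Matrix N N ℂ} (D : Dm len T)
include D

theorem star' (a k n : N) : conj (T a n k) = T a⁻¹ k n := by
  rw [← D.star]
  rfl

theorem row (a n : N) : T a 1 n = if n = a⁻¹ then 1 else 0 := by
  have := D.star' a⁻¹ 1 n
  rw [inv_inv, D.col] at this
  rw [← this]
  split_ifs <;> simp

/-- the trace form -/
theorem tau (a b : N) : (T a * T b) 1 1 = if b = a⁻¹ then 1 else 0 := by rw [mul_col _ _ (D.col b), D.row]

theorem tau3 (a b c : N) : (T a * T b * T c) 1 1 = T b a⁻¹ c := by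
  rw [mul_col _ _ (D.col c), Matrix.mul_apply, Finset.sum_eq_single a⁻¹]
  · simp [D.row]
  · intro j _ hj
    simp [D.row, hj]
  · simp

theorem tau3' (a b c : N) : (T a * T b * T c) 1 1 = T a c⁻¹ b := by
  rw [D.mul, Finset.sum_mul, Matrix.sum_apply, Finset.sum_eq_single c⁻¹]
  · simp [D.tau]
  · intro j _ hj
    have : c ≠ j⁻¹ := fun e => hj (by rw [e, inv_inv])
    simp [D.tau, this]
  · simp

/-- the right multiplication -/
theorem fl_T (m k n : N) : fl (T m⁻¹) k n = T n k m := by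
  have h1 := D.tau3 k⁻¹ n m
  have h2 := D.tau3' k⁻¹ n m
  have h3 := D.tau3 m k⁻¹ n
  have h4 := D.tau3' m k⁻¹ n
  rw [inv_inv] at h1
  rw [fl, D.star', inv_inv, ← h4, h3, ← h2, h1]

theorem T_fl (a b : N) : T a * fl (T b⁻¹) = fl (T b⁻¹) * T a := by
  ext k n
  have h := congrFun (congrFun (D.mul a n) k) b
  rw [Matrix.mul_apply, Matrix.sum_apply] at h
  simp only [Matrix.mul_apply, D.fl_T]
  rw [h]
  exact Finset.sum_congr rfl fun j _ => by rw [Matrix.smul_apply, smul_eq_mul, mul_comm]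

theorem T_zero {t : N} (ht : len t = 0) : T t = lam t := by
  ext k n
  exact D.up t n (by omega) (by rw [D.ln.zero t ht, ht, zero_add]) k

theorem even {s : N} (hs : len s = 1) : par len * (T s - lam s) = (T s - lam s) * par len :=
  par_even fun k n h => by rw [Matrix.sub_apply, D.down s hs k n h, lam, sub_self]

theorem comm (x : ℝ) {a b : N} (ha : len a ≤ 1) (hb : len b ≤ 1) : Lx T x a * Rx T x b = Rx T x b * Lx T x a := by
  have h1 := D.T_fl a b
  have h0 := lam_fl a b
  have hb' : len b⁻¹ = len b := D.ln.inv b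
  rw [Rx_eq, Lx]
  by_cases ha0 : len a = 0
  · rw [D.T_zero ha0] at h1 ⊢
    rw [sub_self, smul_zero, add_zero, fl_sub, mul_add, add_mul, mul_smul_comm, smul_mul_assoc, mul_sub, sub_mul, h0, h1]
  by_cases hb0 : len b = 0
  · rw [D.T_zero (hb'.trans hb0)] at h1 ⊢
    rw [fl_sub, sub_self, smul_zero, add_zero, mul_add, add_mul, mul_smul_comm, smul_mul_assoc, mul_sub, sub_mul, h0, h1]
  have ha1 : len a = 1 := by omega
  have hb1 : len b⁻¹ = 1 := by omega
  refine comm_of_par (par_sq len) (par_odd D.ln ha1) (D.even ha1) ?_ ?_ h0 ?_ _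
  · have := congrArg fl (par_odd D.ln hb1)
    rwa [fl_neg, fl_mul, fl_mul, fl_par D.ln] at this
  · have := congrArg fl (D.even hb1)
    rwa [fl_mul, fl_mul, fl_par D.ln] at this
  · rw [← fl_add, add_sub_cancel, add_sub_cancel, h1]

theorem Lx_col (x : ℝ) {a n : N} (ha : len a ≤ 1) (h : len (a * n) = len a + len n) (k : N) :
    Lx T x a k n = if k = a * n then 1 else 0 := by
  simp [Lx, D.up a n ha h k, lam]

theorem Rx_col (x : ℝ) {a n : N} (ha : len a ≤ 1) (h : len (n * a) = len a + len n) (k : N) :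
    Rx T x a k n = if k = n * a then 1 else 0 := by
  have e : k⁻¹ = a⁻¹ * n⁻¹ ↔ k = n * a := by rw [← _root_.mul_inv_rev, _root_.inv_inj]
  rw [Rx, fl, D.Lx_col x (by rwa [D.ln.inv]) (by rw [← D.ln.swap, h, D.ln.inv, D.ln.inv])]
  simp only [e]
  split_ifs <;> simp

theorem Lx_star (x : ℝ) (a : N) : (Lx T x a)ᴴ = Lx T x a⁻¹ := by
  rw [Lx, Lx, conjTranspose_add, conjTranspose_smul, conjTranspose_sub, D.star, lam_star]
  simp

/-- a matrix which commutes with the right multiplications is determined by its first column -/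
theorem ext (x : ℝ) {a b : Matrix N N ℂ} (ha : ∀ s, len s ≤ 1 → a * Rx T x s = Rx T x s * a)
    (hb : ∀ s, len s ≤ 1 → b * Rx T x s = Rx T x s * b) (h : ∀ k, a k 1 = b k 1) : a = b := by
  have key : ∀ s m, len s ≤ 1 → len (m * s) = len s + len m → (∀ k, a k m = b k m) → ∀ k, a k (m * s) = b k (m * s) := by
    intro s m hs hl hm k
    rw [← mul_col a _ (D.Rx_col x hs hl), ← mul_col b _ (D.Rx_col x hs hl), ha s hs, hb s hs, Matrix.mul_apply,
      Matrix.mul_apply]
    exact Finset.sum_congr rfl fun j _ => by rw [hm]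
  have : ∀ n k, a k n = b k n := by
    refine D.ln.indR (fun t ht => ?_) fun s m hs hl hm => key s m hs.le (by omega) hm
    have := key t 1 (by omega) (by rw [one_mul, D.ln.one, add_zero]) h
    rwa [one_mul] at this
  ext k n
  exact this n k

theorem exists_one (n : N) : ∃ f : ℝ → Matrix N N ℂ, Continuous f ∧
    ∀ x, (∀ s, len s ≤ 1 → f x * Rx T x s = Rx T x s * f x) ∧ ∀ k, f x k 1 = if k = n then 1 else 0 := by
  have hc : ∀ a, Continuous fun x : ℝ => Lx T x a := fun a =>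
    continuous_const.add (Complex.continuous_ofReal.smul continuous_const)
  induction n using D.ln.indL with
  | h0 t ht =>
    refine ⟨fun x => Lx T x t, hc t, fun x => ⟨fun s hs => D.comm x (by omega) hs, fun k => ?_⟩⟩
    show Lx T x t k 1 = _
    rw [D.Lx_col x (a := t) (by omega) (by rw [mul_one, D.ln.one, add_zero]), mul_one]
  | h1 s m hs hl ih =>
    obtain ⟨f, hf, h⟩ := ih
    refine ⟨fun x => Lx T x s * f x, (hc s).matrix_mul hf, fun x => ⟨fun b hb => ?_, fun k => ?_⟩⟩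
    · rw [mul_assoc, (h x).1 b hb, ← mul_assoc, D.comm x hs.le hb, mul_assoc]
    · show (Lx T x s * f x) k 1 = _
      rw [mul_col _ _ (h x).2, D.Lx_col x hs.le (by omega)]

/-- **the family** -/
theorem exists_fam : ∃ F : ℝ → N → Matrix N N ℂ, (∀ n, Continuous fun x => F x n) ∧
    (∀ x n k, F x n k 1 = if k = n then 1 else 0) ∧ (∀ x m n, F x m * F x n = ∑ k, F x m k n • F x k) ∧
    (∀ x n, (F x n)ᴴ = F x n⁻¹) ∧ F 1 = T ∧ F 0 = lam ∧ (∀ x t, len t = 0 → F x t = lam t) ∧
    ∀ x z, len z = 0 → (∀ n, z * n = n * z) → ∀ n, lam z * F x n = F x n * lam z := by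
  choose f hf h using D.exists_one
  have gen : ∀ x a, len a ≤ 1 → f a x = Lx T x a := fun x a ha =>
    D.ext x (h a x).1 (fun s hs => D.comm x ha hs) fun k => by
      rw [(h a x).2, D.Lx_col x ha (by rw [mul_one, D.ln.one, add_zero]), mul_one]
  have cm : ∀ x m n s, len s ≤ 1 → f m x * f n x * Rx T x s = Rx T x s * (f m x * f n x) := fun x m n s hs => by
    rw [mul_assoc, (h n x).1 s hs, ← mul_assoc, (h m x).1 s hs, mul_assoc]
  have z0 : ∀ x t, len t = 0 → f t x = lam t := fun x t ht => by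
    rw [gen x t (by omega), Lx, D.T_zero ht, sub_self, smul_zero, add_zero]
  refine ⟨fun x n => f n x, hf, fun x n => (h n x).2, fun x m n => ?_, fun x n => ?_, ?_, ?_, z0, fun x z hz hc n => ?_⟩
  · refine D.ext x (cm x m n) (fun s hs => ?_) fun k => ?_
    · rw [Finset.sum_mul, Finset.mul_sum]
      exact Finset.sum_congr rfl fun j _ => by rw [smul_mul_assoc, mul_smul_comm, (h j x).1 s hs]
    · rw [mul_col _ _ (h n x).2, Matrix.sum_apply, Finset.sum_eq_single k]
      · simp [(h k x).2]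
      · intro j _ hj
        simp [(h j x).2, hj.symm]
      · simp
  · induction n using D.ln.indL with
    | h0 t ht =>
      show (f t x)ᴴ = f t⁻¹ x
      rw [z0 x t ht, z0 x t⁻¹ (by rwa [D.ln.inv]), lam_star]
    | h1 s m hs hl ih =>
      have hs' : len s⁻¹ ≤ 1 := by rw [D.ln.inv, hs]
      have e1 : f (s * m) x = f s x * f m x := D.ext x (h _ x).1 (cm x s m) fun k => by
        rw [mul_col _ _ (h m x).2, gen x s hs.le, D.Lx_col x hs.le (by omega), (h _ x).2]
      have e2 : f (m⁻¹ * s⁻¹) x = f m⁻¹ x * f s⁻¹ x := D.ext x (h _ x).1 (cm x _ _) fun k => by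
        have c1 := D.Rx_col x (n := 1) hs' (by rw [one_mul, D.ln.one, add_zero])
        rw [one_mul] at c1
        rw [mul_col _ _ (h s⁻¹ x).2, ← mul_col (f m⁻¹ x) _ c1, (h _ x).1 _ hs', mul_col _ _ (h m⁻¹ x).2,
          D.Rx_col x hs' (by rw [← D.ln.swap, hl, D.ln.inv, D.ln.inv, hs, add_comm]), (h _ x).2]
      show (f (s * m) x)ᴴ = f (s * m)⁻¹ x
      rw [e1, _root_.mul_inv_rev, e2, conjTranspose_mul, ih, gen x s hs.le, gen x _ hs', D.Lx_star]
  · funext n
    refine D.ext 1 (h n 1).1 (fun s _ => ?_) fun k => ((h n 1).2 k).trans (D.col n k).symm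
    rw [Rx, Lx, Complex.ofReal_one, one_smul, add_sub_cancel, D.T_fl]
  · funext n
    refine D.ext 0 (h n 0).1 (fun s _ => ?_) fun k => ((h n 0).2 k).trans (by rw [lam, mul_one])
    rw [Rx, Lx, Complex.ofReal_zero, zero_smul, add_zero, lam_fl]
  · have e : Rx T x z = lam z := by
      ext k m
      rw [D.Rx_col x (by omega) (by rw [D.ln.zero' hz, hz, zero_add]), lam, hc]
    rw [← e, (h n x).1 z (by omega)]

end Dm

end Cfsg.Agent.MK.Y

private theorem dce_ef34c6c08129 : _root_.True := by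
  try have : _root_.True := by simp only [_root_.Cfsg.Agent.MK.Y.lam.eq_1]
  try have : _root_.True := by simp only [_root_.Cfsg.Agent.MK.Y.Rx.eq_1]
  try have : _root_.True := by simp only [_root_.Cfsg.Agent.MK.Y.fl.eq_1]
  try have : _root_.True := by simp only [_root_.Cfsg.Agent.MK.Y.par.eq_1]
  try have : _root_.True := by simp only [_root_.Cfsg.Agent.MK.Y.lam.congr_simp]
  try have : _root_.True := by simp only [_root_.Cfsg.Agent.MK.Y.Lx.eq_1]
  exact _root_.True.intro
end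

-- part: MK/Y/SymDefs
section
set_option linter.all false
open scoped Cfsg.Agent.FastGrp

/-!
# MK (S4596): symmetric algebras in a continuous family, the interface (helper72)
-/

set_option autoImplicit false

namespace Cfsg.Agent.MK.Y

open Cfsg Matrix
open scoped ComplexConjugate

section defs

variable {κ : Type} [Fintype κ] [DecidableEq κ]

/-- the matrices `T a` form an orthonormal basis of a star closed algebra with the cyclic vector `e_o` -/
structure SA (o : κ) (T : κ → Matrix κ κ ℂ) : Prop where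
  col : ∀ a b, T a b o = if b = a then 1 else 0
  one : (1 : Matrix κ κ ℂ) ∈ Submodule.span ℂ (Set.range T)
  mul : ∀ a b, T a * T b ∈ Submodule.span ℂ (Set.range T)
  star : ∀ a, ∃ (b : κ) (c : ℂ), c * conj c = 1 ∧ (T a)ᴴ = c • T b

/-- central elements -/
structure Cen (T : κ → Matrix κ κ ℂ) {Z : Type} (E : Z → Matrix κ κ ℂ) : Prop where
  mem : ∀ z, E z ∈ Submodule.span ℂ (Set.range T)
  comm : ∀ z a, E z * T a = T a * E z

/-- `T` is the regular representation of `e ℂH e` in the basis `b` -/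
structure Rz (H : Type) [Group H] (e : MonoidAlgebra ℂ H) (b : κ → MonoidAlgebra ℂ H) {Z : Type}
    (f : Z → MonoidAlgebra ℂ H) (T : κ → Matrix κ κ ℂ) (E : Z → Matrix κ κ ℂ) : Prop where
  idem : e * e = e
  mem : ∀ a, e * b a * e = b a
  span : ∀ g, e * MonoidAlgebra.single g 1 * e ∈ Submodule.span ℂ (Set.range b)
  li : LinearIndependent ℂ b
  mul : ∀ a m, b a * b m = ∑ l, T a l m • b l
  cen : ∀ z x, f z * x = x * f z
  act : ∀ z m, f z * b m = ∑ l, E z l m • b l

end defs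

/-- the value of `χ` at an element of the group algebra -/
noncomputable def ev {H : Type} [Group H] [Fintype H] (χ : H → ℂ) (x : MonoidAlgebra ℂ H) : ℂ :=
  ∑ g, x.coeff g * χ g

theorem ev_eq {H : Type} [Group H] [Fintype H] (χ : H → ℂ) (x : MonoidAlgebra ℂ H) :
    ev χ x = Blocks.GroupAlg.lin χ x := (Blocks.GroupAlg.lin_apply χ x).symm

theorem ev_single {H : Type} [Group H] [Fintype H] (χ : H → ℂ) (g : H) (r : ℂ) :
    ev χ (MonoidAlgebra.single g r) = r * χ g := by rw [ev_eq, Blocks.GroupAlg.lin_single]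

/-- the number of irreducible characters with `χ e = d` and given central values -/
noncomputable def cnt (H : Type) [Group H] [Fintype H] (e : MonoidAlgebra ℂ H) {Z : Type} (f : Z → MonoidAlgebra ℂ H)
    (l : Z → ℂ) (d : ℕ) : ℕ :=
  Nat.card {χ : H → ℂ // IsIrrCharacter H χ ∧ (∀ z, ev χ (f z) = l z * χ 1) ∧ ev χ e = d}

/-- **the deformation lemma** -/
def Deform : Prop :=
  ∀ (κ Z H₀ H₁ : Type) [Fintype κ] [DecidableEq κ] [Finite Z] [Group H₀] [Fintype H₀] [Group H₁] [Fintype H₁]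
    (o : κ) (T : ℝ → κ → Matrix κ κ ℂ) (E : Z → Matrix κ κ ℂ)
    (e₀ : MonoidAlgebra ℂ H₀) (b₀ : κ → MonoidAlgebra ℂ H₀) (f₀ : Z → MonoidAlgebra ℂ H₀)
    (e₁ : MonoidAlgebra ℂ H₁) (b₁ : κ → MonoidAlgebra ℂ H₁) (f₁ : Z → MonoidAlgebra ℂ H₁),
    (∀ a, Continuous fun x => T x a) → (∀ x, SA o (T x)) → (∀ x, Cen (T x) E) →
    Rz H₀ e₀ b₀ f₀ (T 0) E → Rz H₁ e₁ b₁ f₁ (T 1) E →
    ∀ (l : Z → ℂ) (d : ℕ), d ≠ 0 → cnt H₀ e₀ f₀ l d = cnt H₁ e₁ f₁ l d

end Cfsg.Agent.MK.Y
end

-- part: MK/Y/SymA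
section
set_option linter.all false
open scoped Cfsg.Agent.FastGrp

/-!
# MK (S4596): the Casimir operator and the primitive central idempotents of a symmetric algebra (helper72)
-/

set_option autoImplicit false
set_option linter.unusedSectionVars false

namespace Cfsg.Agent.MK.Y

open Cfsg Matrix
open scoped ComplexConjugate ComplexOrder

variable {κ : Type} [Fintype κ] [DecidableEq κ] {o : κ} {T : κ → Matrix κ κ ℂ}

/-- the algebra -/
abbrev Al (T : κ → Matrix κ κ ℂ) : Submodule ℂ (Matrix κ κ ℂ) := Submodule.span ℂ (Set.range T)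

theorem mem_Al (T : κ → Matrix κ κ ℂ) (a : κ) : T a ∈ Al T := Submodule.subset_span ⟨a, rfl⟩

theorem exists_sum {a : Matrix κ κ ℂ} (ha : a ∈ Al T) : ∃ x : κ → ℂ, a = ∑ k, x k • T k := by
  obtain ⟨x, hx⟩ := (Submodule.mem_span_range_iff_exists_fun ℂ).1 ha
  exact ⟨x, hx.symm⟩

theorem comm_of {a b : Matrix κ κ ℂ} (ha : ∀ k, a * T k = T k * a) (hb : b ∈ Al T) : a * b = b * a := by
  obtain ⟨x, rfl⟩ := exists_sum hb
  rw [Finset.mul_sum, Finset.sum_mul]
  exact Finset.sum_congr rfl fun k _ => by rw [mul_smul_comm, smul_mul_assoc, ha]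

/-- the Casimir operator -/
noncomputable def Cas (T : κ → Matrix κ κ ℂ) (a : Matrix κ κ ℂ) : Matrix κ κ ℂ := ∑ k, T k * a * (T k)ᴴ

/-- the element which acts on the block `c` by `ζ² / τ c` -/
noncomputable def Om (T : κ → Matrix κ κ ℂ) : Matrix κ κ ℂ := ∑ k, Cas T (T k) * Cas T (T k)ᴴ

/-- the element which acts on the block `c` by its dimension -/
noncomputable def Dl (T : κ → Matrix κ κ ℂ) : Matrix κ κ ℂ := Cas T 1 ^ 3 * (Om T)⁻¹

/-- a complete system of primitive central idempotents -/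
structure Sys (T : κ → Matrix κ κ ℂ) {ι : Type} [Fintype ι] (c : ι → Matrix κ κ ℂ) : Prop where
  mem : ∀ i, c i ∈ Al T
  comm : ∀ i k, c i * T k = T k * c i
  idem : ∀ i, c i * c i = c i
  sum : ∑ i, c i = 1
  ne : ∀ i, c i ≠ 0
  prim : ∀ a ∈ Al T, (∀ k, a * T k = T k * a) → ∀ i, ∃ μ : ℂ, a * c i = μ • c i

namespace SA

variable (h : SA o T)

include h

theorem eq_sum {a : Matrix κ κ ℂ} (ha : a ∈ Al T) : a = ∑ k, a k o • T k := by
  obtain ⟨x, rfl⟩ := exists_sum ha
  refine Finset.sum_congr rfl fun k _ => ?_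
  congr 1
  rw [Matrix.sum_apply, Finset.sum_eq_single k, Matrix.smul_apply, h.col, if_pos rfl, smul_eq_mul, mul_one]
  · intro m _ hm
    rw [Matrix.smul_apply, h.col, if_neg hm.symm, smul_zero]
  · exact fun h => absurd (Finset.mem_univ k) h

theorem mul_mem {a b : Matrix κ κ ℂ} (ha : a ∈ Al T) (hb : b ∈ Al T) : a * b ∈ Al T := by
  obtain ⟨x, rfl⟩ := exists_sum ha
  obtain ⟨y, rfl⟩ := exists_sum hb
  rw [Finset.sum_mul]
  refine Submodule.sum_mem _ fun k _ => ?_
  rw [Finset.mul_sum]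
  refine Submodule.sum_mem _ fun m _ => ?_
  rw [mul_smul_comm, smul_mul_assoc]
  exact Submodule.smul_mem _ _ (Submodule.smul_mem _ _ (h.mul k m))

theorem star_mem {a : Matrix κ κ ℂ} (ha : a ∈ Al T) : aᴴ ∈ Al T := by
  obtain ⟨x, rfl⟩ := exists_sum ha
  rw [conjTranspose_sum]
  refine Submodule.sum_mem _ fun k _ => ?_
  obtain ⟨b, c, -, hb⟩ := h.star k
  rw [conjTranspose_smul, hb]
  exact Submodule.smul_mem _ _ (Submodule.smul_mem _ _ (mem_Al T b))

theorem mul_col (a : Matrix κ κ ℂ) (k l : κ) : (a * T k) l o = a l k := by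
  rw [Matrix.mul_apply, Finset.sum_eq_single k, h.col, if_pos rfl, mul_one]
  · intro m _ hm
    rw [h.col, if_neg hm, mul_zero]
  · exact fun h => absurd (Finset.mem_univ k) h

theorem star_row (a : Matrix κ κ ℂ) (k l : κ) : ((T k)ᴴ * a) o l = a k l := by
  have h1 := congrArg Star.star (h.mul_col aᴴ k l)
  rwa [← conjTranspose_apply, conjTranspose_mul, conjTranspose_conjTranspose, conjTranspose_apply, star_star] at h1

theorem tau_basis (a b : κ) : (T a * T b) o o = (T b * T a) o o := by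
  have key : ∀ a b, (T a * T b) o o ≠ 0 → (T a * T b) o o = (T b * T a) o o := by
    intro a b h0
    obtain ⟨m, c, hc, hm⟩ := h.star a
    have h1 : T a = conj c • (T m)ᴴ := by
      have h2 := congrArg conjTranspose hm
      rwa [conjTranspose_conjTranspose, conjTranspose_smul] at h2
    have h2 : (T a * T b) o o = conj c * if m = b then 1 else 0 := by
      rw [h1, smul_mul_assoc, Matrix.smul_apply, h.star_row, h.col, smul_eq_mul]
    obtain rfl : m = b := by
      by_contra h3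
      rw [if_neg h3, mul_zero] at h2
      exact h0 h2
    have h3 : T m = conj c • (T a)ᴴ := by rw [hm, smul_smul, mul_comm, hc, one_smul]
    rw [h2, if_pos rfl]
    conv_rhs => rw [h3, smul_mul_assoc, Matrix.smul_apply, h.star_row, h.col, if_pos rfl, smul_eq_mul]
  by_cases h0 : (T a * T b) o o = 0
  · by_contra h1
    have h2 := key b a fun h3 => h1 (h0.trans h3.symm)
    exact h1 h2.symm
  · exact key a b h0

/-- the entry `(o, o)` is a trace form -/
theorem tau {a b : Matrix κ κ ℂ} (ha : a ∈ Al T) (hb : b ∈ Al T) : (a * b) o o = (b * a) o o := by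
  obtain ⟨x, rfl⟩ := exists_sum ha
  obtain ⟨y, rfl⟩ := exists_sum hb
  simp only [Finset.sum_mul, Finset.mul_sum, mul_smul_comm, smul_mul_assoc, Matrix.sum_apply, Matrix.smul_apply,
    smul_eq_mul]
  rw [Finset.sum_comm]
  refine Finset.sum_congr rfl fun k _ => Finset.sum_congr rfl fun m _ => ?_
  rw [h.tau_basis]
  ring

theorem mul_T {b : Matrix κ κ ℂ} (hb : b ∈ Al T) (k : κ) : b * T k = ∑ l, b l k • T l := by
  rw [h.eq_sum (h.mul_mem hb (mem_Al T k))]
  exact Finset.sum_congr rfl fun l _ => by rw [h.mul_col]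

theorem star_mul {b : Matrix κ κ ℂ} (hb : b ∈ Al T) (l : κ) : (T l)ᴴ * b = ∑ k, b l k • (T k)ᴴ := by
  have h1 := congrArg conjTranspose (h.mul_T (h.star_mem hb) l)
  rw [conjTranspose_mul, conjTranspose_conjTranspose, conjTranspose_sum] at h1
  rw [h1]
  exact Finset.sum_congr rfl fun k _ => by rw [conjTranspose_smul, conjTranspose_apply, star_star]

theorem Cas_comm (a : Matrix κ κ ℂ) {b : Matrix κ κ ℂ} (hb : b ∈ Al T) : Cas T a * b = b * Cas T a := by
  unfold Cas
  rw [Finset.sum_mul, Finset.mul_sum]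
  simp only [← mul_assoc, h.mul_T hb]
  simp only [mul_assoc, h.star_mul hb, Finset.mul_sum, Finset.sum_mul, mul_smul_comm, smul_mul_assoc]
  exact Finset.sum_comm

theorem Cas_mem {a : Matrix κ κ ℂ} (ha : a ∈ Al T) : Cas T a ∈ Al T :=
  Submodule.sum_mem _ fun k _ => h.mul_mem (h.mul_mem (mem_Al T k) ha) (h.star_mem (mem_Al T k))

theorem trace_eq {a : Matrix κ κ ℂ} (ha : a ∈ Al T) : a.trace = (a * Cas T 1) o o := by
  unfold Cas
  rw [Finset.mul_sum, Matrix.sum_apply, Matrix.trace]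
  refine Finset.sum_congr rfl fun k _ => ?_
  rw [mul_one, ← mul_assoc, h.tau (h.mul_mem ha (mem_Al T k)) (h.star_mem (mem_Al T k)), h.star_row, h.mul_col,
    Matrix.diag_apply]

theorem eq_sum' {a : Matrix κ κ ℂ} (ha : a ∈ Al T) : a = ∑ l, (a * T l) o o • (T l)ᴴ := by
  have h1 := congrArg conjTranspose (h.eq_sum (h.star_mem ha))
  rw [conjTranspose_conjTranspose, conjTranspose_sum] at h1
  refine h1.trans (Finset.sum_congr rfl fun l _ => ?_)
  rw [conjTranspose_smul, conjTranspose_apply, star_star, h.mul_col]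

theorem Cas_one : ∑ k, (T k)ᴴ * T k = Cas T 1 := by
  have h1 : ∀ k, (T k)ᴴ * T k = ∑ l, (T k * T l) o o • ((T k)ᴴ * (T l)ᴴ) := fun k => by
    simp only [← mul_smul_comm]
    rw [← Finset.mul_sum, ← h.eq_sum' (mem_Al T k)]
  have h2 : ∀ l, T l * 1 * (T l)ᴴ = ∑ k, (T l * T k) o o • ((T k)ᴴ * (T l)ᴴ) := fun l => by
    simp only [← smul_mul_assoc]
    rw [← Finset.sum_mul, ← h.eq_sum' (mem_Al T l), mul_one]
  unfold Cas
  simp only [h1, h2]
  rw [Finset.sum_comm]
  exact Finset.sum_congr rfl fun l _ => Finset.sum_congr rfl fun k _ => by rw [h.tau_basis]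

theorem eq_zero {a : Matrix κ κ ℂ} (ha : a ∈ Al T) (h0 : (aᴴ * a) o o = 0) : a = 0 := by
  have h1 : ∀ k, a k o = 0 := by
    have h2 : Star.star (fun k => a k o) ⬝ᵥ (fun k => a k o) = 0 := h0
    exact congrFun (dotProduct_star_self_eq_zero.1 h2)
  rw [h.eq_sum ha]
  exact Finset.sum_eq_zero fun k _ => by rw [h1, zero_smul]

theorem star_comm {a : Matrix κ κ ℂ} (ha : ∀ k, a * T k = T k * a) (k : κ) : aᴴ * T k = T k * aᴴ := by
  have h1 := congrArg conjTranspose (comm_of ha (h.star_mem (mem_Al T k)))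
  rw [conjTranspose_mul, conjTranspose_mul, conjTranspose_conjTranspose] at h1
  exact h1.symm

section block

variable {ι : Type} [Fintype ι] {c : ι → Matrix κ κ ℂ} (s : Sys T c)

include s

theorem tau_ne (i : ι) : c i o o ≠ 0 := by
  intro h0
  obtain ⟨μ, hμ⟩ := s.prim _ (h.star_mem (s.mem i)) (h.star_comm (s.comm i)) i
  refine s.ne i (h.eq_zero (s.mem i) ?_)
  rw [hμ, Matrix.smul_apply, h0, smul_zero]

theorem tau_Cas {a : Matrix κ κ ℂ} (ha : a ∈ Al T) (i : ι) : (Cas T a * c i) o o = (a * (Cas T 1 * c i)) o o := by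
  rw [← h.Cas_one]
  unfold Cas
  rw [Finset.sum_mul, Finset.sum_mul, Finset.mul_sum, Matrix.sum_apply, Matrix.sum_apply]
  refine Finset.sum_congr rfl fun k _ => ?_
  rw [mul_assoc, mul_assoc, h.tau (mem_Al T k) (h.mul_mem ha (h.mul_mem (h.star_mem (mem_Al T k)) (s.mem i))),
    mul_assoc, mul_assoc, s.comm, mul_assoc]

/-- the values of the Casimir elements on a block -/
theorem block (i : ι) : ∃ ζ : ℂ, Cas T 1 * c i = ζ • c i ∧ (c i).trace = ζ * c i o o ∧
    Om T * c i = (ζ ^ 2 / c i o o) • c i := by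
  have ht := h.tau_ne s i
  have hp : ∀ a ∈ Al T, ∃ μ : ℂ, Cas T a * c i = μ • c i := fun a ha =>
    s.prim _ (h.Cas_mem ha) (fun k => h.Cas_comm a (mem_Al T k)) i
  obtain ⟨ζ, hζ⟩ := hp 1 h.one
  have h1 : ∀ a ∈ Al T, Cas T a * c i = (ζ * (a * c i) o o / c i o o) • c i := fun a ha => by
    obtain ⟨μ, hμ⟩ := hp a ha
    have h2 := h.tau_Cas s ha i
    rw [hμ, hζ, mul_smul_comm, Matrix.smul_apply, Matrix.smul_apply, smul_eq_mul, smul_eq_mul] at h2
    rw [hμ, ← h2, mul_div_cancel_right₀ _ ht]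
  refine ⟨ζ, hζ, ?_, ?_⟩
  · rw [h.trace_eq (s.mem i), ← h.Cas_comm 1 (s.mem i), hζ, Matrix.smul_apply, smul_eq_mul]
  · have h2 : ∑ k, c i k o * (T k * c i) o o = c i o o := by
      have h3 : c i * c i = ∑ k, c i k o • (T k * c i) := by
        simp only [← smul_mul_assoc]
        rw [← Finset.sum_mul, ← h.eq_sum (s.mem i)]
      rw [s.idem] at h3
      conv_rhs => rw [h3, Matrix.sum_apply]
      rfl
    unfold Om
    rw [Finset.sum_mul]
    simp only [mul_assoc, h1 _ (h.star_mem (mem_Al T _)), mul_smul_comm, h1 _ (mem_Al T _), smul_smul, h.star_row]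
    rw [← Finset.sum_smul]
    congr 1
    have h3 : ∀ k, ζ * c i k o / c i o o * (ζ * (T k * c i) o o / c i o o) =
        ζ ^ 2 / c i o o / c i o o * (c i k o * (T k * c i) o o) := fun k => by ring
    simp only [h3]
    rw [← Finset.mul_sum, h2, div_mul_cancel₀ _ ht]

end block

end SA

theorem trace_idem {c : Matrix κ κ ℂ} (hc : c * c = c) (h0 : c ≠ 0) :
    ∃ D : ℕ, D ≠ 0 ∧ D ≤ Fintype.card κ ∧ c.trace = D := by
  have h1 : IsIdempotentElem (Matrix.toLin' c) := by
    unfold IsIdempotentElem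
    rw [Module.End.mul_eq_comp, ← Matrix.toLin'_mul, hc]
  have h2 := (LinearMap.IsIdempotentElem.isProj_range _ h1).trace
  rw [Matrix.trace_toLin'_eq] at h2
  refine ⟨_, fun h3 => h0 ?_, ?_, h2⟩
  · rw [Submodule.finrank_eq_zero, LinearMap.range_eq_bot] at h3
    exact Matrix.toLin'.injective (h3.trans (map_zero _).symm)
  · exact (Submodule.finrank_le _).trans (by rw [Module.finrank_fintype_fun_eq_card])

/-- `Dl` acts on a block by its dimension -/
theorem SA.Dl_mul (h : SA o T) {ι : Type} [Fintype ι] {c : ι → Matrix κ κ ℂ} (s : Sys T c) :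
    IsUnit (Om T).det ∧ ∀ i, Dl T * c i = (c i).trace • c i := by
  choose ζ h1 h2 h3 using h.block s
  have h4 : ∀ i, ζ i ≠ 0 := fun i h0 => by
    obtain ⟨D, hD, -, h5⟩ := trace_idem (s.idem i) (s.ne i)
    rw [h2, h0, zero_mul] at h5
    exact hD (by exact_mod_cast h5.symm)
  have h5 : ∀ i, ζ i ^ 2 / c i o o ≠ 0 := fun i => div_ne_zero (pow_ne_zero 2 (h4 i)) (h.tau_ne s i)
  have h6 : Om T * ∑ i, (ζ i ^ 2 / c i o o)⁻¹ • c i = 1 := by
    rw [Finset.mul_sum, ← s.sum]
    exact Finset.sum_congr rfl fun i _ => by rw [mul_smul_comm, h3, smul_smul, inv_mul_cancel₀ (h5 i), one_smul]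
  have h7 : IsUnit (Om T).det := Matrix.isUnit_det_of_right_inverse h6
  refine ⟨h7, fun i => ?_⟩
  have h8 : (Om T)⁻¹ * c i = (ζ i ^ 2 / c i o o)⁻¹ • c i := by
    have h9 := congrArg ((Om T)⁻¹ * ·) (h3 i)
    simp only [← mul_assoc, Matrix.nonsing_inv_mul _ h7, one_mul, mul_smul_comm] at h9
    exact ((inv_smul_eq_iff₀ (h5 i)).2 h9).symm
  have h9 := h.tau_ne s i
  have h10 := h4 i
  unfold Dl
  rw [mul_assoc, h8, mul_smul_comm, pow_three, mul_assoc, mul_assoc, h1, mul_smul_comm, h1, smul_smul,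
    mul_smul_comm, h1, smul_smul, smul_smul, h2]
  congr 1
  field_simp

/-- the centre -/
def Zc (h : SA o T) : Subalgebra ℂ (Matrix κ κ ℂ) where
  carrier := {a | a ∈ Al T ∧ ∀ k, a * T k = T k * a}
  mul_mem' ha hb := ⟨h.mul_mem ha.1 hb.1, fun k => by rw [mul_assoc, hb.2, ← mul_assoc, ha.2, mul_assoc]⟩
  add_mem' ha hb := ⟨add_mem ha.1 hb.1, fun k => by rw [add_mul, mul_add, ha.2, hb.2]⟩
  algebraMap_mem' r := ⟨by rw [Algebra.algebraMap_eq_smul_one]; exact Submodule.smul_mem _ _ h.one,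
    fun k => Algebra.commutes r (T k)⟩

theorem exists_idem (R : Type) [CommRing R] [Algebra ℂ R] [Module.Finite ℂ R] [IsReduced R] :
    ∃ (ι : Type) (_ : Fintype ι) (c : ι → R), (∀ i, c i * c i = c i) ∧ ∑ i, c i = 1 ∧ (∀ i, c i ≠ 0) ∧
      ∀ a i, ∃ μ : ℂ, a * c i = μ • c i := by
  classical
  have : IsArtinianRing R := IsArtinianRing.of_finite ℂ R
  let _ : Fintype (MaximalSpectrum R) := Fintype.ofFinite _
  let φ := IsArtinianRing.equivPi R
  refine ⟨MaximalSpectrum R, inferInstance, fun i => φ.symm (Pi.single i 1), fun i => ?_, ?_, fun i h0 => ?_,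
    fun a i => ?_⟩
  · rw [← map_mul, ← Pi.single_mul, mul_one]
  · rw [← map_sum]
    exact (congrArg φ.symm (Finset.univ_sum_single (1 : ∀ I : MaximalSpectrum R, R ⧸ I.asIdeal))).trans (map_one _)
  · have h1 := congrFun (φ.symm.injective (h0.trans (map_zero _).symm)) i
    have := i.isMaximal
    rw [Pi.single_eq_same] at h1
    exact one_ne_zero h1
  · have := i.isMaximal
    obtain ⟨μ, hμ⟩ := (IsAlgClosed.algebraMap_bijective_of_isIntegral (k := ℂ) (K := R ⧸ i.asIdeal)).2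
      (Ideal.Quotient.mk _ a)
    refine ⟨μ, φ.injective ?_⟩
    rw [Algebra.smul_def, map_mul, map_mul, AlgEquiv.apply_symm_apply]
    funext j
    rw [Pi.mul_apply, Pi.mul_apply]
    by_cases hj : j = i
    · subst hj
      rw [IsArtinianRing.equivPi_apply, IsArtinianRing.equivPi_apply]
      exact congrArg (· * _) hμ.symm
    · rw [Pi.single_eq_of_ne hj, mul_zero, mul_zero]

theorem SA.exists_sys (h : SA o T) : ∃ (ι : Type) (_ : Fintype ι) (c : ι → Matrix κ κ ℂ), Sys T c := by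
  let _ : CommRing (Zc h) := { (inferInstance : Ring (Zc h)) with
    mul_comm := fun a b => Subtype.ext (comm_of a.2.2 b.2.1) }
  have : IsReduced (Zc h) := by
    rw [isReduced_iff_pow_one_lt 2 (by norm_num)]
    intro a ha
    have h1 : a.1 * a.1 = 0 := by
      have h2 := congrArg Subtype.val ha
      rwa [pow_two] at h2
    have h2 : (a.1ᴴ * a.1)ᴴ * (a.1ᴴ * a.1) = 0 := by
      rw [conjTranspose_mul, conjTranspose_conjTranspose, mul_assoc, ← mul_assoc a.1, comm_of a.2.2 (h.star_mem a.2.1),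
        mul_assoc, h1, mul_zero, mul_zero]
    exact Subtype.ext (conjTranspose_mul_self_eq_zero.1 (conjTranspose_mul_self_eq_zero.1 h2))
  obtain ⟨ι, _, c, h1, h2, h3, h4⟩ := exists_idem (Zc h)
  refine ⟨ι, inferInstance, fun i => (c i).1, fun i => (c i).2.1, fun i => (c i).2.2,
    fun i => congrArg Subtype.val (h1 i), ?_, fun i h0 => h3 i (Subtype.ext h0), fun a ha hb i => ?_⟩
  · exact (map_sum (Zc h).val c Finset.univ).symm.trans (congrArg Subtype.val h2)
  · obtain ⟨μ, hμ⟩ := h4 ⟨a, ha, hb⟩ i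
    exact ⟨μ, congrArg Subtype.val hμ⟩

end Cfsg.Agent.MK.Y
end

-- part: MK/Y/SymB
section
set_option linter.all false
open scoped Cfsg.Agent.FastGrp

/-!
# MK (S4596): the number of blocks of a given dimension is constant in a continuous family (helper72)
-/

set_option autoImplicit false
set_option linter.unusedSectionVars false

namespace Cfsg.Agent.MK.Y

open Cfsg Matrix Polynomial
open scoped ComplexConjugate Classical

variable {κ : Type} [Fintype κ] [DecidableEq κ]

theorem aeval_mul {a c : Matrix κ κ ℂ} {μ : ℂ} (h : a * c = μ • c) (P : ℂ[X]) : aeval a P * c = P.eval μ • c := by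
  induction P using Polynomial.induction_on' with
  | add P Q hP hQ => rw [map_add, add_mul, hP, hQ, eval_add, add_smul]
  | monomial n r =>
    have h1 : a ^ n * c = μ ^ n • c := by
      induction n with
      | zero => rw [pow_zero, pow_zero, one_mul, one_smul]
      | succ n ih => rw [pow_succ, mul_assoc, h, mul_smul_comm, ih, smul_smul, pow_succ']
    rw [aeval_monomial, eval_monomial, mul_assoc, h1, ← Algebra.smul_def, smul_smul]

theorem exists_poly (S : Finset ℂ) (r : ℂ) : ∃ P : ℂ[X], ∀ μ ∈ S, P.eval μ = if μ = r then 1 else 0 :=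
  ⟨Lagrange.interpolate S id fun μ => if μ = r then 1 else 0, fun _ hμ =>
    Lagrange.eval_interpolate_at_node (fun μ => if μ = r then (1 : ℂ) else 0) (Set.injOn_id _) hμ⟩

/-- a projection to an eigenspace -/
theorem exists_proj (a : Matrix κ κ ℂ) (r : ℂ) : ∃ F : Matrix κ κ ℂ, ∀ (c : Matrix κ κ ℂ) (μ : ℂ), c ≠ 0 → a * c = μ • c →
    F * c = (if μ = r then (1 : ℂ) else 0) • c := by
  obtain ⟨P, hP⟩ := exists_poly a.charpoly.roots.toFinset r
  refine ⟨aeval a P, fun c μ hc h => ?_⟩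
  have h1 := aeval_mul h a.charpoly
  rw [Matrix.aeval_self_charpoly, zero_mul] at h1
  have h2 : a.charpoly.eval μ = 0 := (smul_eq_zero.1 h1.symm).resolve_right hc
  rw [aeval_mul h, hP μ (Multiset.mem_toFinset.2 ((mem_roots a.charpoly_monic.ne_zero).2 h2))]

theorem exists_proj_all {Z : Type} [Finite Z] (E : Z → Matrix κ κ ℂ) (l : Z → ℂ) : ∃ F : Matrix κ κ ℂ,
    ∀ c : Matrix κ κ ℂ, c ≠ 0 → (∀ z, ∃ μ : ℂ, E z * c = μ • c) →
      F * c = (if ∀ z, E z * c = l z • c then (1 : ℂ) else 0) • c := by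
  have key : ∀ L : List Z, ∃ F : Matrix κ κ ℂ, ∀ c : Matrix κ κ ℂ, c ≠ 0 → (∀ z, ∃ μ : ℂ, E z * c = μ • c) →
      F * c = (if ∀ z ∈ L, E z * c = l z • c then (1 : ℂ) else 0) • c := by
    intro L
    induction L with
    | nil => exact ⟨1, fun c _ _ => by simp⟩
    | cons z L ih =>
      obtain ⟨F, hF⟩ := ih
      obtain ⟨G, hG⟩ := exists_proj (E z) (l z)
      refine ⟨G * F, fun c hc h => ?_⟩
      obtain ⟨μ, hμ⟩ := h z
      have h1 : E z * c = l z • c ↔ μ = l z := by
        rw [hμ]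
        exact ⟨fun h2 => smul_left_injective ℂ hc h2, fun h2 => by rw [h2]⟩
      rw [mul_assoc, hF c hc h, mul_smul_comm, hG c μ hc hμ, smul_smul]
      simp only [List.forall_mem_cons, h1]
      by_cases h2 : μ = l z <;> by_cases h3 : ∀ z ∈ L, E z * c = l z • c <;> simp [h2, h3]
  have := Fintype.ofFinite Z
  obtain ⟨F, hF⟩ := key (Finset.univ : Finset Z).toList
  refine ⟨F, fun c hc h => ?_⟩
  rw [hF c hc h]
  by_cases h1 : ∀ z, E z * c = l z • c
  · rw [if_pos h1, if_pos fun z _ => h1 z]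
  · rw [if_neg h1, if_neg fun h2 => h1 fun z => h2 z (Finset.mem_toList.2 (Finset.mem_univ z))]

/-- the number of blocks of dimension `D` with given central values -/
noncomputable def nb {ι Z : Type} (c : ι → Matrix κ κ ℂ) (E : Z → Matrix κ κ ℂ) (l : Z → ℂ) (D : ℕ) : ℕ :=
  Nat.card {i // (c i).trace = D ∧ ∀ z, E z * c i = l z • c i}

theorem trace_formula {o : κ} {T : κ → Matrix κ κ ℂ} (h : SA o T) {ι Z : Type} [Fintype ι] {c : ι → Matrix κ κ ℂ}
    (s : Sys T c) {E : Z → Matrix κ κ ℂ} (hE : Cen T E) {l : Z → ℂ} {D : ℕ} {P : ℂ[X]} {F : Matrix κ κ ℂ}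
    (hP : ∀ j : ℕ, j ≤ Fintype.card κ → P.eval (j : ℂ) = if (j : ℂ) = D then 1 else 0)
    (hF : ∀ c : Matrix κ κ ℂ, c ≠ 0 → (∀ z, ∃ μ : ℂ, E z * c = μ • c) →
      F * c = (if ∀ z, E z * c = l z • c then (1 : ℂ) else 0) • c) :
    (aeval (Dl T) P * F).trace = D * nb c E l D := by
  have h1 : ∀ i, (aeval (Dl T) P * F * c i).trace =
      if (c i).trace = D ∧ ∀ z, E z * c i = l z • c i then (D : ℂ) else 0 := fun i => by
    obtain ⟨j, -, hj, h2⟩ := trace_idem (s.idem i) (s.ne i)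
    rw [mul_assoc, hF _ (s.ne i) fun z => s.prim _ (hE.mem z) (hE.comm z) i, mul_smul_comm,
      aeval_mul ((h.Dl_mul s).2 i), Matrix.trace_smul, Matrix.trace_smul, h2, hP j hj]
    by_cases h3 : (j : ℂ) = D <;> by_cases h4 : ∀ z, E z * c i = l z • c i <;> simp [h3, h4]
  rw [← mul_one (aeval (Dl T) P * F), ← s.sum, Finset.mul_sum, Matrix.trace_sum]
  simp only [h1]
  rw [← Finset.sum_filter, Finset.sum_const, nsmul_eq_mul, mul_comm, nb, Nat.card_eq_fintype_card, Fintype.card_subtype]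

theorem continuous_Dl {o : κ} {T : ℝ → κ → Matrix κ κ ℂ} (hc : ∀ a, Continuous fun x => T x a) (hS : ∀ x, SA o (T x)) :
    Continuous fun x => Dl (T x) := by
  have h1 : ∀ f : ℝ → Matrix κ κ ℂ, Continuous f → Continuous fun x => Cas (T x) (f x) := fun f hf =>
    continuous_finsetSum _ fun k _ => ((hc k).mul hf).mul (hc k).matrix_conjTranspose
  have h2 : Continuous fun x => Om (T x) :=
    continuous_finsetSum _ fun k _ => (h1 _ (hc k)).mul (h1 _ (hc k).matrix_conjTranspose)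
  refine ((h1 _ continuous_const).pow 3).mul (continuous_iff_continuousAt.2 fun x => ?_)
  obtain ⟨ι, _, c, s⟩ := (hS x).exists_sys
  obtain ⟨u, hu⟩ := ((hS x).Dl_mul s).1
  refine ContinuousAt.comp (g := fun A : Matrix κ κ ℂ => A⁻¹) (continuousAt_matrix_inv _ ?_) h2.continuousAt
  rw [← hu]
  exact NormedRing.inverse_continuousAt u

/-- **constancy** -/
theorem nb_const {o : κ} {T : ℝ → κ → Matrix κ κ ℂ} (hc : ∀ a, Continuous fun x => T x a) (hS : ∀ x, SA o (T x))
    {Z : Type} [Finite Z] {E : Z → Matrix κ κ ℂ} (hE : ∀ x, Cen (T x) E) (l : Z → ℂ) {D : ℕ} (hD : D ≠ 0) {x y : ℝ}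
    {ι ι' : Type} [Fintype ι] [Fintype ι'] {c : ι → Matrix κ κ ℂ} {c' : ι' → Matrix κ κ ℂ} (s : Sys (T x) c)
    (s' : Sys (T y) c') : nb c E l D = nb c' E l D := by
  obtain ⟨P, hP⟩ := exists_poly ((Finset.range (Fintype.card κ + 1)).image Nat.cast) D
  have hP' : ∀ j : ℕ, j ≤ Fintype.card κ → P.eval (j : ℂ) = if (j : ℂ) = D then 1 else 0 := fun j hj =>
    hP _ (Finset.mem_image_of_mem _ (Finset.mem_range.2 (by omega)))
  obtain ⟨F, hF⟩ := exists_proj_all E l
  have hD' : (D : ℂ) ≠ 0 := Nat.cast_ne_zero.2 hD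
  have h1 : Continuous fun x => (aeval (Dl (T x)) P * F).trace / D :=
    (((P.continuous_aeval.comp (continuous_Dl hc hS)).mul continuous_const).matrix_trace).div_const _
  have h2 : ∀ x, ∃ n : ℕ, (n : ℂ) = (aeval (Dl (T x)) P * F).trace / D := fun x => by
    obtain ⟨ι, _, c, s⟩ := (hS x).exists_sys
    exact ⟨_, by rw [trace_formula (hS x) s (hE x) hP' hF, mul_div_cancel_left₀ _ hD']⟩
  choose n hn using h2
  have h3 : Continuous n := by
    rw [Nat.isClosedEmbedding_coe_real.isInducing.continuous_iff]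
    exact (Complex.continuous_re.comp h1).congr fun x => by
      rw [Function.comp_apply, ← hn x, Complex.natCast_re, Function.comp_apply]
  have h4 : n x = n y := PreconnectedSpace.constant inferInstance h3
  have h5 := hn x
  rw [h4, hn y, trace_formula (hS x) s (hE x) hP' hF, trace_formula (hS y) s' (hE y) hP' hF,
    mul_div_cancel_left₀ _ hD', mul_div_cancel_left₀ _ hD'] at h5
  exact_mod_cast h5.symm

end Cfsg.Agent.MK.Y

private theorem dce_a1cb8e969122 : _root_.True := by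
  try have : _root_.True := by simp only [_root_.Cfsg.Agent.MK.Y.Dl.congr_simp]
  try have : _root_.True := by simp only [_root_.Cfsg.Agent.MK.Y.nb.eq_1]
  exact _root_.True.intro
end

-- part: MK/Y/Sym
section
prune_inst 0x2089100000000000000000000000000000000000
set_option linter.all false
open scoped Cfsg.Agent.FastGrp

/-!
# MK (S4596): the blocks of `e ℂH e`, and `deform : Deform` (helper72)
-/

set_option autoImplicit false
set_option linter.unusedSectionVars false

namespace Cfsg.Agent.MK.Y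

open Cfsg Matrix Cfsg.Agent.Blocks.GroupAlg Cfsg.Agent.Characters.Core
open Cfsg.Agent.H992.HT (sg)
open scoped Classical

variable {H : Type} [Group H] [Fintype H]

/-- the sum of the conjugates -/
noncomputable def Sc (a : MonoidAlgebra ℂ H) : MonoidAlgebra ℂ H := ∑ g : H, sg g * a * sg g⁻¹

theorem Sc_mem (a : MonoidAlgebra ℂ H) : Sc a ∈ Subalgebra.center ℂ (MonoidAlgebra ℂ H) := by
  rw [Subalgebra.mem_center_iff]
  intro b
  have h1 : ∀ x : H, sg x * Sc a = Sc a * sg x := fun x => by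
    unfold Sc
    rw [Finset.mul_sum, Finset.sum_mul]
    refine Fintype.sum_equiv (Equiv.mulLeft x) _ _ fun g => ?_
    rw [Equiv.coe_mulLeft, mul_assoc _ (sg (x * g)⁻¹), H992.HT.sg_mul, ← H992.HT.sg_mul x g, _root_.mul_inv_rev,
      inv_mul_cancel_right]
    simp only [mul_assoc]
  rw [H992.HT.eq_sum b, Finset.sum_mul, Finset.mul_sum]
  exact Finset.sum_congr rfl fun x _ => by rw [smul_mul_assoc, mul_smul_comm, h1]

theorem omega_Sc (χ : IrrCharacter H) (a : MonoidAlgebra ℂ H) :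
    omega (χ : H → ℂ) (Sc a) = Nat.card H * lin (χ : H → ℂ) a / (χ : H → ℂ) 1 := by
  unfold Sc
  rw [omega_def, map_sum, Finset.sum_congr rfl (g := fun _ => lin (χ : H → ℂ) a), Finset.sum_const, Finset.card_univ,
    nsmul_eq_mul, Nat.card_eq_fintype_card]
  intro g _
  rw [H992.HT.lin_comm χ.2, ← mul_assoc, H992.HT.sg_mul, inv_mul_cancel, H992.HT.sg_one, one_mul]

theorem mul_idem {x : MonoidAlgebra ℂ H} (hx : x ∈ Subalgebra.center ℂ (MonoidAlgebra ℂ H)) (χ : IrrCharacter H) :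
    x * idem {χ} = omega (χ : H → ℂ) x • idem {χ} := by
  refine ext_omega (Subalgebra.mul_mem _ hx (idem_mem_center _)) (Subalgebra.smul_mem _ (idem_mem_center _) _)
    fun ψ hψ => ?_
  have h1 := omega_idem ({χ} : Set (IrrCharacter H)) ⟨ψ, hψ⟩
  have h2 : omega ψ (omega (χ : H → ℂ) x • idem {χ}) = omega (χ : H → ℂ) x * omega ψ (idem {χ}) := by
    rw [omega_def ψ, map_smul, smul_eq_mul, mul_div_assoc, ← omega_def]
  rw [omega_mul hψ hx, h2]
  simp only at h1
  rw [h1]
  split_ifs with h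
  · rw [← Set.mem_singleton_iff.1 h]
  · rw [mul_zero, mul_zero]

theorem sum_idem [Fintype (IrrCharacter H)] : ∑ χ : IrrCharacter H, idem {χ} = (1 : MonoidAlgebra ℂ H) := by
  refine ext_omega (Subalgebra.sum_mem _ fun χ _ => idem_mem_center _) (Subalgebra.one_mem _) fun ψ hψ => ?_
  have h1 : ∀ χ : IrrCharacter H, lin ψ (idem {χ}) = if χ = ⟨ψ, hψ⟩ then lin ψ 1 else 0 := fun χ => by
    have h2 := H992.HT.lin_idem_mul {χ} ⟨ψ, hψ⟩ 1
    rw [mul_one] at h2
    exact h2.trans (if_congr (Set.mem_singleton_iff.trans eq_comm) rfl rfl)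
  rw [omega_def, omega_def, map_sum]
  simp only [h1]
  rw [Finset.sum_ite_eq', if_pos (Finset.mem_univ _)]

theorem trace_two (x y : MonoidAlgebra ℂ H) [Fintype (IrrCharacter H)] :
    LinearMap.trace ℂ (MonoidAlgebra ℂ H) (LinearMap.mulLeft ℂ x ∘ₗ LinearMap.mulRight ℂ y) =
      ∑ ψ : IrrCharacter H, lin (ψ : H → ℂ) x * lin (ψ : H → ℂ) y := by
  have hG : (Nat.card H : ℂ) ≠ 0 := card_ne_zero_complex
  have h1 : LinearMap.trace ℂ (MonoidAlgebra ℂ H) (LinearMap.mulLeft ℂ x ∘ₗ LinearMap.mulRight ℂ y) =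
      (Sc x * y).coeff 1 := by
    rw [LinearMap.trace_eq_matrix_trace ℂ (MonoidAlgebra.basis H ℂ), Matrix.trace]
    unfold Sc
    rw [Finset.sum_mul, MonoidAlgebra.coeff_sum, Finsupp.finsetSum_apply]
    refine Fintype.sum_equiv (Equiv.inv H) _ _ fun g => ?_
    rw [Matrix.diag_apply, LinearMap.toMatrix_apply, Equiv.inv_apply, inv_inv, mul_assoc, mul_assoc,
      MonoidAlgebra.coeff_single_mul_apply, one_mul, inv_inv, mul_one]
    rfl
  refine mul_left_cancel₀ hG ?_
  rw [h1, H992.HT.coeff_one, Finset.mul_sum]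
  refine Finset.sum_congr rfl fun ψ _ => ?_
  have h2 := isIrr_apply_one_ne_zero ψ.2
  rw [lin_mul_of_mem_center ψ.2 (Sc_mem x), omega_Sc]
  field_simp

variable {κ : Type} [Fintype κ] [DecidableEq κ] {e : MonoidAlgebra ℂ H} {b : κ → MonoidAlgebra ℂ H} {Z : Type}
  {f : Z → MonoidAlgebra ℂ H} {T : κ → Matrix κ κ ℂ} {E : Z → Matrix κ κ ℂ}

local notation "ep" => Blocks.GroupAlg.idem

namespace Rz

variable (r : Rz H e b f T E)

include r

theorem mem_iff {a : MonoidAlgebra ℂ H} : a ∈ Submodule.span ℂ (Set.range b) ↔ e * a * e = a := by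
  constructor
  · intro ha
    obtain ⟨x, rfl⟩ := (Submodule.mem_span_range_iff_exists_fun ℂ).1 ha
    rw [Finset.mul_sum, Finset.sum_mul]
    exact Finset.sum_congr rfl fun k _ => by rw [mul_smul_comm, smul_mul_assoc, r.mem]
  · intro ha
    rw [← ha, H992.HT.eq_sum a, Finset.mul_sum, Finset.sum_mul]
    exact Submodule.sum_mem _ fun g _ => by
      rw [mul_smul_comm, smul_mul_assoc]
      exact Submodule.smul_mem _ _ (r.span g)

theorem left {a : MonoidAlgebra ℂ H} (ha : e * a * e = a) : e * a = a := by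
  rw [← ha, ← mul_assoc, ← mul_assoc, r.idem]

theorem right {a : MonoidAlgebra ℂ H} (ha : e * a * e = a) : a * e = a := by
  rw [← ha, mul_assoc, r.idem]

/-- the regular representation -/
theorem exists_rep : ∃ Φ : MonoidAlgebra ℂ H →ₗ[ℂ] Matrix κ κ ℂ,
    (∀ (a : MonoidAlgebra ℂ H) (A : Matrix κ κ ℂ), (∀ m, a * b m = ∑ l, A l m • b l) → Φ a = A) ∧
    (∀ a, e * a = a * e → ∀ m, a * b m = ∑ l, Φ a l m • b l) ∧
    ∀ a, e * a * e = a → (Φ a).trace =
      LinearMap.trace ℂ (MonoidAlgebra ℂ H) (LinearMap.mulLeft ℂ a ∘ₗ LinearMap.mulRight ℂ e) := by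
  obtain ⟨co, hco⟩ := (Fintype.linearCombination ℂ b).exists_leftInverse_of_injective
    (LinearMap.ker_eq_bot.2 (linearIndependent_iff_injective_fintypeLinearCombination.1 r.li))
  have h1 : ∀ x : κ → ℂ, co (∑ l, x l • b l) = x := fun x => LinearMap.congr_fun hco x
  have h2 : ∀ y, e * y * e = y → ∑ l, co y l • b l = y := fun y hy => by
    obtain ⟨x, rfl⟩ := (Submodule.mem_span_range_iff_exists_fun ℂ).1 (r.mem_iff.2 hy)
    rw [h1]
  let Φ : MonoidAlgebra ℂ H →ₗ[ℂ] Matrix κ κ ℂ :=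
    { toFun := fun a => Matrix.of fun l m => co (a * b m) l
      map_add' := fun a a' => by
        ext l m
        simp only [Matrix.of_apply, Matrix.add_apply, add_mul, map_add, Pi.add_apply]
      map_smul' := fun c a => by
        ext l m
        simp only [Matrix.of_apply, Matrix.smul_apply, smul_mul_assoc, map_smul, Pi.smul_apply, RingHom.id_apply] }
  refine ⟨Φ, fun a A h => ?_, fun a ha m => (h2 _ ?_).symm, fun a ha => ?_⟩
  · ext l m
    change co (a * b m) l = A l m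
    rw [h, h1]
  · rw [← mul_assoc, ha, mul_assoc, mul_assoc, ← mul_assoc e, r.mem]
  · have h3 : LinearMap.mulLeft ℂ a ∘ₗ LinearMap.mulRight ℂ e =
        Fintype.linearCombination ℂ b ∘ₗ (co ∘ₗ (LinearMap.mulLeft ℂ a ∘ₗ LinearMap.mulRight ℂ e)) := by
      refine LinearMap.ext fun y => (h2 (a * (y * e)) ?_).symm
      rw [← mul_assoc, r.left ha, mul_assoc, mul_assoc, r.idem]
    rw [h3, LinearMap.trace_comp_comm', ← Matrix.trace_toLin'_eq]
    congr 1
    refine (Pi.basisFun ℂ κ).ext fun m => funext fun l => ?_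
    simp only [Pi.basisFun_apply, Matrix.toLin'_apply, Matrix.mulVec_single_one, LinearMap.comp_apply,
      Fintype.linearCombination_apply_single, one_smul, LinearMap.mulRight_apply, LinearMap.mulLeft_apply,
      r.right (r.mem m)]
    rfl

/-- the blocks of `e ℂH e` -/
theorem exists_sys [Fintype (IrrCharacter H)] : ∃ c : {χ : IrrCharacter H // lin (χ : H → ℂ) e ≠ 0} → Matrix κ κ ℂ,
    Sys T c ∧ ∀ i, (c i).trace = lin (i.1 : H → ℂ) e ^ 2 ∧
      ∀ z (μ : ℂ), E z * c i = μ • c i ↔ lin (i.1 : H → ℂ) (f z) = μ * (i.1 : H → ℂ) 1 := by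
  obtain ⟨Φ, h1, h2, h3⟩ := r.exists_rep
  have hT : ∀ k, Φ (b k) = T k := fun k => h1 _ _ (r.mul k)
  have hE : ∀ z, Φ (f z) = E z := fun z => h1 _ _ (r.act z)
  have hc : ∀ {a}, e * a * e = a → e * a = a * e := fun ha => (r.left ha).trans (r.right ha).symm
  have hmul : ∀ a a', e * a = a * e → e * a' = a' * e → Φ (a * a') = Φ a * Φ a' := fun a a' ha ha' => by
    refine h1 _ _ fun m => ?_
    rw [mul_assoc, h2 a' ha', Finset.mul_sum]
    simp only [mul_smul_comm, h2 a ha, Finset.smul_sum, smul_smul, Matrix.mul_apply, Finset.sum_smul]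
    rw [Finset.sum_comm]
    exact Finset.sum_congr rfl fun l _ => Finset.sum_congr rfl fun k _ => by rw [mul_comm]
  have hone : Φ e = 1 := h1 _ _ fun m => by
    simp only [Matrix.one_apply, ite_smul, one_smul, zero_smul, Finset.sum_ite_eq', Finset.mem_univ, if_true]
    exact r.left (r.mem m)
  have hinj : ∀ a, e * a * e = a → Φ a = 0 → a = 0 := fun a ha h0 => by
    obtain ⟨x, hx⟩ := (Submodule.mem_span_range_iff_exists_fun ℂ).1 (r.mem_iff.2 (by rw [r.idem, r.idem] : e * e * e = e))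
    rw [← r.right ha, ← hx, Finset.mul_sum]
    refine Finset.sum_eq_zero fun m _ => ?_
    rw [mul_smul_comm, h2 a (hc ha), h0]
    simp only [Matrix.zero_apply, zero_smul, Finset.sum_const_zero, smul_zero]
  have hmem : ∀ a, e * a * e = a → Φ a ∈ Al T := fun a ha => by
    obtain ⟨x, rfl⟩ := (Submodule.mem_span_range_iff_exists_fun ℂ).1 (r.mem_iff.2 ha)
    rw [map_sum]
    exact Submodule.sum_mem _ fun k _ => by
      rw [map_smul, hT]
      exact Submodule.smul_mem _ _ (mem_Al T k)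
  have hi : ∀ χ : IrrCharacter H, e * (ep {χ} * e) * e = ep {χ} * e := fun χ => by
    rw [← mul_assoc, ← H992.HT.idem_comm, mul_assoc _ e e, r.idem, mul_assoc, r.idem]
  have hid : ∀ χ : IrrCharacter H, ep {χ} * e * (ep {χ} * e) = ep {χ} * e := fun χ => by
    rw [mul_assoc, r.left (hi χ), ← mul_assoc, idem_mul_idem]
  have hl : ∀ χ ψ : IrrCharacter H, lin (ψ : H → ℂ) (ep {χ} * e) = if ψ = χ then lin (ψ : H → ℂ) e else 0 :=
    fun χ ψ => (H992.HT.lin_idem_mul {χ} ψ e).trans (if_congr Set.mem_singleton_iff rfl rfl)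
  have hne : ∀ χ : IrrCharacter H, lin (χ : H → ℂ) e ≠ 0 → Φ (ep {χ} * e) ≠ 0 := fun χ h h0 => by
    have h4 := hl χ χ
    rw [hinj _ (hi χ) h0, map_zero, if_pos rfl] at h4
    exact h h4.symm
  refine ⟨fun i => Φ (ep {i.1} * e), ⟨fun i => hmem _ (hi _), fun i k => ?_, fun i => ?_, ?_, fun i => hne _ i.2,
    fun A hA hA' i => ?_⟩, fun i => ⟨?_, fun z μ => ?_⟩⟩
  · rw [← hT, ← hmul _ _ (hc (hi _)) (hc (r.mem k)), ← hmul _ _ (hc (r.mem k)) (hc (hi _)), mul_assoc,
      r.left (r.mem k), ← mul_assoc, ← H992.HT.idem_comm, mul_assoc, r.right (r.mem k)]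
  · rw [← hmul _ _ (hc (hi _)) (hc (hi _)), hid]
  · rw [← map_sum, ← hone]
    congr 1
    conv_rhs => rw [← one_mul e, ← sum_idem, Finset.sum_mul]
    rw [← Finset.sum_subtype (Finset.univ.filter fun χ : IrrCharacter H => lin (χ : H → ℂ) e ≠ 0) (by simp)
      fun χ => ep {χ} * e]
    refine Finset.sum_filter_of_ne fun χ _ h h0 => h (H992.HT.idem_eq_zero (hid χ) fun ψ => ?_)
    rw [hl]
    split_ifs with h4
    · rwa [h4]
    · rfl
  · obtain ⟨x, rfl⟩ := exists_sum hA
    obtain ⟨a, ha⟩ : ∃ a, a = ∑ k, x k • b k := ⟨_, rfl⟩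
    have a1 : e * a * e = a := r.mem_iff.1 ((Submodule.mem_span_range_iff_exists_fun ℂ).2 ⟨x, ha.symm⟩)
    have a2 : Φ a = ∑ k, x k • T k := by simp only [ha, map_sum, map_smul, hT]
    have a3 : ∀ y, e * y * e = y → a * y = y * a := fun y hy => by
      rw [← sub_eq_zero]
      refine hinj _ ?_ ?_
      · rw [mul_sub, sub_mul, ← mul_assoc, ← mul_assoc, r.left a1, r.left hy, mul_assoc, mul_assoc, r.right a1,
          r.right hy]
      · rw [map_sub, hmul _ _ (hc a1) (hc hy), hmul _ _ (hc hy) (hc a1), a2, comm_of hA' (hmem y hy), sub_self]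
    have a4 : Sc a * e = Sc e * a := by
      have a5 : ∀ y, Sc y * e = e * Sc y * e := fun y => by
        rw [(Subalgebra.mem_center_iff.1 (Sc_mem y)) e, mul_assoc, r.idem]
      rw [← r.left a1, ← mul_assoc, r.left a1, a5, a5]
      unfold Sc
      simp only [Finset.mul_sum, Finset.sum_mul]
      refine Finset.sum_congr rfl fun g _ => ?_
      have a6 := a3 (e * sg g⁻¹ * e) (by rw [← mul_assoc, ← mul_assoc, r.idem, mul_assoc, r.idem])
      rw [← mul_assoc, ← mul_assoc, r.right a1] at a6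
      simp only [mul_assoc] at a6 ⊢
      rw [a6]
    have a5 : omega (i.1 : H → ℂ) (Sc e) ≠ 0 := by
      rw [omega_Sc]
      exact div_ne_zero (mul_ne_zero card_ne_zero_complex i.2) (isIrr_apply_one_ne_zero i.1.2)
    have a6 := congrArg (ep {i.1} * ·) a4
    simp only [← mul_assoc, H992.HT.idem_comm _ (Sc _), mul_idem (Sc_mem _), smul_mul_assoc] at a6
    refine ⟨(omega (i.1 : H → ℂ) (Sc e))⁻¹ * omega (i.1 : H → ℂ) (Sc a), ?_⟩
    rw [← a2, ← hmul _ _ (hc a1) (hc (hi _)), ← map_smul, ← smul_smul, a6, smul_smul, inv_mul_cancel₀ a5, one_smul,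
      ← mul_assoc, ← H992.HT.idem_comm, mul_assoc, r.right a1]
  · rw [h3 _ (hi _), trace_two]
    simp only [hl, ite_mul, zero_mul, Finset.sum_ite_eq', Finset.mem_univ, if_true, pow_two]
  · have a1 : f z ∈ Subalgebra.center ℂ (MonoidAlgebra ℂ H) := Subalgebra.mem_center_iff.2 fun x => (r.cen z x).symm
    rw [← hE, ← hmul _ _ (r.cen z e).symm (hc (hi _)), ← mul_assoc, mul_idem a1, smul_mul_assoc, map_smul,
      (smul_left_injective ℂ (hne _ i.2)).eq_iff, omega_def, div_eq_iff (isIrr_apply_one_ne_zero i.1.2)]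

theorem exists_nb (l : Z → ℂ) {d : ℕ} (hd : d ≠ 0) : ∃ (ι : Type) (_ : Fintype ι) (c : ι → Matrix κ κ ℂ),
    Sys T c ∧ nb c E l (d ^ 2) = cnt H e f l d := by
  have := finite_irr (G := H)
  have := Fintype.ofFinite (IrrCharacter H)
  obtain ⟨c, s, h⟩ := r.exists_sys
  refine ⟨_, inferInstance, c, s, Nat.card_congr
    { toFun := fun i => ⟨i.1.1, i.1.1.2, fun z => ?_, ?_⟩
      invFun := fun χ => ⟨⟨⟨χ.1, χ.2.1⟩, ?_⟩, ?_, fun z => ?_⟩
      left_inv := fun _ => rfl
      right_inv := fun _ => rfl }⟩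
  · rw [ev_eq]
    exact ((h i.1).2 z _).1 (i.2.2 z)
  · obtain ⟨m, hm⟩ := H992.HT.exists_nat i.1.1.2 r.idem
    have h1 := i.2.1
    rw [(h i.1).1, hm] at h1
    have h2 : m ^ 2 = d ^ 2 := by exact_mod_cast h1
    rw [ev_eq, hm, Nat.pow_left_injective (by norm_num) h2]
  · rw [← ev_eq, χ.2.2.2]
    exact Nat.cast_ne_zero.2 hd
  · rw [(h _).1, ← ev_eq, χ.2.2.2, Nat.cast_pow]
  · exact ((h _).2 z _).2 ((ev_eq _ _).symm.trans (χ.2.2.1 z))

end Rz

/-- **the deformation lemma** -/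
theorem deform : Deform := by
  intro κ Z H₀ H₁ _ _ _ _ _ _ _ o T E e₀ b₀ f₀ e₁ b₁ f₁ hc hS hE r₀ r₁ l d hd
  obtain ⟨ι, _, c, s, h⟩ := r₀.exists_nb l hd
  obtain ⟨ι', _, c', s', h'⟩ := r₁.exists_nb l hd
  rw [← h, ← h']
  exact nb_const hc hS hE l (pow_ne_zero 2 hd) s s'

end Cfsg.Agent.MK.Y
end

-- part: MK/Y/Hd
section
prune_inst 0x355035605562020400188090a320044074000522004b800041020f060f49e84320c38e21bf90071e12b80cc5480c002813100080422000000a040600411c018010c01004e0494119500016000883600002008100000000000000000000000004000000000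
set_option linter.all false
open scoped Cfsg.Agent.FastGrp

/-!
# MK-Y1: the Hecke algebra `e ℂH e` of a self adjoint idempotent with a basis `e n e` (helper15)

`HD e ι len` : the datum.  `HD.count` : the irreducible characters of `H` with `χ e = d` and those of `N` of degree `d` are
equal in number, over every central character.
-/

set_option autoImplicit false
set_option linter.unusedSectionVars false

namespace Cfsg.Agent.MK.Y

open Cfsg Matrix MonoidAlgebra
open scoped ComplexConjugate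

variable {H : Type} [Group H] [Fintype H]

/-- the adjoint in the group algebra -/
noncomputable def sr (a : MonoidAlgebra ℂ H) : MonoidAlgebra ℂ H :=
  .ofCoeff (Finsupp.equivFunOnFinite.symm fun g => conj (a.coeff g⁻¹))

theorem coeff_sr (a : MonoidAlgebra ℂ H) (g : H) : (sr a).coeff g = conj (a.coeff g⁻¹) := rfl

theorem al_ext {a b : MonoidAlgebra ℂ H} (h : ∀ g, a.coeff g = b.coeff g) : a = b :=
  coeff_injective (Finsupp.ext h)

theorem coeff_mul_sum (a b : MonoidAlgebra ℂ H) (g : H) : (a * b).coeff g = ∑ h, a.coeff h * b.coeff (h⁻¹ * g) := by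
  rw [coeff_mul_apply_left, Finsupp.sum_fintype _ _ (by simp only [_root_.MulZeroClass.zero_mul, _root_.implies_true])]

theorem sr_mul (a b : MonoidAlgebra ℂ H) : sr (a * b) = sr b * sr a := by
  refine al_ext fun g => ?_
  rw [coeff_sr, coeff_mul_sum, coeff_mul_sum, map_sum]
  refine Fintype.sum_equiv (Equiv.mulLeft g) _ _ fun h => ?_
  simp [coeff_sr, mul_comm]

theorem sr_single (g : H) : sr (_root_.MonoidAlgebra.single g (1 : ℂ)) = single g⁻¹ 1 := by
  classical
  refine al_ext fun h => ?_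
  have e : g = h⁻¹ ↔ g⁻¹ = h := by rw [inv_eq_iff_eq_inv]
  simp only [coeff_sr, coeff_single, Finsupp.single_apply, e]
  split_ifs <;> simp

theorem sr_smul (x : ℝ) (a : MonoidAlgebra ℂ H) : sr ((x : ℂ) • a) = (x : ℂ) • sr a := by
  refine al_ext fun g => ?_
  simp only [coeff_sr, _root_.Complex.coe_smul, _root_.MonoidAlgebra.coeff_smul, _root_.Finsupp.coe_smul, _root_.Pi.smul_apply, _root_.Complex.real_smul, _root_.map_mul, _root_.Complex.conj_ofReal]

/-- the scalar product -/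
noncomputable def ip (a b : MonoidAlgebra ℂ H) : ℂ := ∑ g, a.coeff g * conj (b.coeff g)

theorem ip_conj (a b : MonoidAlgebra ℂ H) : conj (ip a b) = ip b a := by
  simp only [ip, mul_comm, _root_.map_sum, _root_.map_mul, _root_.RingHomCompTriple.comp_apply, _root_.RingHom.id_apply]

theorem ip_add (a a' b : MonoidAlgebra ℂ H) : ip (a + a') b = ip a b + ip a' b := by
  simp only [ip, add_mul, Finset.sum_add_distrib, _root_.MonoidAlgebra.coeff_add, _root_.Finsupp.coe_add, _root_.Pi.add_apply]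

theorem ip_smul (c : ℂ) (a b : MonoidAlgebra ℂ H) : ip (c • a) b = c * ip a b := by
  simp only [ip, Finset.mul_sum, mul_assoc, _root_.MonoidAlgebra.coeff_smul, _root_.Finsupp.coe_smul, _root_.Pi.smul_apply, _root_.smul_eq_mul]

theorem ip_smul' (x : ℝ) (a b : MonoidAlgebra ℂ H) : ip a ((x : ℂ) • b) = x * ip a b := by
  rw [← ip_conj, ip_smul, map_mul, ip_conj, Complex.conj_ofReal]

/-- the scalar product as a linear form -/
noncomputable def ipL (b : MonoidAlgebra ℂ H) : MonoidAlgebra ℂ H →ₗ[ℂ] ℂ where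
  toFun a := ip a b
  map_add' a a' := ip_add a a' b
  map_smul' c a := ip_smul c a b

theorem ip_sum {κ : Type} (s : Finset κ) (f : κ → MonoidAlgebra ℂ H) (b : MonoidAlgebra ℂ H) :
    ip (∑ k ∈ s, f k) b = ∑ k ∈ s, ip (f k) b := map_sum (ipL b) f s

theorem ip_span {S : Set (MonoidAlgebra ℂ H)} {a b : MonoidAlgebra ℂ H} (ha : a ∈ Submodule.span ℂ S)
    (h : ∀ x ∈ S, ip x b = 0) : ip a b = 0 :=
  (Submodule.span_le (p := LinearMap.ker (ipL b))).2 h ha

theorem ip_mul (a x y : MonoidAlgebra ℂ H) : ip x (a * y) = ip (sr a * x) y := by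
  simp only [ip, coeff_mul_sum, coeff_sr, map_sum, Finset.mul_sum, Finset.sum_mul, map_mul]
  rw [Finset.sum_comm]
  conv_rhs => rw [Finset.sum_comm]
  refine Fintype.sum_equiv (Equiv.inv H) _ _ fun h => ?_
  refine Fintype.sum_equiv (Equiv.mulLeft h⁻¹) _ _ fun g => ?_
  simp only [Equiv.inv_apply, inv_inv, Equiv.coe_mulLeft, mul_inv_cancel_left]
  ring

theorem ip_one (a : MonoidAlgebra ℂ H) : ip a 1 = a.coeff 1 := by
  classical
  rw [ip, Finset.sum_eq_single 1]
  · simp only [_root_.MonoidAlgebra.coeff_one_one, _root_.map_one, _root_.mul_one]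
  · intro g _ hg
    rw [one_def, coeff_single, Finsupp.single_apply, if_neg hg.symm]
    simp
  · simp only [_root_.Finset.mem_univ, _root_.not_true_eq_false, _root_.MonoidAlgebra.coeff_one_one, _root_.map_one, _root_.mul_one, _root_.IsEmpty.forall_iff]

/-- the square of the norm -/
noncomputable def nq (a : MonoidAlgebra ℂ H) : ℝ := ∑ g, Complex.normSq (a.coeff g)

theorem ip_self (a : MonoidAlgebra ℂ H) : ip a a = nq a := by
  simp [ip, nq, Complex.mul_conj]

theorem nq_pos {a : MonoidAlgebra ℂ H} (h : a ≠ 0) : 0 < nq a := by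
  obtain ⟨g, hg⟩ : ∃ g, a.coeff g ≠ 0 := by
    by_contra hc
    exact h (al_ext fun g => by simpa only [_root_.MonoidAlgebra.coeff_zero, _root_.Finsupp.coe_zero, _root_.Pi.zero_apply, _root_.ne_eq, _root_.Decidable.not_not] using not_exists.1 hc g)
  exact Finset.sum_pos' (fun _ _ => Complex.normSq_nonneg _) ⟨g, Finset.mem_univ _, Complex.normSq_pos.2 hg⟩

theorem nq_sr (a : MonoidAlgebra ℂ H) : nq (sr a) = nq a :=
  Fintype.sum_equiv (Equiv.inv H) _ _ fun g => by simp only [coeff_sr, _root_.Complex.normSq_conj, _root_.Equiv.inv_apply]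

variable {N : Type} [Group N]

/-- the element `e n e` -/
noncomputable def hk (e : MonoidAlgebra ℂ H) (ι : N →* H) (n : N) : MonoidAlgebra ℂ H := e * _root_.MonoidAlgebra.single (ι n) 1 * e

/-- **the datum** : a self adjoint idempotent `e` with `e ℂH e` spanned by the `e n e`, which multiply as in a Hecke algebra -/
structure HD (e : MonoidAlgebra ℂ H) (ι : N →* H) (len : N → ℕ) : Prop where
  ln : Len len
  idem : e * e = e
  sa : ∀ g, e.coeff g⁻¹ = conj (e.coeff g)
  span : ∀ g, e * _root_.MonoidAlgebra.single g 1 * e ∈ Submodule.span ℂ (Set.range (hk e ι))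
  ne : ∀ n, len n ≤ 1 → hk e ι n ≠ 0
  tr0 : ∀ n, n ≠ 1 → (hk e ι n).coeff 1 = 0
  zero : ∀ t, len t = 0 → e * _root_.MonoidAlgebra.single (ι t) 1 = single (ι t) 1 * e
  up : ∀ s n, len s = 1 → len (s * n) = len n + 1 → hk e ι s * hk e ι n = hk e ι (s * n)
  quad : ∀ s, len s = 1 →
    hk e ι s * hk e ι s⁻¹ ∈ Submodule.span ℂ (insert e {x | ∃ t, len t = 0 ∧ x = hk e ι (t * s⁻¹)})

/-- the normalised basis -/
noncomputable def ob (e : MonoidAlgebra ℂ H) (ι : N →* H) (n : N) : MonoidAlgebra ℂ H :=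
  ((√(nq e / nq (hk e ι n)) : ℝ) : ℂ) • hk e ι n

/-- the matrices of the regular representation -/
noncomputable def mt (e : MonoidAlgebra ℂ H) (ι : N →* H) (a : N) : Matrix N N ℂ :=
  fun k n => ip (ob e ι a * ob e ι n) (ob e ι k) / nq e

namespace HD

variable {e : MonoidAlgebra ℂ H} {ι : N →* H} {len : N → ℕ} (D : HD e ι len)
include D

theorem sr_e : sr e = e := al_ext fun g => by rw [coeff_sr, D.sa, Complex.conj_conj]

theorem sr_hk (n : N) : sr (hk e ι n) = hk e ι n⁻¹ := by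
  rw [hk, hk, sr_mul, sr_mul, D.sr_e, sr_single, map_inv, mul_assoc]

theorem hk_one : hk e ι 1 = e := by rw [hk, map_one, ← one_def, mul_one, D.idem]

theorem e_hk (n : N) : e * hk e ι n = hk e ι n := by rw [hk, ← mul_assoc, ← mul_assoc, D.idem]

theorem hk_e (n : N) : hk e ι n * e = hk e ι n := by rw [hk, mul_assoc, D.idem]

theorem single_hk {t : N} (ht : len t = 0) (n : N) : _root_.MonoidAlgebra.single (ι t) 1 * hk e ι n = hk e ι (t * n) := by
  rw [hk, hk, ← mul_assoc, ← mul_assoc, ← D.zero t ht, mul_assoc e, single_mul_single, one_mul, map_mul]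

theorem hk_zero {t : N} (ht : len t = 0) (n : N) : hk e ι t * hk e ι n = hk e ι (t * n) := by
  rw [hk, mul_assoc, D.e_hk, mul_assoc, D.single_hk ht, D.e_hk]

theorem up' {a n : N} (ha : len a ≤ 1) (h : len (a * n) = len a + len n) : hk e ι a * hk e ι n = hk e ι (a * n) := by
  by_cases h0 : len a = 0
  · exact D.hk_zero h0 n
  · exact D.up a n (by omega) (by omega)

theorem down {s : N} (hs : len s = 1) : ∃ c : ℂ, ∀ n, len (s * n) + 1 = len n →
    ∃ y ∈ Submodule.span ℂ {x | ∃ j, len j = len n ∧ x = hk e ι j}, hk e ι s * hk e ι n = c • hk e ι (s * n) + y := by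
  obtain ⟨c, z, hz, h⟩ := Submodule.mem_span_insert.1 (D.quad s hs)
  refine ⟨c, fun n hn => ⟨z * hk e ι (s * n), ?_, ?_⟩⟩
  all_goals
    have e1 : hk e ι s⁻¹ * hk e ι (s * n) = hk e ι n := by
      rw [D.up s⁻¹ _ (by rw [D.ln.inv, hs]) (by rw [inv_mul_cancel_left, hn]), inv_mul_cancel_left]
  · clear h
    induction hz using Submodule.span_induction with
    | mem x hx =>
      obtain ⟨t, ht, rfl⟩ := hx
      rw [← D.hk_zero ht, mul_assoc, e1, D.hk_zero ht]
      exact Submodule.subset_span ⟨_, D.ln.zero t ht n, rfl⟩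
    | zero => simp
    | add x y _ _ hx hy => rw [add_mul]; exact add_mem hx hy
    | smul a x _ hx => rw [smul_mul_assoc]; exact Submodule.smul_mem _ _ hx
  · rw [← e1, ← mul_assoc, h, add_mul, smul_mul_assoc, D.e_hk]

theorem orth_le (m : N) : ∀ n, len m ≤ len n → n ≠ m → ip (hk e ι n) (hk e ι m) = 0 := by
  induction m using D.ln.indL with
  | h0 t ht =>
    intro n _ hn
    rw [← mul_one (hk e ι t), ip_mul, D.sr_hk, D.hk_zero (by rwa [D.ln.inv]), ip_one]
    exact D.tr0 _ fun h => hn (by rw [inv_mul_eq_one] at h; exact h.symm)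
  | h1 s m hs hl ih =>
    intro n hn hne
    have hs' : len s⁻¹ = 1 := by rw [D.ln.inv, hs]
    have hne' : s⁻¹ * n ≠ m := fun h => hne (by rw [← h, mul_inv_cancel_left])
    rw [← D.up s m hs hl, ip_mul, D.sr_hk]
    rcases D.ln.step _ hs' n with h | h
    · rw [D.up _ _ hs' h]
      exact ih _ (by omega) hne'
    · obtain ⟨c, hc⟩ := D.down hs'
      obtain ⟨y, hy, h2⟩ := hc n h
      rw [h2, ip_add, ip_smul, ih _ (by omega) hne', mul_zero, zero_add]
      refine ip_span hy ?_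
      rintro x ⟨j, hj, rfl⟩
      exact ih j (by omega) fun h3 => by rw [h3] at hj; omega

theorem orth {m n : N} (h : n ≠ m) : ip (hk e ι n) (hk e ι m) = 0 := by
  rcases le_total (len m) (len n) with h1 | h1
  · exact D.orth_le m n h1 h
  · rw [← ip_conj, D.orth_le n m h1 h.symm, map_zero]

theorem nq_zero {t : N} (ht : len t = 0) (n : N) : nq (hk e ι (t * n)) = nq (hk e ι n) := by
  have h : ip (hk e ι (t * n)) (hk e ι t * hk e ι n) = ip (hk e ι n) (hk e ι n) := by
    rw [ip_mul, D.sr_hk, D.hk_zero (by rwa [D.ln.inv]), inv_mul_cancel_left]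
  rw [D.hk_zero ht, ip_self, ip_self] at h
  exact_mod_cast h

theorem nq_mul {a n : N} (ha : len a ≤ 1) (h : len (a * n) = len a + len n) :
    nq e * nq (hk e ι (a * n)) = nq (hk e ι a) * nq (hk e ι n) := by
  by_cases h0 : len a = 0
  · have := D.nq_zero h0 1
    rw [mul_one, D.hk_one] at this
    rw [D.nq_zero h0, this]
  have hs : len a = 1 := by omega
  obtain ⟨c, hc⟩ := D.down (s := a⁻¹) (by rw [D.ln.inv, hs])
  have key : ∀ m, len (a * m) = len m + 1 → (nq (hk e ι (a * m)) : ℂ) = c * nq (hk e ι m) := by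
    intro m hm
    obtain ⟨y, hy, h2⟩ := hc (a * m) (by rw [inv_mul_cancel_left, hm])
    have h3 : ip y (hk e ι m) = 0 := by
      refine ip_span hy ?_
      rintro x ⟨j, hj, rfl⟩
      exact D.orth fun h3 => by rw [h3] at hj; omega
    rw [← ip_self]
    conv_lhs => enter [2]; rw [← D.up a m hs hm]
    rw [ip_mul, D.sr_hk, h2, ip_add, h3, add_zero, ip_smul, inv_mul_cancel_left, ip_self]
  have h1 := key 1 (by rw [mul_one, hs, D.ln.one])
  have h2 := key n (by omega)
  rw [mul_one, D.hk_one] at h1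
  have : (nq e : ℂ) * nq (hk e ι (a * n)) = nq (hk e ι a) * nq (hk e ι n) := by rw [h1, h2]; ring
  exact_mod_cast this

theorem nq_e : 0 < nq e := by
  have := nq_pos (D.ne 1 (by rw [D.ln.one]; omega))
  rwa [D.hk_one] at this

theorem nq_hk (n : N) : 0 < nq (hk e ι n) := by
  induction n using D.ln.indL with
  | h0 t ht => exact nq_pos (D.ne t (by omega))
  | h1 s m hs hl ih =>
    have h := D.nq_mul (a := s) (n := m) hs.le (by omega)
    have h2 := mul_pos (nq_pos (D.ne s hs.le)) ih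
    rw [← h] at h2
    exact (mul_pos_iff_of_pos_left D.nq_e).1 h2

theorem nq_ne : ((nq e : ℝ) : ℂ) ≠ 0 := by exact_mod_cast D.nq_e.ne'

theorem nb_one : ob e ι 1 = e := by rw [ob, D.hk_one, div_self D.nq_e.ne', Real.sqrt_one, Complex.ofReal_one, one_smul]

theorem sr_nb (n : N) : sr (ob e ι n) = ob e ι n⁻¹ := by rw [ob, ob, sr_smul, ← D.sr_hk, nq_sr]

theorem nb_up {a n : N} (ha : len a ≤ 1) (h : len (a * n) = len a + len n) : ob e ι a * ob e ι n = ob e ι (a * n) := by
  rw [ob, ob, ob, smul_mul_assoc, mul_smul_comm, smul_smul, D.up' ha h, ← Complex.ofReal_mul,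
    ← Real.sqrt_mul (div_pos D.nq_e (D.nq_hk a)).le]
  congr 3
  rw [div_mul_div_comm, ← D.nq_mul ha h, mul_div_mul_left _ _ D.nq_e.ne']

variable [DecidableEq N]

theorem ip_nb (m n : N) : ip (ob e ι m) (ob e ι n) = if n = m then (nq e : ℂ) else 0 := by
  rw [ob, ob, ip_smul, ip_smul']
  split_ifs with h
  · subst h
    rw [ip_self, ← mul_assoc, ← Complex.ofReal_mul, Real.mul_self_sqrt (div_pos D.nq_e (D.nq_hk n)).le,
      ← Complex.ofReal_mul, div_mul_cancel₀ _ (D.nq_hk n).ne']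
  · rw [D.orth (Ne.symm h), mul_zero, mul_zero]

theorem hk_mem (n : N) : hk e ι n ∈ Submodule.span ℂ (Set.range (ob e ι)) := by
  have h0 : ((√(nq e / nq (hk e ι n)) : ℝ) : ℂ) ≠ 0 := by
    exact_mod_cast (Real.sqrt_pos.2 (div_pos D.nq_e (D.nq_hk n))).ne'
  have : hk e ι n = ((√(nq e / nq (hk e ι n)) : ℝ) : ℂ)⁻¹ • ob e ι n := by
    rw [ob, smul_smul, inv_mul_cancel₀ h0, one_smul]
  rw [this]
  exact Submodule.smul_mem _ _ (Submodule.subset_span ⟨n, rfl⟩)

theorem span' (g : H) : e * _root_.MonoidAlgebra.single g 1 * e ∈ Submodule.span ℂ (Set.range (ob e ι)) :=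
  Submodule.span_le.2 (by rintro _ ⟨n, rfl⟩; exact D.hk_mem n) (D.span g)

theorem corner (x : MonoidAlgebra ℂ H) : e * x * e ∈ Submodule.span ℂ (Set.range (ob e ι)) := by
  induction x using MonoidAlgebra.induction_on with
  | of g => exact D.span' g
  | add a b ha hb => rw [mul_add, add_mul]; exact add_mem ha hb
  | smul c a ha => rw [mul_smul_comm, smul_mul_assoc]; exact Submodule.smul_mem _ _ ha

theorem e_nb (n : N) : e * ob e ι n = ob e ι n := by rw [ob, mul_smul_comm, D.e_hk]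

theorem nb_e (n : N) : ob e ι n * e = ob e ι n := by rw [ob, smul_mul_assoc, D.hk_e]

variable [Fintype N]

theorem expand {x : MonoidAlgebra ℂ H} (hx : x ∈ Submodule.span ℂ (Set.range (ob e ι))) :
    x = ∑ k, (ip x (ob e ι k) / nq e) • ob e ι k := by
  obtain ⟨c, rfl⟩ := (Submodule.mem_span_range_iff_exists_fun ℂ).1 hx
  refine Finset.sum_congr rfl fun k _ => ?_
  congr 1
  rw [ip_sum, Finset.sum_eq_single k]
  · rw [ip_smul, D.ip_nb, if_pos rfl, mul_div_cancel_right₀ _ D.nq_ne]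
  · intro j _ hj
    rw [ip_smul, D.ip_nb, if_neg hj.symm, mul_zero]
  · simp

theorem nb_mul (a m : N) : ob e ι a * ob e ι m = ∑ l, mt e ι a l m • ob e ι l := by
  have := D.corner (ob e ι a * ob e ι m)
  rw [← mul_assoc, D.e_nb, mul_assoc, D.nb_e] at this
  exact D.expand this

theorem mt_up {a n : N} (ha : len a ≤ 1) (h : len (a * n) = len a + len n) (k : N) :
    mt e ι a k n = if k = a * n then 1 else 0 := by
  rw [mt, D.nb_up ha h, D.ip_nb]
  split_ifs
  · exact div_self D.nq_ne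
  · simp

theorem dm : Dm len (mt e ι) where
  ln := D.ln
  col n k := by
    rw [mt, D.nb_one, D.nb_e, D.ip_nb]
    split_ifs
    · exact div_self D.nq_ne
    · simp
  mul m n := by
    ext i j
    have h1 : ip (ob e ι m * (ob e ι n * ob e ι j)) (ob e ι i) / nq e = (mt e ι m * mt e ι n) i j := by
      rw [D.nb_mul n j, Finset.mul_sum, ip_sum, Finset.sum_div, Matrix.mul_apply]
      refine Finset.sum_congr rfl fun l _ => ?_
      rw [mul_smul_comm, ip_smul, mul_div_assoc, mul_comm]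
      rfl
    rw [← h1, ← mul_assoc, D.nb_mul m n, Finset.sum_mul, ip_sum, Finset.sum_div, Matrix.sum_apply]
    refine Finset.sum_congr rfl fun l _ => ?_
    rw [smul_mul_assoc, ip_smul, mul_div_assoc]
    rfl
  star a := by
    ext k n
    rw [conjTranspose_apply, mt, mt, ← D.sr_nb, ← ip_mul, ← ip_conj (ob e ι a * ob e ι k)]
    simp
  up a n ha h k := D.mt_up ha h k
  down s hs k n hk' := by
    rcases D.ln.step s hs n with h | h
    · exact D.mt_up hs.le (by omega) k
    have hs' : len s⁻¹ = 1 := by rw [D.ln.inv, hs]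
    split_ifs with h1
    · subst h1
      have h2 := D.nb_up (a := s⁻¹) (n := s * n) hs'.le (by rw [inv_mul_cancel_left]; omega)
      rw [inv_mul_cancel_left] at h2
      have h3 := D.sr_nb s⁻¹
      rw [inv_inv] at h3
      rw [mt, ← h3, ← ip_mul, h2, D.ip_nb, if_pos rfl, div_self D.nq_ne]
    · obtain ⟨c, hc⟩ := D.down hs
      obtain ⟨y, hy, h2⟩ := hc n h
      have h3 : ip y (hk e ι k) = 0 := by
        refine ip_span hy ?_
        rintro x ⟨j, hj, rfl⟩
        exact D.orth fun h3 => hk' (by rw [← h3, hj])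
      rw [mt, ob, ob, ob, smul_mul_assoc, mul_smul_comm, ip_smul, ip_smul, ip_smul', h2, ip_add, ip_smul, h3,
        D.orth (Ne.symm h1)]
      simp only [_root_.MulZeroClass.mul_zero, _root_.add_zero, _root_.zero_div]

theorem li : LinearIndependent ℂ (ob e ι) := by
  rw [Fintype.linearIndependent_iff]
  intro c hc k
  have h : ip (∑ i, c i • ob e ι i) (ob e ι k) = 0 := by
    rw [hc]
    exact map_zero (ipL _)
  rw [ip_sum, Finset.sum_eq_single k] at h
  · rw [ip_smul, D.ip_nb, if_pos rfl] at h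
    exact (mul_eq_zero.1 h).resolve_right D.nq_ne
  · intro j _ hj
    rw [ip_smul, D.ip_nb, if_neg hj.symm, mul_zero]
  · simp

theorem inj : Function.Injective ι := by
  refine (injective_iff_map_eq_one ι).2 fun n hn => ?_
  by_contra h
  have h1 := D.orth h
  rw [hk, hn, ← one_def, mul_one, D.idem, D.hk_one, ip_self] at h1
  exact D.nq_ne h1

end HD

theorem sum_lam [Fintype N] [DecidableEq N] {V : Type} [AddCommGroup V] [Module ℂ V] (b : N → V) (a m : N) :
    ∑ l, lam a l m • b l = b (a * m) := by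
  rw [Finset.sum_eq_single (a * m)]
  · simp [lam]
  · intro j _ hj
    simp [lam, hj]
  · simp only [_root_.Finset.mem_univ, _root_.not_true_eq_false, _root_.smul_eq_zero, _root_.IsEmpty.forall_iff]

theorem single_comm {z : H} (hz : z ∈ Subgroup.center H) (x : MonoidAlgebra ℂ H) :
    _root_.MonoidAlgebra.single z (1 : ℂ) * x = x * single z 1 :=
  al_ext fun g => by
    rw [coeff_single_mul_apply, coeff_mul_single_apply, one_mul, mul_one,
      Subgroup.mem_center_iff.1 (inv_mem hz) g]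

/-- **the deformation theorem for an idempotent** -/
theorem HD.count [Fintype N] {e : MonoidAlgebra ℂ H} {ι : N →* H} {len : N → ℕ} (D : HD e ι len)
    {Z : Type} [Finite Z] (ζ : Z → N) (hc : ∀ z, ι (ζ z) ∈ Subgroup.center H) (h0 : ∀ z, len (ζ z) = 0) (l : Z → ℂ)
    {d : ℕ} (hd : d ≠ 0) :
    Nat.card {χ : H → ℂ // IsIrrCharacter H χ ∧ (∀ z, χ (ι (ζ z)) = l z * χ 1) ∧ ev χ e = d} =
      Nat.card {ψ : N → ℂ // IsIrrCharacter N ψ ∧ (∀ z, ψ (ζ z) = l z * ψ 1) ∧ ψ 1 = d} := by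
  classical
  obtain ⟨F, hF, col, mul, star, h1, hz, z0, zc⟩ := D.dm.exists_fam
  have hc' : ∀ z n, ζ z * n = n * ζ z := fun z n => D.inj (by
    rw [map_mul, map_mul, Subgroup.mem_center_iff.1 (hc z)])
  have key := deform N Z N H 1 F (fun z => lam (ζ z)) 1 (fun n => _root_.MonoidAlgebra.single n 1) (fun z => _root_.MonoidAlgebra.single (ζ z) 1) e (ob e ι)
    (fun z => _root_.MonoidAlgebra.single (ι (ζ z)) 1) hF (fun x => ⟨col x, ?_, fun a b => ?_, fun a => ⟨a⁻¹, 1, by simp, by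
      rw [one_smul, star]⟩⟩) (fun x => ⟨fun z => ?_, fun z a => zc x _ (h0 z) (hc' z) a⟩)
    ⟨one_mul _, fun a => by simp, fun g => ?_, ?_, fun a m => ?_, fun z x => ?_, fun z m => ?_⟩
    ⟨D.idem, fun a => by rw [D.e_nb, D.nb_e], D.span', D.li, fun a m => ?_, fun z x => single_comm (hc z) x,
      fun z m => ?_⟩ l d hd
  · simp only [cnt, ev_single, one_mul, one_def] at key
    exact key.symm
  · have : F x 1 = 1 := by
      rw [z0 x 1 D.ln.one]
      ext k n
      simp [lam, Matrix.one_apply]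
    exact Submodule.subset_span ⟨1, this⟩
  · rw [mul]
    exact Submodule.sum_mem _ fun k _ => Submodule.smul_mem _ _ (Submodule.subset_span ⟨k, rfl⟩)
  · exact Submodule.subset_span ⟨ζ z, z0 x _ (h0 z)⟩
  · exact Submodule.subset_span ⟨g, by simp⟩
  · exact (MonoidAlgebra.basis N ℂ).linearIndependent
  · rw [hz, sum_lam (fun n => _root_.MonoidAlgebra.single n (1 : ℂ)), single_mul_single, one_mul]
  · exact single_comm (Subgroup.mem_center_iff.2 fun n => (hc' z n).symm) x
  · rw [sum_lam (fun n => _root_.MonoidAlgebra.single n (1 : ℂ)), single_mul_single, one_mul]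
  · rw [h1, D.nb_mul]
  · rw [sum_lam, ob, ob, mul_smul_comm, D.single_hk (h0 z), D.nq_zero (h0 z)]

end Cfsg.Agent.MK.Y

private theorem dce_8a5b639362a0 : _root_.True := by
  try have : _root_.True := by simp only [_root_.Cfsg.Agent.MK.Y.mt.eq_1]
  try have : _root_.True := by simp only [_root_.Cfsg.Agent.MK.Y.cnt.eq_1]
  try have : _root_.True := by simp only [_root_.Cfsg.Agent.MK.Y.ob.eq_1]
  try have : _root_.True := by simp only [_root_.Cfsg.Agent.MK.Y.ip.eq_1]
  try have : _root_.True := by simp only [_root_.Cfsg.Agent.MK.Y.nq.eq_1]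
  try have : _root_.True := by simp only [_root_.Cfsg.Agent.MK.Y.hk.eq_1]
  exact _root_.True.intro
end

-- part: MK/Y/CoreI
section
prune_inst 0x2008100000000000000000000000000000000000
set_option linter.all false
open scoped Cfsg.Agent.FastGrp

/-!
# MK-Y1: the abstract idempotent form `YA`, `coreI : CoreI` (helper15)

`τ 1` is a self adjoint idempotent `e` of `ℂH`, the `τ n` span `e ℂH e` and multiply as in a Yokonuma-Hecke algebra.
-/

set_option autoImplicit false
set_option linter.unusedSectionVars false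

namespace Cfsg.Agent.MK.Y

open Cfsg Matrix MonoidAlgebra
open scoped ComplexConjugate

/-- **the abstract datum** -/
structure YA {H N : Type} [Group H] [Group N] (len : N → ℕ) (t : N → MonoidAlgebra ℂ H) : Prop where
  one : len 1 = 0
  inv : ∀ n, len n⁻¹ = len n
  zero : ∀ a n, len a = 0 → len (a * n) = len n ∧ t (a * n) = t a * t n
  step : ∀ s n, len s = 1 → len (s * n) = len n + 1 ∨ len (s * n) + 1 = len n
  desc : ∀ n, len n ≠ 0 → ∃ s, len s = 1 ∧ len (s * n) + 1 = len n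
  up : ∀ s n, len s = 1 → len (s * n) = len n + 1 → t s * t n = t (s * n)
  quad : ∀ s, len s = 1 → ∃ k : ℂ, k ≠ 0 ∧
    t s * t s⁻¹ - k • t 1 ∈ Submodule.span ℂ (t '' {a | ∃ h, len h = 0 ∧ a = h * s⁻¹})
  star : ∀ n g, (t n⁻¹).coeff g = conj ((t n).coeff g⁻¹)
  span : ∀ x, t 1 * x * t 1 ∈ Submodule.span ℂ (Set.range t)
  tr : ∀ n, n ≠ 1 → (t n).coeff 1 = 0
  ne : t 1 ≠ 0

/-- **the deformation theorem, idempotent form** -/
def CoreI : Prop :=
  ∀ (G N : Type) [Group G] [Finite G] [Group N] [Finite N] (len : N → ℕ) (t : N → MonoidAlgebra ℂ G), YA len t →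
    ∀ d : ℕ, d ≠ 0 → Nat.card {χ : G → ℂ // IsIrrCharacter G χ ∧ Blocks.GroupAlg.lin χ (t 1) = d} =
      Nat.card {ψ : N → ℂ // IsIrrCharacter N ψ ∧ charDegree ψ = d}

variable {H : Type} [Group H] [Fintype H] {N : Type} [Group N]

/-- the normalised basis -/
noncomputable def oc (τ : N → MonoidAlgebra ℂ H) (n : N) : MonoidAlgebra ℂ H :=
  ((√(nq (τ 1) / nq (τ n)) : ℝ) : ℂ) • τ n

/-- the matrices of the regular representation -/
noncomputable def mc (τ : N → MonoidAlgebra ℂ H) (a : N) : Matrix N N ℂ :=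
  fun k n => ip (oc τ a * oc τ n) (oc τ k) / nq (τ 1)

namespace YA

variable {len : N → ℕ} {τ : N → MonoidAlgebra ℂ H} (D : YA len τ)
include D

theorem ln : Len len :=
  ⟨D.one, D.inv, fun t ht n => (D.zero t n ht).1, fun s hs n => D.step s n hs, D.desc⟩

theorem sr_hk (n : N) : sr (τ n) = τ n⁻¹ := al_ext fun g => by rw [coeff_sr, D.star]

theorem hk_zero {t : N} (ht : len t = 0) (n : N) : τ t * τ n = τ (t * n) := (D.zero t n ht).2.symm

theorem e_hk (n : N) : τ 1 * τ n = τ n := by rw [D.hk_zero D.one, one_mul]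

theorem hk_e (n : N) : τ n * τ 1 = τ n := by
  have := congrArg sr (D.e_hk n⁻¹)
  rwa [sr_mul, D.sr_hk, D.sr_hk, inv_inv, inv_one] at this

theorem up' {a n : N} (ha : len a ≤ 1) (h : len (a * n) = len a + len n) : τ a * τ n = τ (a * n) := by
  by_cases h0 : len a = 0
  · exact D.hk_zero h0 n
  · exact D.up a n (by omega) (by omega)

theorem down {s : N} (hs : len s = 1) : ∃ c : ℂ, c ≠ 0 ∧ ∀ n, len (s * n) + 1 = len n →
    ∃ y ∈ Submodule.span ℂ {x | ∃ j, len j = len n ∧ x = τ j}, τ s * τ n = c • τ (s * n) + y := by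
  obtain ⟨c, hc, hz⟩ := D.quad s hs
  obtain ⟨z, h⟩ : ∃ z, z = τ s * τ s⁻¹ - c • τ 1 := ⟨_, rfl⟩
  rw [← h] at hz
  replace h : τ s * τ s⁻¹ = c • τ 1 + z := by rw [h, add_sub_cancel]
  refine ⟨c, hc, fun n hn => ⟨z * τ (s * n), ?_, ?_⟩⟩
  all_goals
    have e1 : τ s⁻¹ * τ (s * n) = τ n := by
      rw [D.up s⁻¹ _ (by rw [D.ln.inv, hs]) (by rw [inv_mul_cancel_left, hn]), inv_mul_cancel_left]
  · clear h
    induction hz using Submodule.span_induction with
    | mem x hx =>
      obtain ⟨_, ⟨t, ht, rfl⟩, rfl⟩ := hx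
      rw [← D.hk_zero ht, mul_assoc, e1, D.hk_zero ht]
      exact Submodule.subset_span ⟨_, D.ln.zero t ht n, rfl⟩
    | zero => simp
    | add x y _ _ hx hy => rw [add_mul]; exact add_mem hx hy
    | smul a x _ hx => rw [smul_mul_assoc]; exact Submodule.smul_mem _ _ hx
  · rw [← e1, ← mul_assoc, h, add_mul, smul_mul_assoc, D.e_hk]

theorem orth_le (m : N) : ∀ n, len m ≤ len n → n ≠ m → ip (τ n) (τ m) = 0 := by
  induction m using D.ln.indL with
  | h0 t ht =>
    intro n _ hn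
    rw [← mul_one (τ t), ip_mul, D.sr_hk, D.hk_zero (by rwa [D.ln.inv]), ip_one]
    exact D.tr _ fun h => hn (by rw [inv_mul_eq_one] at h; exact h.symm)
  | h1 s m hs hl ih =>
    intro n hn hne
    have hs' : len s⁻¹ = 1 := by rw [D.ln.inv, hs]
    have hne' : s⁻¹ * n ≠ m := fun h => hne (by rw [← h, mul_inv_cancel_left])
    rw [← D.up s m hs hl, ip_mul, D.sr_hk]
    rcases D.ln.step _ hs' n with h | h
    · rw [D.up _ _ hs' h]
      exact ih _ (by omega) hne'
    · obtain ⟨c, -, hc⟩ := D.down hs'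
      obtain ⟨y, hy, h2⟩ := hc n h
      rw [h2, ip_add, ip_smul, ih _ (by omega) hne', mul_zero, zero_add]
      refine ip_span hy ?_
      rintro x ⟨j, hj, rfl⟩
      exact ih j (by omega) fun h3 => by rw [h3] at hj; omega

theorem orth {m n : N} (h : n ≠ m) : ip (τ n) (τ m) = 0 := by
  rcases le_total (len m) (len n) with h1 | h1
  · exact D.orth_le m n h1 h
  · rw [← ip_conj, D.orth_le n m h1 h.symm, map_zero]

theorem nq_zero {t : N} (ht : len t = 0) (n : N) : nq (τ (t * n)) = nq (τ n) := by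
  have h : ip (τ (t * n)) (τ t * τ n) = ip (τ n) (τ n) := by
    rw [ip_mul, D.sr_hk, D.hk_zero (by rwa [D.ln.inv]), inv_mul_cancel_left]
  rw [D.hk_zero ht, ip_self, ip_self] at h
  exact_mod_cast h

theorem nq_up {a : N} (hs : len a = 1) : ∃ c : ℂ, c ≠ 0 ∧ ∀ m, len (a * m) = len m + 1 →
    (nq (τ (a * m)) : ℂ) = c * nq (τ m) := by
  obtain ⟨c, hc0, hc⟩ := D.down (s := a⁻¹) (by rw [D.ln.inv, hs])
  refine ⟨c, hc0, fun m hm => ?_⟩
  obtain ⟨y, hy, h2⟩ := hc (a * m) (by rw [inv_mul_cancel_left, hm])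
  have h3 : ip y (τ m) = 0 := by
    refine ip_span hy ?_
    rintro x ⟨j, hj, rfl⟩
    exact D.orth fun h3 => by rw [h3] at hj; omega
  rw [← ip_self]
  conv_lhs => enter [2]; rw [← D.up a m hs hm]
  rw [ip_mul, D.sr_hk, h2, ip_add, h3, add_zero, ip_smul, inv_mul_cancel_left, ip_self]

theorem nq_mul {a n : N} (ha : len a ≤ 1) (h : len (a * n) = len a + len n) :
    nq (τ 1) * nq (τ (a * n)) = nq (τ a) * nq (τ n) := by
  by_cases h0 : len a = 0
  · have := D.nq_zero h0 1
    rw [mul_one] at this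
    rw [D.nq_zero h0, this]
  have hs : len a = 1 := by omega
  obtain ⟨c, -, key⟩ := D.nq_up hs
  have h1 := key 1 (by rw [mul_one, hs, D.ln.one])
  have h2 := key n (by omega)
  rw [mul_one] at h1
  have : (nq (τ 1) : ℂ) * nq (τ (a * n)) = nq (τ a) * nq (τ n) := by rw [h1, h2]; ring
  exact_mod_cast this

theorem nq_e : 0 < nq (τ 1) := nq_pos D.ne

theorem nq_hk (n : N) : 0 < nq (τ n) := by
  induction n using D.ln.indL with
  | h0 t ht =>
    have := D.nq_zero ht 1
    rw [mul_one] at this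
    rw [this]
    exact D.nq_e
  | h1 s m hs hl ih =>
    obtain ⟨c, hc, key⟩ := D.nq_up hs
    refine nq_pos fun h0 => ?_
    have h1 := key m hl
    rw [h0, ← ip_self, ← zero_smul ℂ (0 : MonoidAlgebra ℂ H), ip_smul, zero_mul] at h1
    exact mul_ne_zero hc (by exact_mod_cast ih.ne') h1.symm

theorem nq_ne : ((nq (τ 1) : ℝ) : ℂ) ≠ 0 := by exact_mod_cast D.nq_e.ne'

theorem nb_one : oc τ 1 = τ 1 := by rw [oc, div_self D.nq_e.ne', Real.sqrt_one, Complex.ofReal_one, one_smul]

theorem sr_nb (n : N) : sr (oc τ n) = oc τ n⁻¹ := by rw [oc, oc, sr_smul, ← D.sr_hk, nq_sr]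

theorem nb_up {a n : N} (ha : len a ≤ 1) (h : len (a * n) = len a + len n) : oc τ a * oc τ n = oc τ (a * n) := by
  rw [oc, oc, oc, smul_mul_assoc, mul_smul_comm, smul_smul, D.up' ha h, ← Complex.ofReal_mul,
    ← Real.sqrt_mul (div_pos D.nq_e (D.nq_hk a)).le]
  congr 3
  rw [div_mul_div_comm, ← D.nq_mul ha h, mul_div_mul_left _ _ D.nq_e.ne']

variable [DecidableEq N]

theorem ip_nb (m n : N) : ip (oc τ m) (oc τ n) = if n = m then (nq (τ 1) : ℂ) else 0 := by
  rw [oc, oc, ip_smul, ip_smul']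
  split_ifs with h
  · subst h
    rw [ip_self, ← mul_assoc, ← Complex.ofReal_mul, Real.mul_self_sqrt (div_pos D.nq_e (D.nq_hk n)).le,
      ← Complex.ofReal_mul, div_mul_cancel₀ _ (D.nq_hk n).ne']
  · rw [D.orth (Ne.symm h), mul_zero, mul_zero]

theorem hk_mem (n : N) : τ n ∈ Submodule.span ℂ (Set.range (oc τ)) := by
  have h0 : ((√(nq (τ 1) / nq (τ n)) : ℝ) : ℂ) ≠ 0 := by
    exact_mod_cast (Real.sqrt_pos.2 (div_pos D.nq_e (D.nq_hk n))).ne'
  have : τ n = ((√(nq (τ 1) / nq (τ n)) : ℝ) : ℂ)⁻¹ • oc τ n := by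
    rw [oc, smul_smul, inv_mul_cancel₀ h0, one_smul]
  rw [this]
  exact Submodule.smul_mem _ _ (Submodule.subset_span ⟨n, rfl⟩)

theorem corner (x : MonoidAlgebra ℂ H) : τ 1 * x * τ 1 ∈ Submodule.span ℂ (Set.range (oc τ)) :=
  Submodule.span_le.2 (by rintro _ ⟨n, rfl⟩; exact D.hk_mem n) (D.span x)

theorem e_nb (n : N) : τ 1 * oc τ n = oc τ n := by rw [oc, mul_smul_comm, D.e_hk]

theorem nb_e (n : N) : oc τ n * τ 1 = oc τ n := by rw [oc, smul_mul_assoc, D.hk_e]

variable [Fintype N]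

theorem expand {x : MonoidAlgebra ℂ H} (hx : x ∈ Submodule.span ℂ (Set.range (oc τ))) :
    x = ∑ k, (ip x (oc τ k) / nq (τ 1)) • oc τ k := by
  obtain ⟨c, rfl⟩ := (Submodule.mem_span_range_iff_exists_fun ℂ).1 hx
  refine Finset.sum_congr rfl fun k _ => ?_
  congr 1
  rw [ip_sum, Finset.sum_eq_single k]
  · rw [ip_smul, D.ip_nb, if_pos rfl, mul_div_cancel_right₀ _ D.nq_ne]
  · intro j _ hj
    rw [ip_smul, D.ip_nb, if_neg hj.symm, mul_zero]
  · simp

theorem nb_mul (a m : N) : oc τ a * oc τ m = ∑ l, mc τ a l m • oc τ l := by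
  have := D.corner (oc τ a * oc τ m)
  rw [← mul_assoc, D.e_nb, mul_assoc, D.nb_e] at this
  exact D.expand this

theorem mt_up {a n : N} (ha : len a ≤ 1) (h : len (a * n) = len a + len n) (k : N) :
    mc τ a k n = if k = a * n then 1 else 0 := by
  rw [mc, D.nb_up ha h, D.ip_nb]
  split_ifs
  · exact div_self D.nq_ne
  · simp

theorem dm : Dm len (mc τ) where
  ln := D.ln
  col n k := by
    rw [mc, D.nb_one, D.nb_e, D.ip_nb]
    split_ifs
    · exact div_self D.nq_ne
    · simp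
  mul m n := by
    ext i j
    have h1 : ip (oc τ m * (oc τ n * oc τ j)) (oc τ i) / nq (τ 1) = (mc τ m * mc τ n) i j := by
      rw [D.nb_mul n j, Finset.mul_sum, ip_sum, Finset.sum_div, Matrix.mul_apply]
      refine Finset.sum_congr rfl fun l _ => ?_
      rw [mul_smul_comm, ip_smul, mul_div_assoc, mul_comm]
      rfl
    rw [← h1, ← mul_assoc, D.nb_mul m n, Finset.sum_mul, ip_sum, Finset.sum_div, Matrix.sum_apply]
    refine Finset.sum_congr rfl fun l _ => ?_
    rw [smul_mul_assoc, ip_smul, mul_div_assoc]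
    rfl
  star a := by
    ext k n
    rw [conjTranspose_apply, mc, mc, ← D.sr_nb, ← ip_mul, ← ip_conj (oc τ a * oc τ k)]
    simp
  up a n ha h k := D.mt_up ha h k
  down s hs k n hk' := by
    rcases D.ln.step s hs n with h | h
    · exact D.mt_up hs.le (by omega) k
    have hs' : len s⁻¹ = 1 := by rw [D.ln.inv, hs]
    split_ifs with h1
    · subst h1
      have h2 := D.nb_up (a := s⁻¹) (n := s * n) hs'.le (by rw [inv_mul_cancel_left]; omega)
      rw [inv_mul_cancel_left] at h2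
      have h3 := D.sr_nb s⁻¹
      rw [inv_inv] at h3
      rw [mc, ← h3, ← ip_mul, h2, D.ip_nb, if_pos rfl, div_self D.nq_ne]
    · obtain ⟨c, -, hc⟩ := D.down hs
      obtain ⟨y, hy, h2⟩ := hc n h
      have h3 : ip y (τ k) = 0 := by
        refine ip_span hy ?_
        rintro x ⟨j, hj, rfl⟩
        exact D.orth fun h3 => hk' (by rw [← h3, hj])
      rw [mc, oc, oc, oc, smul_mul_assoc, mul_smul_comm, ip_smul, ip_smul, ip_smul', h2, ip_add, ip_smul, h3,
        D.orth (Ne.symm h1)]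
      simp

theorem li : LinearIndependent ℂ (oc τ) := by
  rw [Fintype.linearIndependent_iff]
  intro c hc k
  have h : ip (∑ i, c i • oc τ i) (oc τ k) = 0 := by
    rw [hc]
    exact map_zero (ipL _)
  rw [ip_sum, Finset.sum_eq_single k] at h
  · rw [ip_smul, D.ip_nb, if_pos rfl] at h
    exact (mul_eq_zero.1 h).resolve_right D.nq_ne
  · intro j _ hj
    rw [ip_smul, D.ip_nb, if_neg hj.symm, mul_zero]
  · simp

end YA

/-- the count over a central character : `f z` is central in `ℂH` and acts as `ζ z` -/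
theorem YA.count [Fintype N] {len : N → ℕ} {τ : N → MonoidAlgebra ℂ H} (D : YA len τ) {Z : Type} [Finite Z] (ζ : Z → N)
    (f : Z → MonoidAlgebra ℂ H) (hf : ∀ z x, f z * x = x * f z) (ha : ∀ z n, f z * τ n = τ (ζ z * n))
    (hc : ∀ z n, ζ z * n = n * ζ z) (h0 : ∀ z, len (ζ z) = 0) (l : Z → ℂ) {d : ℕ} (hd : d ≠ 0) :
    Nat.card {χ : H → ℂ // IsIrrCharacter H χ ∧ (∀ z, ev χ (f z) = l z * χ 1) ∧ ev χ (τ 1) = d} =
      Nat.card {ψ : N → ℂ // IsIrrCharacter N ψ ∧ (∀ z, ψ (ζ z) = l z * ψ 1) ∧ ψ 1 = d} := by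
  classical
  obtain ⟨F, hF, col, mul, star, h1, hz, z0, zc⟩ := D.dm.exists_fam
  have key := deform N Z N H 1 F (fun z => lam (ζ z)) 1 (fun n => single n 1) (fun z => single (ζ z) 1) (τ 1) (oc τ)
    f hF (fun x => ⟨col x, ?_, fun a b => ?_, fun a => ⟨a⁻¹, 1, by simp, by
      rw [one_smul, star]⟩⟩) (fun x => ⟨fun z => ?_, fun z a => zc x _ (h0 z) (hc z) a⟩)
    ⟨one_mul _, fun a => by simp, fun g => ?_, ?_, fun a m => ?_, fun z x => ?_, fun z m => ?_⟩
    ⟨D.e_hk 1, fun a => by rw [D.e_nb, D.nb_e], fun g => D.corner _, D.li, fun a m => ?_, hf, fun z m => ?_⟩ l d hd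
  · simp only [cnt, ev_single, one_mul, one_def] at key
    exact key.symm
  · have : F x 1 = 1 := by
      rw [z0 x 1 D.one]
      ext k n
      simp [lam, Matrix.one_apply]
    exact Submodule.subset_span ⟨1, this⟩
  · rw [mul]
    exact Submodule.sum_mem _ fun k _ => Submodule.smul_mem _ _ (Submodule.subset_span ⟨k, rfl⟩)
  · exact Submodule.subset_span ⟨ζ z, z0 x _ (h0 z)⟩
  · exact Submodule.subset_span ⟨g, by simp⟩
  · exact (MonoidAlgebra.basis N ℂ).linearIndependent
  · rw [hz, sum_lam (fun n => single n (1 : ℂ)), single_mul_single, one_mul]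
  · exact single_comm (Subgroup.mem_center_iff.2 fun n => (hc z n).symm) x
  · rw [sum_lam (fun n => single n (1 : ℂ)), single_mul_single, one_mul]
  · rw [h1, D.nb_mul]
  · rw [sum_lam, oc, oc, mul_smul_comm, ha, D.nq_zero (h0 z)]

/-- **the deformation theorem, idempotent form** -/
theorem coreI : CoreI := by
  intro G N _ _ _ _ len t D d hd
  have := Fintype.ofFinite G
  have := Fintype.ofFinite N
  have key := D.count (Z := Empty) Empty.elim Empty.elim (fun z => z.elim) (fun z => z.elim) (fun z => z.elim)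
    (fun z => z.elim) Empty.elim hd
  refine (Nat.card_congr (Equiv.subtypeEquivRight fun χ => and_congr_right fun _ => ?_)).trans
    (key.trans (Nat.card_congr (Equiv.subtypeEquivRight fun ψ => and_congr_right fun hψ => ?_)))
  · rw [ev_eq]
    simp
  · rw [Blocks.Basic.irr_one_eq_charDegree hψ, Nat.cast_inj]
    simp

end Cfsg.Agent.MK.Y

private theorem dce_1369e22ca679 : _root_.True := by
  try have : _root_.True := by simp only [_root_.Cfsg.Agent.MK.Y.mc.eq_1]
  try have : _root_.True := by simp only [_root_.Cfsg.Agent.MK.Y.oc.eq_1]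
  exact _root_.True.intro
end

-- part: MK/Sp2/BComb
section
prune_inst 0x3570756575620204001c8592b32064e5750005b2006b8001f9460f460f4deb63a9c3afe1fff0171e93feb6e5584fc068131001d9421001c02a04b600411f01a094ef7ae6f77dff9d7d001fc0fb8f795c02089100000000000000000000000004014010000
set_option linter.all false
open scoped Cfsg.Agent.FastGrp

/-!
# MK, `Sp_{2n}(2)`: the combinatorics of the compatible signed permutations (helper43)

The positions `0, …, 2 k + 3` are the weights of the natural module in decreasing order, a pair `p < q` is a positive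
root.  `f` is the negative of a signed permutation: the root `(p, q)` stays positive iff `f q < f p`.

* `SP k y c e p q` : the support of a linear character;  `Bj`, `Cm` : compatible bijections;
* `shape` : the form of the compatible bijections;  `inv_one`, `inv_two`, `cross` : the consequences.
-/

set_option autoImplicit false
set_option maxHeartbeats 400000
set_option linter.unusedVariables false

namespace Cfsg.Agent.MK.Sp2.B

/-- the support: `y` the two roots `a + b`, `a + 2 b`; `c` the last short node; `e` the long node -/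
def SP (k y c e p q : ℕ) : Prop :=
  (q = p + 1 ∧ (p < k ∨ k + 3 ≤ p)) ∨ (y = 1 ∧ ((p = k ∧ (q = k + 2 ∨ q = k + 3)) ∨ (p = k + 1 ∧ q = k + 3))) ∨
    (c = 1 ∧ q = p + 1 ∧ (p = k ∨ p = k + 2)) ∨ (e = 1 ∧ p = k + 1 ∧ q = k + 2)

/-- a signed permutation of the positions -/
structure Bj (k : ℕ) (f : ℕ → ℕ) : Prop where
  lt : ∀ p, p < 2 * k + 4 → f p < 2 * k + 4
  inj : ∀ p q, p < 2 * k + 4 → q < 2 * k + 4 → f p = f q → p = q
  surj : ∀ v, v < 2 * k + 4 → ∃ p, p < 2 * k + 4 ∧ f p = v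
  sym : ∀ p q, p + q = 2 * k + 3 → f p + f q = 2 * k + 3

/-- compatibility -/
def Cm (k y c e y' c' e' : ℕ) (f : ℕ → ℕ) : Prop :=
  ∀ p q, p < q → q < 2 * k + 4 → f q < f p → (SP k y c e p q ↔ SP k y' c' e' (f q) (f p))

/-- the exchange of the two middle positions -/
def sw (k p : ℕ) : ℕ := if p = k + 1 then k + 2 else if p = k + 2 then k + 1 else p

variable {k y c e y' c' e' : ℕ} {f : ℕ → ℕ}

theorem run (B : Bj k f) (C : Cm k y c e y' c' e' f) {p0 len : ℕ} (h1 : p0 + len ≤ k) (h2 : len ≤ f p0)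
    (h3 : f p0 ≤ k ∨ k + 3 + len ≤ f p0) (h4 : ∀ p, p < p0 → f p + len < f p0 ∨ f p0 ≤ f p) :
    ∀ j, j ≤ len → ∀ i, i ≤ j → f (p0 + i) + i = f p0 := by
  intro j
  induction j with
  | zero => intro _ i hi; obtain rfl : i = 0 := by omega
            rfl
  | succ j ih =>
    intro hj i hi
    have ih' := ih (by omega)
    rcases Nat.lt_or_ge i (j + 1) with h5 | h5
    · exact ih' i (by omega)
    obtain rfl : i = j + 1 := by omega
    have h6 := B.lt p0 (by omega)
    obtain ⟨q, hq, hf⟩ := B.surj (f p0 - (j + 1)) (by omega)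
    have h7 := ih' j le_rfl
    have h8 : p0 + j < q := by
      by_contra h9
      rcases Nat.lt_or_ge q p0 with h10 | h10
      · have := h4 q h10
        omega
      · have := ih' (q - p0) (by omega)
        rw [show p0 + (q - p0) = q by omega] at this
        omega
    have h9 := (C (p0 + j) q h8 hq (by omega)).2 (Or.inl (by omega))
    have h10 : q = p0 + (j + 1) := by unfold SP at h9; omega
    rw [← h10]
    omega

theorem run' (B : Bj k f) (C : Cm k y c e y' c' e' f) {p0 len : ℕ} (h1 : p0 + len ≤ k) (h2 : len ≤ f p0)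
    (h3 : f p0 ≤ k ∨ k + 3 + len ≤ f p0) (h4 : ∀ p, p < p0 → f p + len < f p0 ∨ f p0 ≤ f p) (p : ℕ) (h5 : p0 ≤ p)
    (h6 : p ≤ p0 + len) : f p + p = f p0 + p0 := by
  have := run B C h1 h2 h3 h4 len le_rfl (p - p0) (by omega)
  rw [show p0 + (p - p0) = p by omega] at this
  omega

theorem no4 (B : Bj k f) (C : Cm k y c e 1 c' e' f) {p : ℕ} (hp : p < k) : f p ≠ k + 3 := by
  intro h
  have h1 := B.sym p (2 * k + 3 - p) (by omega)
  have h2 := (C p (2 * k + 3 - p) (by omega) (by omega) (by omega)).2 (by unfold SP; (solve | lia | omega))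
  unfold SP at h2
  omega

theorem run_up (B : Bj k f) (C : Cm k y c e 1 c' e' f) {p0 : ℕ} (h1 : p0 ≤ k) (h2 : k + 3 ≤ f p0)
    (h4 : ∀ p, p < p0 → f p < k + 3 ∨ f p0 ≤ f p) :
    2 * k + 3 ≤ f p0 + p0 ∧ ∀ p, p0 ≤ p → p ≤ k → f p + p = f p0 + p0 := by
  have h5 : 2 * k + 3 ≤ f p0 + p0 := by
    by_contra h6
    have h7 := run' B C (p0 := p0) (len := f p0 - (k + 3)) (by omega) (by omega) (by omega)
      (fun p hp => by have := h4 p hp; omega) (p0 + (f p0 - (k + 3))) (by omega) le_rfl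
    exact no4 B C (p := p0 + (f p0 - (k + 3))) (by omega) (by omega)
  exact ⟨h5, fun p h6 h7 => run' B C (p0 := p0) (len := k - p0) (by omega) (by omega) (by omega)
    (fun p hp => by have := h4 p hp; omega) p h6 (by omega)⟩

/-- `f` is an involution of the first `lo` positions -/
def Iv (f : ℕ → ℕ) (lo : ℕ) : Prop := ∀ p, p < lo → f p < lo ∧ f (f p) = p

theorem Iv.ge (B : Bj k f) {lo : ℕ} (I : Iv f lo) (hlo : lo ≤ k + 1) {q : ℕ} (h1 : lo ≤ q) (h2 : q < 2 * k + 4) :
    lo ≤ f q := by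
  by_contra h
  have h3 := I (f q) (by omega)
  have h4 := B.inj (f (f q)) q (by omega) h2 h3.2
  omega

theorem Iv.le (B : Bj k f) {lo : ℕ} (I : Iv f lo) (hlo : lo ≤ k + 1) {q : ℕ} (h2 : q + lo ≤ 2 * k + 3) :
    f q + lo ≤ 2 * k + 3 := by
  have h3 := I.ge B hlo (q := 2 * k + 3 - q) (by omega) (by omega)
  have h4 := B.sym q (2 * k + 3 - q) (by omega)
  omega

/-- the forms of the rest -/
def Sh (k c e c' e' : ℕ) (f : ℕ → ℕ) (lo : ℕ) : Prop :=
  (∀ p, lo ≤ p → p ≤ k → f p + p = 2 * k + 3) ∨ lo = k ∨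
    (lo < k ∧ (∀ p, lo < p → p ≤ k → f p + p = lo + 1 + k) ∧ ((f lo = k + 2 ∧ e' ≠ 1) ∨ (f lo = k + 1 ∧ c' = 1)) ∧
      ((f (k + 2) = lo ∧ e ≠ 1) ∨ (f (k + 1) = lo ∧ c = 1))) ∨
    (lo < k ∧ f lo = k + 1 ∧ f (k + 1) = lo ∧ (∀ p, lo < p → p ≤ k → f p + p = 2 * k + 3) ∧ c ≠ 1 ∧ c' ≠ 1)

theorem shapeC (B : Bj k f) (C : Cm k 1 c e 1 c' e' f) {lo : ℕ} (I : Iv f lo) (hlo : lo < k)
    (h : f lo = k + 2 ∨ (f lo = k + 1 ∧ c' = 1)) : Sh k c e c' e' f lo := by
  have h1 : f (lo + 1) = k := by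
    obtain ⟨q, hq, hf⟩ := B.surj k (by omega)
    have h2 : lo < q := by
      by_contra h3
      rcases Nat.lt_or_ge q lo with h4 | h4
      · have := I q h4
        omega
      · obtain rfl : q = lo := by omega
        omega
    have h3 := (C lo q h2 hq (by omega)).2 (by unfold SP; (solve | lia | omega))
    obtain rfl : q = lo + 1 := by unfold SP at h3; omega
    exact hf
  have h2 : ∀ p, lo < p → p ≤ k → f p + p = lo + 1 + k := fun p h3 h4 => by
    have := run' B C (p0 := lo + 1) (len := k - (lo + 1)) (by omega) (by omega) (by omega) (fun p hp => by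
      rcases Nat.lt_or_ge p lo with h4 | h4
      · have := I p h4
        omega
      · obtain rfl : p = lo := by omega
        omega) p (by omega) (by omega)
    omega
  refine Or.inr (Or.inr (Or.inl ⟨hlo, h2, ?_, ?_⟩))
  · rcases h with h | h
    · refine Or.inl ⟨h, fun h3 => ?_⟩
      have h4 := B.sym lo (2 * k + 3 - lo) (by omega)
      have h5 := (C lo (2 * k + 3 - lo) (by omega) (by omega) (by omega)).2 (by unfold SP; omega)
      unfold SP at h5
      (clear * - hlo h5; omega)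
    · exact Or.inr h
  · obtain ⟨q, hq, hf⟩ := B.surj lo (by omega)
    have h3 : k < q := by
      by_contra h3
      rcases Nat.lt_trichotomy q lo with h4 | h4 | h4
      · have := I q h4
        omega
      · subst h4
        omega
      · have := h2 q h4 (by omega)
        omega
    have h4 := h2 k hlo le_rfl
    have h5 := (C k q h3 hq (by omega)).2 (by unfold SP; (solve | lia | omega))
    have h6 := B.sym k (k + 3) (by omega)
    have h7 : q = k + 2 ∨ q = k + 3 ∨ (c = 1 ∧ q = k + 1) := by unfold SP at h5; (clear * - h5; (solve | lia | omega))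
    rcases h7 with rfl | rfl | ⟨h7, rfl⟩
    · refine Or.inl ⟨hf, fun h8 => ?_⟩
      have h9 := B.sym (k + 1) (k + 2) (by omega)
      have h10 := (C (k + 1) (k + 2) (by omega) (by omega) (by omega)).1 (by unfold SP; omega)
      unfold SP at h10
      (clear * - hlo hf h9 h10; omega)
    · omega
    · exact Or.inr ⟨hf, h7⟩

theorem shapeD (B : Bj k f) (C : Cm k 1 c e 1 c' e' f) {lo : ℕ} (I : Iv f lo) (hlo : lo < k)
    (h : f lo = k + 1) (hc : c' ≠ 1) : Sh k c e c' e' f lo := by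
  have h1 : k + 3 ≤ f (lo + 1) := by
    have h2 := B.sym lo (2 * k + 3 - lo) (by omega)
    have h3 := B.inj (lo + 1) lo (by omega) (by omega)
    have h4 := B.inj (lo + 1) (2 * k + 3 - lo) (by omega) (by omega)
    by_contra h5
    have h6 := (C lo (lo + 1) (by omega) (by omega) (by omega)).1 (by unfold SP; (clear * - hlo; (solve | lia | omega)))
    unfold SP at h6
    (clear * - h hc h6; omega)
  obtain ⟨h2, h3⟩ := run_up B C (p0 := lo + 1) (by omega) h1 fun p hp => by
    rcases Nat.lt_or_ge p lo with h4 | h4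
    · have := I p h4
      omega
    · obtain rfl : p = lo := by omega
      omega
  have h4 := I.le B (by omega) (q := lo + 1) (by omega)
  have h5 := h3 k (by omega) le_rfl
  have h6 := B.sym k (k + 3) (by omega)
  have h7 : f (lo + 1) + (lo + 1) = 2 * k + 3 := by
    by_contra h8
    have h9 := (C k (k + 3) (by omega) (by omega) (by omega)).1 (by unfold SP; (solve | lia | omega))
    unfold SP at h9
    (clear * - h2 h5 h6 h8 h9; omega)
  have h8 : ∀ p, lo < p → p ≤ k → f p + p = 2 * k + 3 := fun p h8 h9 => by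
    have := h3 p h8 h9
    omega
  obtain ⟨q, hq, hf⟩ := B.surj lo (by omega)
  have h9 : k < q := by
    by_contra h9
    rcases Nat.lt_trichotomy q lo with h10 | h10 | h10
    · have := I q h10
      omega
    · subst h10
      omega
    · have := h8 q h10 (by omega)
      omega
  have h10 : q < k + 3 := by
    by_contra h10
    have h11 := B.sym q (2 * k + 3 - q) (by (clear * - hq; omega))
    rcases Nat.lt_trichotomy (2 * k + 3 - q) lo with h12 | h12 | h12
    · have := I _ h12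
      (clear * - hlo hf h11 this; omega)
    · rw [h12] at h11
      omega
    · have := h8 _ h12 (by omega)
      omega
  have h11 := C k q h9 hq (by omega)
  have h12 : ¬ SP k 1 c' e' (f q) (f k) := by unfold SP; (clear * - hlo h5 h7 hf; omega)
  rw [← h11] at h12
  obtain rfl : q = k + 1 := by unfold SP at h12; (clear * - h9 h10 h12; (solve | lia | omega))
  exact Or.inr (Or.inr (Or.inr ⟨hlo, h, hf, h8, by unfold SP at h12; omega, hc⟩))

theorem shape_aux (B : Bj k f) (C : Cm k 1 c e 1 c' e' f) : ∀ d lo, k + 1 ≤ lo + d → lo ≤ k + 1 → Iv f lo →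
    ∃ lo, lo ≤ k + 1 ∧ Iv f lo ∧ Sh k c e c' e' f lo := by
  intro d
  induction d with
  | zero => exact fun lo h1 h2 I => ⟨lo, h2, I, Or.inl fun p h3 h4 => by omega⟩
  | succ d ih =>
    intro lo h1 h2 I
    rcases Nat.lt_trichotomy lo k with h3 | h3 | h3
    swap
    · exact ⟨lo, h2, I, Or.inr (Or.inl h3)⟩
    swap
    · exact ⟨lo, h2, I, Or.inl fun p h3 h4 => by omega⟩
    have h4 := I.ge B h2 (q := lo) le_rfl (by omega)
    have h5 := I.le B h2 (q := lo) (by omega)
    by_cases h6 : f lo ≤ k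
    · have h7 := run' B C (p0 := lo) (len := f lo - lo) (by omega) (by omega) (Or.inl h6) fun p hp => by
        have := I p hp
        omega
      refine ih (f lo + 1) (by omega) (by omega) fun p hp => ?_
      rcases Nat.lt_or_ge p lo with h8 | h8
      · have := I p h8
        omega
      · have h9 := h7 p h8 (by omega)
        have h10 := h7 (f p) (by omega) (by omega)
        omega
    refine ⟨lo, h2, I, ?_⟩
    by_cases h7 : k + 3 ≤ f lo
    · obtain ⟨h8, h9⟩ := run_up B C (p0 := lo) (by omega) h7 fun p hp => by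
        have := I p hp
        omega
      exact Or.inl fun p h10 h11 => by
        have := h9 p h10 h11
        omega
    by_cases h8 : f lo = k + 2 ∨ (f lo = k + 1 ∧ c' = 1)
    · exact shapeC B C I h3 h8
    · exact shapeD B C I h3 (by omega) (by omega)

theorem shape (B : Bj k f) (C : Cm k 1 c e 1 c' e' f) : ∃ lo, lo ≤ k + 1 ∧ Iv f lo ∧ Sh k c e c' e' f lo :=
  shape_aux B C (k + 1) 0 (by omega) (by omega) fun _ h => by omega

theorem mid (B : Bj k f) {lo : ℕ} (hlo : lo ≤ k + 1) (I : Iv f lo) (h : ∀ p, lo ≤ p → p ≤ k → f p + p = 2 * k + 3) :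
    f (k + 1) = k + 1 ∨ f (k + 1) = k + 2 := by
  have h1 : ∀ q, k + 1 ≤ q → q ≤ k + 2 → k < f q := fun q h2 h3 => by
    by_contra h4
    have h5 := I.ge B hlo (q := q) (by omega) (by omega)
    have h6 := h (f q) h5 (by omega)
    have h7 := B.sym (f q) (2 * k + 3 - f q) (by omega)
    have h8 := B.inj q (2 * k + 3 - f q) (by omega) (by omega) (by omega)
    omega
  have h2 := h1 (k + 1) (by omega) (by omega)
  have h3 := h1 (k + 2) (by omega) (by omega)
  have h4 := B.sym (k + 1) (k + 2) (by omega)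
  omega

theorem sw_lt {p : ℕ} (hp : p < 2 * k + 4) : sw k p < 2 * k + 4 := by unfold sw; (first | (lia; done) | (split_ifs <;> omega))

theorem sw_sw (k p : ℕ) : sw k (sw k p) = p := by unfold sw; (first | (lia; done) | (split_ifs <;> omega))

theorem sw_of {p : ℕ} (hp : p ≤ k ∨ k + 3 ≤ p) : sw k p = p := by unfold sw; (first | (lia; done) | (split_ifs <;> omega))

theorem sw_one (k : ℕ) : sw k (k + 1) = k + 2 := by unfold sw; (first | (lia; done) | (split_ifs <;> omega))

theorem sw_two (k : ℕ) : sw k (k + 2) = k + 1 := by unfold sw; split_ifs <;> omega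

theorem Bj.csw (B : Bj k f) : Bj k fun p => f (sw k p) where
  lt p hp := B.lt _ (sw_lt hp)
  inj p q hp hq h := by rw [← sw_sw k p, B.inj _ _ (sw_lt hp) (sw_lt hq) h, sw_sw]
  surj v hv := by
    obtain ⟨p, hp, h⟩ := B.surj v hv
    exact ⟨_, sw_lt hp, by rw [sw_sw, h]⟩
  sym p q h := B.sym _ _ (by unfold sw; (first | (lia; done) | (split_ifs <;> omega)))

theorem inv_of_half (B : Bj k f) (h : ∀ p, p ≤ k + 1 → f (f p) = p) (p : ℕ) (hp : p < 2 * k + 4) : f (f p) = p := by
  rcases Nat.lt_or_ge (k + 1) p with h1 | h1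
  · have h2 := h (2 * k + 3 - p) (by omega)
    have h3 := B.sym p (2 * k + 3 - p) (by omega)
    have h4 := B.sym _ _ h3
    omega
  · exact h p h1

/-- the involutions: `lo` and `m` are exchanged, the positions between are reflected -/
theorem inv_of (B : Bj k f) {lo m : ℕ} (I : Iv f lo) (h0 : lo ≤ k) (hm : m = k + 1 ∨ m = k + 2) (h1 : f lo = m)
    (h2 : f m = lo) (h3 : (∀ p, lo < p → p ≤ k → f p + p = lo + 1 + k) ∨ ∀ p, lo < p → p ≤ k → f p + p = 2 * k + 3) :
    ∀ p, p < 2 * k + 4 → f (f p) = p := by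
  refine inv_of_half B fun p hp => ?_
  rcases Nat.lt_trichotomy p lo with h4 | h4 | h4
  · exact (I p h4).2
  · rw [h4, h1, h2]
  rcases Nat.lt_or_ge k p with h5 | h5
  · obtain rfl : p = k + 1 := by omega
    rcases hm with rfl | rfl
    · rw [h2, h1]
    · have h6 := B.sym (k + 1) (k + 2) (by omega)
      have h7 := B.sym _ _ h6
      rw [h2, h1] at h7
      omega
  rcases h3 with h3 | h3
  · have h6 := h3 p h4 h5
    have h7 := h3 (f p) (by omega) (by omega)
    omega
  · have h6 := h3 p h4 h5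
    have h7 := B.sym _ _ h6
    omega

theorem inv_A (B : Bj k f) {lo : ℕ} (hlo : lo ≤ k + 1) (I : Iv f lo) (h : ∀ p, lo ≤ p → p ≤ k → f p + p = 2 * k + 3) :
    ∀ p, p < 2 * k + 4 → f (f p) = p := by
  refine inv_of_half B fun p hp => ?_
  rcases Nat.lt_or_ge p lo with h4 | h4
  · exact (I p h4).2
  rcases Nat.lt_or_ge k p with h5 | h5
  · obtain rfl : p = k + 1 := by omega
    have h6 := B.sym (k + 1) (k + 2) (by omega)
    rcases mid B hlo I h with h7 | h7
    · rw [h7, h7]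
    · rw [h7]; omega
  · have h6 := h p h4 h5
    have h7 := B.sym _ _ h6
    omega

theorem Iv.csw {lo : ℕ} (I : Iv f lo) (hlo : lo ≤ k) : Iv (fun p => f (sw k p)) lo := fun p hp => by
  have := I p hp
  show f (sw k p) < lo ∧ f (sw k (f (sw k p))) = p
  rw [sw_of (p := p) (by omega), sw_of (p := f p) (by omega)]
  exact this

/-- the four middle positions -/
theorem base (B : Bj k f) (I : Iv f k) : f k = k ∨ f k = k + 3 ∨ ((f k = k + 1 ∨ f k = k + 2) ∧
    (f (k + 1) = k ∨ f (k + 2) = k)) := by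
  have h1 := I.ge B (by omega) (q := k) (by omega) (by omega)
  have h2 := I.le B (by omega) (q := k) (by omega)
  have h3 := I.ge B (by omega) (q := k + 1) (by omega) (by omega)
  have h4 := I.le B (by omega) (q := k + 1) (by omega)
  have h5 := B.sym (k + 1) (k + 2) (by omega)
  have h6 := B.inj k (k + 1) (by omega) (by omega)
  have h7 := B.inj k (k + 2) (by omega) (by omega)
  omega

theorem Iv.succ {lo : ℕ} (I : Iv f lo) (h : f lo = lo) : Iv f (lo + 1) := fun p hp => by
  rcases Nat.lt_or_ge p lo with h1 | h1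
  · have := I p h1
    omega
  · obtain rfl : p = lo := by omega
    rw [h, h]
    omega

/-- **(I)** -/
theorem inv_one (B : Bj k f) (C : Cm k 1 0 e 1 0 e' f) : ∀ p, p < 2 * k + 4 → f (f p) = p := by
  obtain ⟨lo, hlo, I, h | rfl | ⟨h1, h2, h3, h4⟩ | ⟨h1, h2, h3, h4, -⟩⟩ := shape B C
  · exact inv_A B hlo I h
  · rcases base B I with h | h | ⟨h, h'⟩
    · exact inv_A B le_rfl (I.succ h) fun p h1 h2 => by omega
    · exact inv_A B hlo I fun p h1 h2 => by obtain rfl : p = lo := by omega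
                                            omega
    · have h1 := C lo (lo + 1) (by omega) (by omega)
      have h2 := C lo (lo + 2) (by omega) (by omega)
      rcases h with h | h <;> rcases h' with h' | h'
      · exact inv_of B I le_rfl (Or.inl rfl) h h' (Or.inl fun p _ _ => by omega)
      · rw [h, h'] at h2
        unfold SP at h2
        (solve | lia | omega)
      · rw [h, h'] at h1
        unfold SP at h1
        (clear * - h1; (solve | lia | omega))
      · exact inv_of B I le_rfl (Or.inr rfl) h h' (Or.inl fun p _ _ => by omega)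
  · exact inv_of B I h1.le (Or.inr rfl) (by omega) (by omega) (Or.inl h2)
  · exact inv_of B I h1.le (Or.inl rfl) h2 h3 (Or.inr h4)

theorem inv_two_of (B : Bj k f) {lo : ℕ} (I : Iv f lo) (h0 : lo ≤ k) (h1 : f lo = k + 1 ∨ f lo = k + 2)
    (h2 : f (k + 1) = lo ∨ f (k + 2) = lo) (h3 : ∀ p, lo < p → p ≤ k → f p + p = lo + 1 + k) :
    (∀ p, p < 2 * k + 4 → f (f p) = p) ∨ ∀ p, p < 2 * k + 4 → f (sw k (f (sw k p))) = p := by
  have h4 : ∀ p, lo < p → p ≤ k → f (sw k p) + p = lo + 1 + k := fun p h4 h5 => by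
    rw [sw_of (Or.inl h5)]
    exact h3 p h4 h5
  rcases h1 with h1 | h1 <;> rcases h2 with h2 | h2
  · exact Or.inl (inv_of B I h0 (Or.inl rfl) h1 h2 (Or.inl h3))
  · exact Or.inr (inv_of B.csw (I.csw h0) h0 (Or.inl rfl) (by rw [← h1]; exact congrArg f (sw_of (Or.inl h0)))
      (by rw [← h2]; exact congrArg f (sw_one k)) (Or.inl h4))
  · exact Or.inr (inv_of B.csw (I.csw h0) h0 (Or.inr rfl) (by rw [← h1]; exact congrArg f (sw_of (Or.inl h0)))
      (by rw [← h2]; exact congrArg f (sw_two k)) (Or.inl h4))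
  · exact Or.inl (inv_of B I h0 (Or.inr rfl) h1 h2 (Or.inl h3))

/-- **(II)** -/
theorem inv_two (B : Bj k f) (C : Cm k 1 1 e 1 1 e' f) :
    (∀ p, p < 2 * k + 4 → f (f p) = p) ∨ ∀ p, p < 2 * k + 4 → f (sw k (f (sw k p))) = p := by
  obtain ⟨lo, hlo, I, h | rfl | ⟨h1, h2, h3, h4⟩ | ⟨h1, h2, h3, h4, h5, -⟩⟩ := shape B C
  · exact Or.inl (inv_A B hlo I h)
  · rcases base B I with h | h | ⟨h, h'⟩
    · exact Or.inl (inv_A B le_rfl (I.succ h) fun p h1 h2 => by omega)
    · exact Or.inl (inv_A B hlo I fun p h1 h2 => by obtain rfl : p = lo := by omega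
                                                    omega)
    · exact inv_two_of B I le_rfl h h' fun p _ _ => by omega
  · exact inv_two_of B I h1.le (by omega) (by omega) h2
  · exact absurd rfl h5

/-- **(III)** -/
theorem cross (B : Bj k f) (C : Cm k 1 1 e 1 0 e' f) (he : e = 1 ↔ e' ≠ 1) (hm : f (k + 2) < f (k + 1)) : False := by
  have h0 := C (k + 1) (k + 2) (by omega) (by omega) hm
  have hs := B.sym (k + 1) (k + 2) (by omega)
  have hA : ∀ lo, lo ≤ k + 1 → Iv f lo → (∀ p, lo ≤ p → p ≤ k → f p + p = 2 * k + 3) → False := fun lo hlo I h => by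
    have := mid B hlo I h
    unfold SP at h0
    (solve | lia | omega)
  obtain ⟨lo, hlo, I, h | rfl | ⟨h1, h2, h3, h4⟩ | ⟨h1, h2, h3, h4, h5, -⟩⟩ := shape B C
  · exact hA lo hlo I h
  · rcases base B I with h | h | ⟨h, h'⟩
    · exact hA _ le_rfl (I.succ h) fun p h1 h2 => by omega
    · exact hA _ hlo I fun p h1 h2 => by obtain rfl : p = lo := by omega
                                         omega
    · have h1 : f (lo + 2) = lo := by omega
      have h2 := C lo (lo + 2) (by omega) (by omega) (by omega)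
      have h3 := C lo (lo + 3) (by omega) (by omega)
      have h4 := B.sym lo (lo + 3) (by omega)
      have h5 : e = 1 := by unfold SP at h0; (clear * - h0 hs h1; (solve | lia | omega))
      have h6 : f lo = lo + 2 := by unfold SP at h2; (clear * - h h1 h2 h5; (solve | lia | omega))
      unfold SP at h3
      (solve | lia | omega)
  · omega
  · exact absurd rfl h5

/-! ### from the Gelfand-Graev character to `X₂` -/

theorem spG {p q : ℕ} : SP k 0 1 1 p q ↔ q = p + 1 := by unfold SP; (solve | lia | omega)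

theorem adj (C : Cm k 0 1 1 0 1 1 f) {p : ℕ} (hp : p + 1 < 2 * k + 4) (h : f (p + 1) < f p) : f p = f (p + 1) + 1 :=
  spG.1 ((C p (p + 1) (by omega) hp h).1 (spG.2 rfl))

theorem gam_one (B : Bj k f) (C : Cm k 0 1 1 0 1 1 f) (h : f k < f (k + 1)) : Cm k 1 0 1 0 1 1 f := by
  intro p q h1 h2 h3
  rw [← C p q h1 h2 h3, spG]
  have h4 := B.sym k (k + 3) (by omega)
  have h5 := B.sym (k + 1) (k + 2) (by omega)
  have h6 : f (k + 2) < f (k + 1) → f (k + 1) = f (k + 2) + 1 := adj C (p := k + 1) (by omega)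
  have h7 := B.inj k (k + 2) (by omega) (by omega)
  have h8 : ¬ (p = k ∧ q = k + 1) := by rintro ⟨rfl, rfl⟩; omega
  have h9 : ¬ (p = k ∧ q = k + 2) := by rintro ⟨rfl, rfl⟩; omega
  have h10 : ¬ (p = k ∧ q = k + 3) := by rintro ⟨rfl, rfl⟩; omega
  have h11 : ¬ (p = k + 1 ∧ q = k + 3) := by rintro ⟨rfl, rfl⟩; (clear * - h h4 h5 h6 h3; omega)
  have h12 : ¬ (p = k + 2 ∧ q = k + 3) := by rintro ⟨rfl, rfl⟩; omega
  unfold SP
  (clear * - h8 h9 h10 h11 h12; (solve | lia | omega))

theorem gam_two (B : Bj k f) (C : Cm k 0 1 1 0 1 1 f) (h : f (k + 1) < f k) (h' : f (k + 1) < f (k + 2)) :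
    Cm k 1 1 0 0 1 1 fun p => f (sw k p) := by
  intro p q h1 h2 h3
  have h4 := B.sym k (k + 3) (by omega)
  have h5 := B.sym (k + 1) (k + 2) (by omega)
  have h6 : f k = f (k + 1) + 1 := adj C (p := k) (by omega) h
  have h7 := B.inj k (k + 2) (by omega) (by omega)
  have h7' := B.inj k (k + 3) (by omega) (by omega)
  by_cases h0 : p = k + 1 ∧ q = k + 2
  · obtain ⟨rfl, rfl⟩ := h0
    show _ ↔ SP k 0 1 1 (f (sw k (k + 2))) (f (sw k (k + 1)))
    rw [sw_one, sw_two, spG]
    unfold SP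
    (clear * - h6 h7; omega)
  have h8 : sw k p < sw k q := by unfold sw; (first | (lia; done) | (split_ifs <;> omega))
  have h9 := C _ _ h8 (sw_lt h2) h3
  show _ ↔ SP k 0 1 1 (f (sw k q)) (f (sw k p))
  rw [← h9, spG]
  change f (sw k q) < f (sw k p) at h3
  have h10 : ¬ (p = k ∧ q = k + 1) := by rintro ⟨rfl, rfl⟩; rw [sw_one, sw_of (Or.inl le_rfl)] at h3; omega
  have h11 : ¬ (p = k ∧ q = k + 3) := by
    rintro ⟨rfl, rfl⟩; rw [sw_of (Or.inr le_rfl), sw_of (Or.inl le_rfl)] at h3; (clear * - h' h4 h5 h6 h7 h3; (solve | (exfalso; omega) | omega))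
  have h12 : ¬ (p = k + 2 ∧ q = k + 3) := by rintro ⟨rfl, rfl⟩; rw [sw_two, sw_of (Or.inr le_rfl)] at h3; omega
  unfold SP sw
  (first | (lia; done) | (split_ifs <;> omega))

theorem exists_lo (B : Bj k f) (C : Cm k 0 1 1 0 1 1 f) (h : f (k + 1) < f k) (h' : f (k + 2) < f (k + 1)) :
    ∃ lo, lo ≤ k ∧ (∀ p, lo ≤ p → p ≤ k + 1 → f p + p = 2 * k + 3) ∧ ∀ p, p < lo → f p < lo := by
  classical
  have h0 : ∀ p, k ≤ p → p ≤ k + 1 → f p + p = 2 * k + 3 := fun p h1 h2 => by
    have h3 := adj C (p := k) (by omega) h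
    have h4 : f (k + 1) = f (k + 2) + 1 := adj C (p := k + 1) (by omega) h'
    have h5 := B.sym (k + 1) (k + 2) (by omega)
    obtain rfl | rfl : p = k ∨ p = k + 1 := by omega
    all_goals omega
  have hex : ∃ lo, ∀ p, lo ≤ p → p ≤ k + 1 → f p + p = 2 * k + 3 := ⟨k, h0⟩
  have h1 := Nat.find_spec hex
  have h2 := Nat.find_min' hex h0
  have h3 : ∀ m, m < Nat.find hex → ¬ ∀ p, m ≤ p → p ≤ k + 1 → f p + p = 2 * k + 3 := fun m hm => Nat.find_min hex hm
  generalize Nat.find hex = lo at h1 h2 h3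
  refine ⟨lo, h2, h1, ?_⟩
  have h4 : ∀ p, p < lo → f p < lo ∨ 2 * k + 3 < f p + lo := fun p hp => by
    by_contra h5
    have h6 : f (2 * k + 3 - f p) = f p := by
      rcases Nat.lt_or_ge (k + 1) (f p) with h6 | h6
      · have := h1 (2 * k + 3 - f p) (by omega) (by omega)
        omega
      · have h7 := h1 (f p) (by omega) h6
        have := B.sym (f p) (2 * k + 3 - f p) (by omega)
        omega
    have := B.inj _ _ (by omega) (by omega) h6
    omega
  have h5 : ∀ d p, p + d + 1 = lo → f p < lo := by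
    intro d
    induction d with
    | zero =>
      intro p hp
      by_contra h6
      have h7 := h1 (p + 1) (by omega) (by omega)
      have h8 := h4 p (by omega)
      have h9 := adj C (p := p) (by omega) (by omega)
      refine h3 p (by omega) fun r h10 h11 => ?_
      rcases Nat.lt_or_ge p r with h12 | h12
      · exact h1 r (by omega) h11
      · obtain rfl : r = p := by omega
        omega
    | succ d ih =>
      intro p hp
      by_contra h6
      have h7 := ih (p + 1) (by omega)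
      have h8 := h4 p (by omega)
      have h9 := adj C (p := p) (by omega) (by omega)
      omega
  exact fun p hp => h5 (lo - p - 1) p (by omega)

/-- the modified central block -/
def cb (k lo : ℕ) (f : ℕ → ℕ) (p : ℕ) : ℕ :=
  if p < lo ∨ 2 * k + 3 < p + lo then f p else if p ≤ k then 2 * k + 2 - p else if p = k + 1 then lo
  else if p = k + 2 then 2 * k + 3 - lo else 2 * k + 4 - p

theorem cb_out {lo p : ℕ} (hp : p < lo ∨ 2 * k + 3 < p + lo) : cb k lo f p = f p := if_pos hp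

theorem cb_in {lo p : ℕ} (hlo : lo ≤ k) (h1 : lo ≤ p) (h2 : p + lo ≤ 2 * k + 3) :
    (p ≤ k ∧ cb k lo f p + p = 2 * k + 2) ∨ (p = k + 1 ∧ cb k lo f p = lo) ∨ (p = k + 2 ∧ cb k lo f p + lo = 2 * k + 3) ∨
      (k + 3 ≤ p ∧ cb k lo f p + p = 2 * k + 4) := by
  unfold cb
  split_ifs <;> (solve | lia | omega)

theorem gam_three (B : Bj k f) (C : Cm k 0 1 1 0 1 1 f) (h : f (k + 1) < f k) (h' : f (k + 2) < f (k + 1)) :
    ∃ g, Bj k g ∧ Cm k 1 0 1 0 1 1 g ∧ g (k + 1) < g k ∧ ∀ p, p < 2 * k + 4 →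
      f p = if p < g (k + 1) ∨ 2 * k + 3 < p + g (k + 1) then g p else 2 * k + 3 - p := by
  obtain ⟨lo, h1, h2, h3⟩ := exists_lo B C h h'
  have h4 : ∀ p, 2 * k + 3 < p + lo → p < 2 * k + 4 → 2 * k + 3 < f p + lo := fun p h5 h6 => by
    have h7 := B.sym p (2 * k + 3 - p) (by omega)
    have h8 := h3 (2 * k + 3 - p) (by omega)
    omega
  have h5 : ∀ p, lo ≤ p → p + lo ≤ 2 * k + 3 → f p + p = 2 * k + 3 := fun p h5 h6 => by
    rcases Nat.lt_or_ge (k + 1) p with h7 | h7
    · have h8 := h2 (2 * k + 3 - p) (by omega) (by omega)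
      have h9 := B.sym p (2 * k + 3 - p) (by omega)
      omega
    · exact h2 p h5 h7
  have h6 : ∀ p, p < 2 * k + 4 → (p < lo ∧ cb k lo f p = f p ∧ f p < lo) ∨
      (2 * k + 3 < p + lo ∧ cb k lo f p = f p ∧ 2 * k + 3 < f p + lo) ∨
      (lo ≤ p ∧ p + lo ≤ 2 * k + 3 ∧ lo ≤ cb k lo f p ∧ cb k lo f p + lo ≤ 2 * k + 3) := fun p hp => by
    by_cases h7 : p < lo
    · exact Or.inl ⟨h7, cb_out (Or.inl h7), h3 p h7⟩
    by_cases h8 : 2 * k + 3 < p + lo
    · exact Or.inr (Or.inl ⟨h8, cb_out (Or.inr h8), h4 p h8 hp⟩)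
    have := cb_in (f := f) (p := p) h1 (by omega) (by omega)
    (solve | lia | omega)
  have h7 : cb k lo f (k + 1) = lo := by
    have := cb_in (f := f) (p := k + 1) h1 (by omega) (by omega)
    omega
  refine ⟨cb k lo f, ⟨fun p hp => ?_, fun p q hp hq e => ?_, fun v hv => ?_, fun p q e => ?_⟩, fun p q h8 h9 h10 => ?_, ?_,
    fun p hp => ?_⟩
  · have := h6 p hp
    have := B.lt p hp
    omega
  · rcases h6 p hp with h8 | h8 | h8 <;> rcases h6 q hq with h9 | h9 | h9 <;> try (clear * - h1 h7 e h8 h9; omega)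
    · exact B.inj p q hp hq (by omega)
    · exact B.inj p q hp hq (by omega)
    · have := cb_in (f := f) h1 h8.1 h8.2.1
      have := cb_in (f := f) h1 h9.1 h9.2.1
      omega
  · by_cases h8 : v < lo ∨ 2 * k + 3 < v + lo
    · obtain ⟨p, hp, e⟩ := B.surj v hv
      refine ⟨p, hp, ?_⟩
      rw [cb_out, e]
      by_contra h9
      have := h5 p (by omega) (by omega)
      omega
    · by_cases h9 : v = lo
      · exact ⟨k + 1, by omega, by omega⟩
      by_cases h10 : v + lo = 2 * k + 3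
      · refine ⟨k + 2, by omega, ?_⟩
        have := cb_in (f := f) (p := k + 2) h1 (by omega) (by omega)
        omega
      by_cases h11 : v ≤ k + 1
      · refine ⟨2 * k + 4 - v, by omega, ?_⟩
        have := cb_in (f := f) (p := 2 * k + 4 - v) h1 (by omega) (by omega)
        omega
      · refine ⟨2 * k + 2 - v, by omega, ?_⟩
        have := cb_in (f := f) (p := 2 * k + 2 - v) h1 (by omega) (by omega)
        (clear * - h8 h10 h11 this; omega)
  · by_cases h8 : p < lo ∨ 2 * k + 3 < p + lo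
    · rw [cb_out h8, cb_out (by omega)]
      exact B.sym p q e
    · have := cb_in (f := f) (p := p) h1 (by omega) (by omega)
      have := cb_in (f := f) (p := q) h1 (by omega) (by omega)
      omega
  · rcases h6 p (by omega) with h11 | h11 | h11 <;> rcases h6 q h9 with h12 | h12 | h12 <;> try (clear * - h1 h7 h10 h11 h12 h8; omega)
    · rw [h11.2.1, h12.2.1, ← C p q h8 h9 (by omega), spG]
      unfold SP
      (clear * - h1 h12; (solve | lia | omega))
    · rw [h11.2.1, h12.2.1, ← C p q h8 h9 (by omega), spG]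
      unfold SP
      omega
    · have h13 := cb_in (f := f) h1 h11.1 h11.2.1
      have h14 := cb_in (f := f) h1 h12.1 h12.2.1
      rw [spG]
      unfold SP
      (clear * - h8 h10 h11 h12 h13 h14; (solve | lia | omega))
  · have := cb_in (f := f) (p := k) h1 (by omega) (by omega)
    omega
  · rw [h7]
    split_ifs with h8
    · exact (cb_out h8).symm
    · have := h5 p (by omega) (by omega)
      omega

end Cfsg.Agent.MK.Sp2.B
end

-- part: MK/GX/Root
section
set_option linter.all false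
open scoped Cfsg.Agent.FastGrp

/-!
# MK, exceptional rows: frames of roots (helper9)

* `Out β x`, `Cmb cs h β`: the combinatorics of a frame;
* `not_two`: the product of two reflections with odd pairings is not a `2`-element;
* `Cmb.weyl`: a Sylow `2`-subgroup of `W` whose normaliser stabilises the frame;
* `Bf`, `cpr_eq`, `cmb_of`: the criterion with a symmetriser of the Cartan matrix.
-/

set_option autoImplicit false
set_option linter.unusedSectionVars false

namespace Cfsg.Agent.MK.GX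

open CoxeterSystem Cfsg.Agent.ChevalleyStructure.CoxeterGeom Cfsg.Agent.Tits.Roots Cfsg.Agent.Nodes.Reps
  Cfsg.Agent.Nodes.BNOf Cfsg.Agent.Nodes.SubComb Cfsg.Agent.Nodes.Coroot

variable {I W : Type} [Fintype I] [DecidableEq I] [Group W] [Finite W]
  {M : CoxeterMatrix I} {cs : CoxeterSystem M W} {A : I → I → ℤ} {h : IsCartan M A} {ι : Type} {β : ι → I → ℤ}

/-- `x` is not in `± β` -/
def Out (β : ι → I → ℤ) (x : I → ℤ) : Prop := ∀ a, x ≠ β a ∧ x ≠ -β a

variable (cs h) in
/-- the combinatorics of a frame -/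
structure Cmb (β : ι → I → ℤ) : Prop where
  root : ∀ a, IsRoot cs h (β a)
  orth : ∀ a b, a ≠ b → cpr cs h (β a) (β b) = 0
  odd2 : ∀ w b, Out β (rep cs h w (β b)) →
    ∃ a, Odd (cpr cs h (rep cs h w (β b)) (β a)) ∧ Odd (cpr cs h (β a) (rep cs h w (β b)))

variable (cs h) in
/-- `s` is the reflection in `x` -/
def Rf (x : I → ℤ) (s : W) : Prop := ∀ v, rep cs h s v = v - cpr cs h v x • x

theorem exists_rf {x : I → ℤ} (hx : IsRoot cs h x) : ∃ s, Rf cs h x s := by
  obtain ⟨w, i, rfl⟩ := hx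
  exact ⟨_, rep_rfl'_eq cs h w i⟩

theorem Rf.conj {x : I → ℤ} (hx : IsRoot cs h x) {s : W} (hs : Rf cs h x s) (w : W) :
    Rf cs h (rep cs h w x) (w * s * w⁻¹) := fun v => by
  rw [rep_mul_apply, rep_mul_apply, hs, map_sub, map_smul, rep_apply_inv, ← cpr_rep cs h w _ hx, rep_apply_inv]

theorem cpr_sub_smul (u v : I → ℤ) (m : ℤ) {y : I → ℤ} (hy : IsRoot cs h y) :
    cpr cs h (u - m • v) y = cpr cs h u y - m * cpr cs h v y := by
  rw [sub_eq_add_neg, cpr_add cs h _ _ hy, cpr_neg cs h _ hy, cpr_smul cs h _ _ hy, ← sub_eq_add_neg]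

theorem Rf.comm {x y : I → ℤ} (hx : IsRoot cs h x) (hy : IsRoot cs h y) {s t : W} (hs : Rf cs h x s) (ht : Rf cs h y t)
    (h0 : cpr cs h x y = 0) : s * t = t * s := by
  refine rep_injective cs h (LinearMap.ext fun v => ?_)
  rw [rep_mul_apply, rep_mul_apply, hs, ht, ht, hs, cpr_sub_smul _ _ _ hx, cpr_sub_smul _ _ _ hy, h0,
    (cpr_zero_comm cs h hx hy).1 h0, mul_zero, mul_zero, sub_zero, sub_zero]
  abel

theorem Rf.sq {x : I → ℤ} (hx : IsRoot cs h x) {s : W} (hs : Rf cs h x s) : s * s = 1 := by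
  refine rep_injective cs h (LinearMap.ext fun v => ?_)
  rw [rep_mul_apply, hs, hs, cpr_sub_smul _ _ _ hx, cpr_self cs h hx, map_one, Module.End.one_apply, sub_sub,
    ← add_smul, show cpr cs h v x + (cpr cs h v x - cpr cs h v x * 2) = 0 by ring, zero_smul, sub_zero]

/-- **the product of two reflections with odd pairings is not a `2`-element** -/
theorem not_two {x y : I → ℤ} (hx : IsRoot cs h x) (hy : IsRoot cs h y) {s t : W} (hs : Rf cs h x s) (ht : Rf cs h y t)
    (h1 : Odd (cpr cs h x y)) (h2 : Odd (cpr cs h y x)) (k : ℕ) : (s * t) ^ 2 ^ k ≠ 1 := by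
  let F : (I → ℤ) → ZMod 2 × ZMod 2 := fun v => (cpr cs h v y, cpr cs h v x)
  let m : ZMod 2 × ZMod 2 → ZMod 2 × ZMod 2 := fun z => (z.2, z.1 + z.2)
  have e1 : (cpr cs h x y : ZMod 2) = 1 := (ZMod.intCast_eq_one_iff_odd).2 h1
  have e2 : (cpr cs h y x : ZMod 2) = 1 := (ZMod.intCast_eq_one_iff_odd).2 h2
  have h3 : ∀ v, F (rep cs h (s * t) v) = m (F v) := fun v => by
    simp only [F, m]
    rw [rep_mul_apply, hs, ht]
    simp only [cpr_sub_smul _ _ _ hx, cpr_sub_smul _ _ _ hy, cpr_self cs h hx, cpr_self cs h hy]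
    push_cast
    rw [e1, e2]
    generalize (cpr cs h v y : ZMod 2) = a
    generalize (cpr cs h v x : ZMod 2) = b
    revert a b
    decide
  have h4 : ∀ j v, F (rep cs h ((s * t) ^ j) v) = m^[j] (F v) := fun j => by
    induction j with
    | zero => intro v; rw [pow_zero, map_one]; rfl
    | succ j ih => intro v; rw [pow_succ, rep_mul_apply, ih, h3]; rfl
  have h5 : (∀ z, m^[2 ^ k] z = m z) ∨ ∀ z, m^[2 ^ k] z = m (m z) := by
    induction k with
    | zero => exact Or.inl fun _ => rfl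
    | succ k ih =>
      rw [pow_succ, mul_two, Function.iterate_add]
      rcases ih with ih | ih
      · exact Or.inr fun z => by rw [Function.comp_apply, ih, ih]
      · exact Or.inl fun z => by
          rw [Function.comp_apply, ih, ih]
          revert z
          decide
  intro h6
  have h7 := h4 (2 ^ k) x
  have h8 : F x = (1, 0) := by
    simp only [F]
    rw [e1, cpr_self cs h hx]
    rfl
  rw [h6, map_one, Module.End.one_apply, h8] at h7
  rcases h5 with h5 | h5
  · rw [h5] at h7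
    exact absurd h7 (by decide)
  · rw [h5] at h7
    exact absurd h7 (by decide)

/-- **A Sylow `2`-subgroup of `W` whose normaliser stabilises the frame.** -/
theorem Cmb.weyl (C : Cmb cs h β) : ∃ S : Sylow 2 W, ∀ w ∈ Subgroup.normalizer ((S : Subgroup W) : Set W),
    ∀ a, ∃ b, rep cs h w (β a) = β b ∨ rep cs h w (β a) = -β b := by
  have : Fact (Nat.Prime 2) := ⟨Nat.prime_two⟩
  choose s hs using fun a => exists_rf (C.root a)
  have h1 : ∀ a b, s a * s b = s b * s a := fun a b => by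
    by_cases hab : a = b
    · rw [hab]
    · exact Rf.comm (C.root a) (C.root b) (hs a) (hs b) (C.orth a b hab)
  have h2 : IsPGroup 2 (Subgroup.closure (Set.range s)) := by
    rintro ⟨x, hx⟩
    refine ⟨1, Subtype.ext ?_⟩
    show x ^ 2 ^ 1 = 1
    rw [pow_one, pow_two]
    have h3 : ∀ a ∈ Subgroup.closure (Set.range s), ∀ b ∈ Subgroup.closure (Set.range s), a * b = b * a :=
      fun a ha b hb => Subgroup.closure_induction₂ (p := fun a b _ _ => a * b = b * a)
        (by rintro _ _ ⟨a, rfl⟩ ⟨b, rfl⟩; exact h1 a b) (fun _ _ => by rw [one_mul, mul_one])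
        (fun _ _ => by rw [one_mul, mul_one])
        (fun a b c _ _ _ h1 h2 => by rw [mul_assoc, h2, ← mul_assoc, h1, mul_assoc])
        (fun a b c _ _ _ h1 h2 => by rw [← mul_assoc, h1, mul_assoc, h2, mul_assoc])
        (fun a b _ _ h1 => (Commute.inv_left h1).eq) (fun a b _ _ h1 => (Commute.inv_right h1).eq) ha hb
    induction hx using Subgroup.closure_induction with
    | mem x hx =>
      obtain ⟨a, rfl⟩ := hx
      exact Rf.sq (C.root a) (hs a)
    | one => exact one_mul 1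
    | mul x y hx hy h4 h5 => rw [mul_assoc, ← mul_assoc y, ← h3 x hx y hy, mul_assoc, h5, mul_one, h4]
    | inv x _ h4 => rw [← mul_inv_rev, h4, inv_one]
  obtain ⟨S, hS⟩ := h2.exists_le_sylow
  refine ⟨S, fun w hw a => ?_⟩
  by_contra h3
  push Not at h3
  obtain ⟨b, h4, h5⟩ := C.odd2 w a h3
  obtain ⟨k, hk⟩ := S.isPGroup' ⟨_, mul_mem ((Subgroup.mem_normalizer_iff.1 hw _).1
    (hS (Subgroup.subset_closure ⟨a, rfl⟩))) (hS (Subgroup.subset_closure ⟨b, rfl⟩))⟩
  exact not_two ((C.root a).act w) (C.root b) ((hs a).conj (C.root a) w) (hs b) h4 h5 k (congrArg Subtype.val hk)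

/-! ### the criterion -/

/-- the invariant form of a symmetriser -/
def Bf (A : I → I → ℤ) (e : I → ℤ) (x y : I → ℤ) : ℤ := ∑ i, e i * x i * pairing A i y

section crit

variable {e : I → ℤ} (he : ∀ i j, e i * A i j = e j * A j i)

include he

theorem Bf_comm (x y : I → ℤ) : Bf A e x y = Bf A e y x := by
  simp only [Bf, pairing, Finset.mul_sum]
  rw [Finset.sum_comm]
  refine Finset.sum_congr rfl fun i _ => Finset.sum_congr rfl fun j _ => ?_
  linear_combination (x j * y i) * he j i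

omit he in
theorem Bf_sr (i : I) (y : I → ℤ) : Bf A e (sr i) y = e i * pairing A i y := by
  rw [Bf, Finset.sum_eq_single i, sr_self, mul_one]
  · intro b _ hb
    rw [sr_ne hb, mul_zero, zero_mul]
  · exact fun h => absurd (Finset.mem_univ i) h

omit he in
theorem Bf_sub_smul (u v : I → ℤ) (m : ℤ) (y : I → ℤ) : Bf A e (u - m • v) y = Bf A e u y - m * Bf A e v y := by
  simp only [Bf, Finset.mul_sum, ← Finset.sum_sub_distrib]
  refine Finset.sum_congr rfl fun i _ => ?_
  rw [Pi.sub_apply, Pi.smul_apply, smul_eq_mul]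
  ring

theorem Bf_rep (w : W) (x y : I → ℤ) : Bf A e (rep cs h w x) (rep cs h w y) = Bf A e x y := by
  induction w using cs.simple_induction_left generalizing x y with
  | one => rw [map_one, Module.End.one_apply, Module.End.one_apply]
  | mul_simple_left w i ih =>
    rw [rep_mul_apply, rep_mul_apply, ← ih x y]
    generalize rep cs h w x = u
    generalize rep cs h w y = v
    have h1 : pairing A i (rep cs h (cs.simple i) v) = -pairing A i v := by
      rw [← cpr_sr cs h, rep_simple_eq, cpr_sub_smul _ _ _ (isRoot_sr cs h i), cpr_self cs h (isRoot_sr cs h i), cpr_sr]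
      ring
    rw [rep_simple_eq cs h i u, Bf_sub_smul, Bf_sr, h1, Bf_comm he u, rep_simple_eq, Bf_sub_smul, Bf_sr, Bf_comm he v]
    ring

theorem cpr_eq (x : I → ℤ) {y : I → ℤ} (hy : IsRoot cs h y) : cpr cs h x y * Bf A e y y = 2 * Bf A e y x := by
  obtain ⟨w, i, rfl⟩ := hy
  rw [Bf_rep he, cpr_rep_sr, ← Bf_rep (cs := cs) (h := h) he w⁻¹ _ x, rep_inv_apply, Bf_sr, Bf_sr, ← cpr_sr cs h (sr i),
    cpr_self cs h (isRoot_sr cs h i)]
  ring

/-- **the criterion** -/
theorem cmb_of (hr : ∀ a, IsRoot cs h (β a)) {m : ℤ} (hm : m ≠ 0) {u : ι → ℤ} (hu : ∀ a, Odd (u a))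
    (hN : ∀ a, Bf A e (β a) (β a) = m * u a) {cv : ι → I → ℤ}
    (hcv : ∀ a j, cv a j * (m * u a) = 2 * (e j * pairing A j (β a)))
    (h0 : ∀ a b, a ≠ b → ∑ j, cv b j * β a j = 0)
    (h1 : ∀ x, IsRoot cs h x → Out β x → ∃ a, Odd (∑ j, cv a j * x j)) : Cmb cs h β := by
  have h2 : ∀ a x, cpr cs h x (β a) = ∑ j, cv a j * x j := fun a x => by
    have h3 := cpr_eq he x (hr a)
    rw [hN, Bf_comm he, Bf, Finset.mul_sum] at h3
    refine mul_right_cancel₀ (mul_ne_zero hm fun h4 : u a = 0 => by simpa [h4] using hu a) (h3.trans ?_)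
    rw [Finset.sum_mul]
    exact Finset.sum_congr rfl fun j _ => by linear_combination (-x j) * hcv a j
  refine ⟨hr, fun a b hab => by rw [h2, h0 a b hab], fun w b ho => ?_⟩
  obtain ⟨a, ha⟩ := h1 _ ((hr b).act w) ho
  rw [← h2] at ha
  refine ⟨a, ha, ?_⟩
  have h4 := cpr_eq he (rep cs h w (β b)) (hr a)
  have h5 := cpr_eq he (β a) ((hr b).act w)
  rw [Bf_rep he, hN, Bf_comm he, ← h4, hN] at h5
  have h6 : cpr cs h (β a) (rep cs h w (β b)) * u b = cpr cs h (rep cs h w (β b)) (β a) * u a :=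
    mul_left_cancel₀ hm (by linear_combination h5)
  exact (Int.odd_mul.1 (h6 ▸ ha.mul (hu a))).1

end crit

end Cfsg.Agent.MK.GX

private theorem dce_9bef452d5208 : _root_.True := by
  try have : _root_.True := by simp only [_root_.Cfsg.Agent.MK.GX.Bf.eq_1]
  try have : _root_.True := by simp only [_root_.Cfsg.Agent.Nodes.Coroot.cpr.congr_simp]
  exact _root_.True.intro
end

-- part: MK/E/F
section
prune_inst 0x157071040562020400188580b1206444740004b200688000d8420f460644ab622083a8e1fda00116123a8c55200d006811000090022001c020040c00011d01a090e25204f349e19d64001f80338e605002089100000000000000000000000004014010000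
set_option linter.all false
open scoped Cfsg.Agent.FastGrp

/-!
# MK/E: the group `(X × In Λ) ⋊ S` and witnesses for `ExtOn` (helper75)

* `W Λ S j t` : the two relations of `ExtOn`;
* `exists_wit` : witnesses from extensions of `θ` and `ψ` to groups `B` and `C`;
* `ExtOn.supp`, `ExtOn.mono`, `ExtOn.sup` : changing `S` modulo the inner automorphisms;
* `ext_meta`, `ext_syl` : the cyclic step and the Sylow-wise criterion.
-/

set_option autoImplicit false

namespace Cfsg.Agent.MK.E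

open Cfsg Subgroup Cfsg.Agent.MK Cfsg.Agent.Characters.Core
open scoped ComplexConjugate

/-- a character of a finite group comes from a group in which the kernel is killed -/
theorem exists_faith {B : Type} [Group B] [Finite B] {Θ : B → ℂ} (h : IsCharacter B Θ) :
    ∃ (A : Type) (_ : Group A) (r : B →* A) (Ψ : A → ℂ), IsCharacter A Ψ ∧ (∀ b, Ψ (r b) = Θ b) ∧
      ∀ b, Θ b = Θ 1 → r b = 1 := by
  obtain ⟨n, ρ, rfl⟩ := h
  refine ⟨(Module.End ℂ (Fin n → ℂ))ˣ, inferInstance, ρ.asGroupHom,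
    Representation.character (Units.coeHom (Module.End ℂ (Fin n → ℂ))), ⟨n, _, rfl⟩, fun b => rfl, fun b hb => ?_⟩
  rw [Representation.char_one] at hb
  exact Units.ext ((Characters.Values.character_eq_finrank_iff ρ b).1 hb)

/-- a character with an irreducible restriction is irreducible -/
theorem isIrr_of_comp {G H : Type} [Group G] [Group H] [Finite H] (f : H →* G) {χ : G → ℂ} (hχ : IsCharacter G χ)
    (h : IsIrrCharacter H fun x => χ (f x)) : IsIrrCharacter G χ := by
  obtain ⟨n, ρ, rfl⟩ := hχ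
  exact ⟨n, ρ, CharactersDeep.IrrEquiv.isIrreducible_of_comp ρ f (isIrreducible_of_isIrrCharacter (ρ.comp f) h), rfl⟩

/-- the value at a central element -/
theorem mul_conj_central {G : Type} [Group G] [Finite G] {χ : G → ℂ} (hχ : IsIrrCharacter G χ) {z : G}
    (hz : z ∈ center G) {c : ℂ} (hc : χ z = c * χ 1) : c * conj c = 1 := by
  have h0 := isIrr_apply_one_ne_zero hχ
  obtain ⟨n, ρ, hρ, rfl⟩ := hχ
  obtain ⟨w, hw⟩ := CharactersDeep.IrrEquiv.exists_commute_scalar ρ hρ (ρ z) fun g => by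
    rw [← map_mul, ← map_mul, mem_center_iff.1 hz g]
  have h1 := (Characters.Values.norm_character_eq_iff ρ z).2 ⟨w, hw⟩
  rw [hc, norm_mul, Representation.char_one, Complex.norm_natCast] at h1
  rw [Representation.char_one] at h0
  have h2 : ‖c‖ = 1 := mul_right_cancel₀ (by exact_mod_cast h0) (h1.trans (one_mul _).symm)
  rw [Complex.mul_conj, Complex.normSq_eq_norm_sq, h2]
  simp

variable {X : Type} [Group X] {Λ S : Subgroup (MulAut X)}

theorem conj_eq_one_iff {x : X} : MulAut.conj x = 1 ↔ x ∈ center X := by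
  rw [mem_center_iff]
  constructor
  · intro h g
    have h1 : x * g * x⁻¹ = g := congrArg (fun a : MulAut X => a g) h
    rw [← h1, inv_mul_cancel_right, h1]
  · intro h
    ext g
    change x * g * x⁻¹ = g
    rw [← h g, mul_inv_cancel_right]

/-- `θ` and `ψ` lie over the same character of the centre -/
def Sc (Λ : Subgroup (MulAut X)) (θ : X → ℂ) (ψ : In Λ → ℂ) : Prop :=
  ∀ z : In Λ, (z : X) ∈ center X → θ z * conj (ψ z) = θ 1 * conj (ψ 1)

theorem sc_of [Finite X] {θ : X → ℂ} {ψ : In Λ → ℂ} {l : X → ℂ} (hθ : IsIrrCharacter X θ)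
    (h : ∀ z ∈ center X, θ z = l z * θ 1) (h' : Ov (In Λ) (center X) l ψ) : Sc Λ θ ψ := by
  intro z hz
  rw [h z hz, h' z hz, map_mul]
  have h1 := mul_conj_central hθ hz (h z hz)
  linear_combination (θ 1 * conj (ψ 1)) * h1

/-- the relations of `ExtOn` -/
structure W (Λ S : Subgroup (MulAut X)) {A : Type} [Group A] (j : X × In Λ →* A) (t : S →* A) : Prop where
  rel : ∀ (α : S) (x : X) (y y' : In Λ), (y' : X) = α.1 y → t α * j (x, y) = j (α.1 x, y') * t α
  inn : ∀ (y : In Λ) (h : MulAut.conj (y : X) ∈ S), t ⟨_, h⟩ = j (y, y)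

/-- **witnesses from extensions**: `θ` extends to `B`, `ψ` to `C`, and the kernel of the action acts by the same scalars -/
theorem exists_wit {B C : Type} [Group B] [Finite B] [Group C] [Finite C] (i : X →* B) (i' : In Λ →* C) (f : C →* B)
    (a : C →* MulAut X) (hf : ∀ y, f (i' y) = i y) (hi : ∀ y : In Λ, a (i' y) = MulAut.conj (y : X))
    (ha : ∀ c x, f c * i x = i (a c x) * f c) (ha' : ∀ c (y y' : In Λ), (y' : X) = a c y → c * i' y = i' y' * c)
    {Θ : B → ℂ} (hΘ : IsCharacter B Θ) {Ψ : C → ℂ} (hΨ : IsCharacter C Ψ)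
    (hker : ∀ c, a c = 1 → Θ (f c) * conj (Ψ c) = Θ 1 * conj (Ψ 1)) (hS : ∀ α ∈ S, ∃ c, a c = α) :
    ∃ (A : Type) (_ : Group A) (j : X × In Λ →* A) (t : S →* A) (Ξ : A → ℂ), IsCharacter A Ξ ∧ W Λ S j t ∧
      ∀ x y c (h : a c ∈ S), Ξ (j (x, y) * t ⟨a c, h⟩) = Θ (i x * f c) * conj (Ψ (i' y * c)) := by
  obtain ⟨A, _, r, Ξ, hΞ, hr, hk⟩ := exists_faith (S0188.isCharacter_outer hΘ (isCharacter_conj hΨ))
  have key : ∀ c c', a c = a c' → r (f c, c) = r (f c', c') := by
    intro c c' h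
    have h1 : r (f (c⁻¹ * c'), c⁻¹ * c') = 1 := hk _ (hker _ (by rw [map_mul, map_inv, h, inv_mul_cancel]))
    have h2 : ((f c', c') : B × C) = (f c, c) * (f (c⁻¹ * c'), c⁻¹ * c') := by
      ext
      · simp only [_root_.map_mul, _root_.map_inv, _root_.Prod.mk_mul_mk, _root_.mul_inv_cancel_left]
      · simp only [_root_.map_mul, _root_.map_inv, _root_.Prod.mk_mul_mk, _root_.mul_inv_cancel_left]
    rw [h2, map_mul, h1, mul_one]
  choose s hs using hS
  let t : S →* A := MonoidHom.mk' (fun α => r (f (s α.1 α.2), s α.1 α.2)) fun α β => by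
    rw [← map_mul, Prod.mk_mul_mk, ← map_mul]
    exact key _ _ (by rw [map_mul, hs, hs, hs]; rfl)
  have ht : ∀ c (h : a c ∈ S), t ⟨a c, h⟩ = r (f c, c) := fun c h => key _ _ (hs _ _)
  refine ⟨A, inferInstance, r.comp (i.prodMap i'), t, Ξ, hΞ, ⟨fun α x y y' h => ?_, fun y h => ?_⟩, fun x y c h => ?_⟩
  · change r (f (s α.1 α.2), s α.1 α.2) * r (i x, i' y) = r (i (α.1 x), i' y') * r (f (s α.1 α.2), s α.1 α.2)
    rw [← map_mul, ← map_mul, Prod.mk_mul_mk, Prod.mk_mul_mk, ha, ha' _ y y' (by rw [hs]; exact h), hs]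
  · change r (f (s _ h), s _ h) = r (i y, i' y)
    rw [key (s _ h) (i' y) (by rw [hs, hi]), hf]
  · rw [ht]
    change Ξ (r (i x, i' y) * r (f c, c)) = _
    rw [← map_mul, hr]
    rfl

/-- witnesses for a group of inner automorphisms -/
theorem exists_wit_inn [Finite X] {θ : X → ℂ} {ψ : In Λ → ℂ} (hθ : IsCharacter X θ) (hψ : IsCharacter (In Λ) ψ)
    (hz : Sc Λ θ ψ) (hS : S ≤ Cj (In Λ)) :
    ∃ (A : Type) (_ : Group A) (j : X × In Λ →* A) (t : S →* A) (Ξ : A → ℂ), IsCharacter A Ξ ∧ W Λ S j t ∧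
      ∀ x y, Ξ (j (x, y)) = θ x * conj (ψ y) := by
  obtain ⟨A, _, j, t, Ξ, hΞ, w, h⟩ := exists_wit (S := S) (MonoidHom.id X) (MonoidHom.id (In Λ)) (In Λ).subtype
    (MulAut.conj.comp (In Λ).subtype) (fun _ => rfl) (fun _ => rfl) (fun c x => by simp only [_root_.Subgroup.subtype_apply, _root_.MonoidHom.id_apply, _root_.MonoidHom.coe_comp, _root_.Subgroup.coe_subtype, _root_.Function.comp_apply, _root_.MulAut.conj_apply, _root_.inv_mul_cancel_right])
    (fun c y y' h => Subtype.ext (by simp only [h, _root_.MonoidHom.id_apply, _root_.Subgroup.coe_mul, _root_.MonoidHom.coe_comp, _root_.Subgroup.coe_subtype, _root_.Function.comp_apply, _root_.MulAut.conj_apply, _root_.inv_mul_cancel_right])) hθ hψ (fun c hc => hz c (conj_eq_one_iff.1 hc))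
    (fun α hα => by obtain ⟨k, hk, rfl⟩ := hS hα; exact ⟨⟨k, hk⟩, rfl⟩)
  refine ⟨A, inferInstance, j, t, Ξ, hΞ, w, fun x y => ?_⟩
  have h1 := h x y 1 (by rw [map_one]; exact one_mem _)
  have h2 : (⟨(MulAut.conj.comp (In Λ).subtype) 1, by rw [map_one]; exact one_mem _⟩ : S) = 1 :=
    Subtype.ext (map_one _)
  rw [h2, map_one, mul_one] at h1
  simpa only [_root_.MonoidHom.id_apply, _root_.Subgroup.subtype_apply, _root_.OneMemClass.coe_one, _root_.mul_one] using h1

/-- `ExtOn` depends on `S` only modulo the inner automorphisms -/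
theorem _root_.Cfsg.Agent.MK.ExtOn.supp {T : Subgroup (MulAut X)} {θ : X → ℂ} {ψ : In Λ → ℂ} (h : ExtOn Λ T θ ψ)
    (hT : T ≤ Λ) (hS : ∀ α ∈ S, ∃ (k : In Λ) (β : T), α = MulAut.conj (k : X) * β.1) : ExtOn Λ S θ ψ := by
  obtain ⟨A, _, j, t, Ψ, hΨ, hj, rel, inn⟩ := h
  have key : ∀ (k k' : In Λ) (β β' : T), MulAut.conj (k : X) * β.1 = MulAut.conj (k' : X) * β'.1 →
      j (k, k) * t β = j (k', k') * t β' := by
    intro k k' β β' h
    have h1 : MulAut.conj ((k'⁻¹ * k : In Λ) : X) = (β' * β⁻¹ : T).1 := by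
      rw [coe_mul, coe_inv, map_mul, map_inv, coe_mul, coe_inv, inv_mul_eq_iff_eq_mul, ← mul_assoc, ← h,
        mul_inv_cancel_right]
    have h2 := inn (k'⁻¹ * k) (h1 ▸ (β' * β⁻¹).2)
    have h3 : t (β' * β⁻¹) = j ((((k' : X), k') : X × In Λ)⁻¹ * ((k : X), k)) := by
      rw [← show (⟨_, h1 ▸ (β' * β⁻¹).2⟩ : T) = β' * β⁻¹ from Subtype.ext h1, h2]
      rfl
    rw [map_mul, map_mul, map_inv, map_inv, mul_inv_eq_iff_eq_mul] at h3
    rw [h3]
    group
  choose k β hk using hS
  let t' : S →* A := MonoidHom.mk' (fun α => j (k α.1 α.2, k α.1 α.2) * t (β α.1 α.2)) fun α α' => by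
    have h1 := rel (β α.1 α.2) (k α'.1 α'.2) (k α'.1 α'.2) (rs Λ ⟨_, hT (β α.1 α.2).2⟩ (k α'.1 α'.2)) rfl
    rw [mul_assoc, ← mul_assoc (t _), h1, mul_assoc, ← map_mul, ← mul_assoc, ← map_mul]
    refine key _ (k α.1 α.2 * rs Λ ⟨_, hT (β α.1 α.2).2⟩ (k α'.1 α'.2)) _ _ ?_
    rw [← hk, coe_mul, coe_mul, coe_mul, map_mul, rs_coe, conj_map]
    conv_lhs => rw [hk α.1 α.2, hk α'.1 α'.2]
    group
  refine ⟨A, inferInstance, j, t', Ψ, hΨ, hj, fun α x y y' h => ?_, fun y h => ?_⟩
  · change j _ * t _ * _ = _ * (j _ * t _)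
    have h1 := rel (β α.1 α.2) x y (rs Λ ⟨_, hT (β α.1 α.2).2⟩ y) rfl
    rw [mul_assoc, h1, ← mul_assoc, ← mul_assoc, ← map_mul, ← map_mul]
    congr 2
    have e : ∀ u, α.1 u = (k α.1 α.2 : X) * (β α.1 α.2).1 u * (k α.1 α.2 : X)⁻¹ := fun u => by
      conv_lhs => rw [hk α.1 α.2]
      rfl
    ext
    · simp only [e, _root_.Prod.mk_mul_mk, _root_.inv_mul_cancel_right]
    · simp only [h, e, rs_coe, _root_.Prod.mk_mul_mk, _root_.Subgroup.coe_mul, _root_.Cfsg.Agent.MK.rs_coe, _root_.inv_mul_cancel_right]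
  · change j _ * t _ = _
    rw [key _ y _ 1 (by rw [← hk]; simp), map_one, mul_one]

theorem _root_.Cfsg.Agent.MK.ExtOn.mono {T : Subgroup (MulAut X)} {θ : X → ℂ} {ψ : In Λ → ℂ} (h : ExtOn Λ T θ ψ)
    (hS : S ≤ T) : ExtOn Λ S θ ψ := by
  obtain ⟨A, _, j, t, Ψ, hΨ, hj, rel, inn⟩ := h
  exact ⟨A, inferInstance, j, t.comp (inclusion hS), Ψ, hΨ, hj, fun α x y y' h => rel (inclusion hS α) x y y' h,
    fun y h => inn y (hS h)⟩

theorem exists_of_mem_sup {T : Subgroup (MulAut X)} (hT : T ≤ Λ) {α : MulAut X} (h : α ∈ Cj (In Λ) ⊔ T) :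
    ∃ (k : In Λ) (β : T), α = MulAut.conj (k : X) * β.1 := by
  rw [← closure_eq (Cj (In Λ)), ← closure_eq T, ← Subgroup.closure_union] at h
  induction h using closure_induction with
  | mem x hx =>
    rcases hx with ⟨k, hk, rfl⟩ | hx
    · exact ⟨⟨k, hk⟩, 1, (mul_one _).symm⟩
    · exact ⟨1, ⟨x, hx⟩, by simp only [_root_.OneMemClass.coe_one, _root_.map_one, _root_.one_mul]⟩
  | one => exact ⟨1, 1, by simp only [_root_.OneMemClass.coe_one, _root_.map_one, _root_.mul_one]⟩
  | mul x y _ _ hx hy =>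
    obtain ⟨k, β, rfl⟩ := hx
    obtain ⟨k', β', rfl⟩ := hy
    refine ⟨k * rs Λ ⟨_, hT β.2⟩ k', β * β', ?_⟩
    rw [coe_mul, coe_mul, map_mul, rs_coe, conj_map]
    group
  | inv x _ hx =>
    obtain ⟨k, β, rfl⟩ := hx
    refine ⟨rs Λ ⟨_, hT β⁻¹.2⟩ k⁻¹, β⁻¹, ?_⟩
    rw [rs_coe, conj_map, coe_inv, coe_inv, map_inv]
    group

theorem _root_.Cfsg.Agent.MK.ExtOn.sup {T : Subgroup (MulAut X)} {θ : X → ℂ} {ψ : In Λ → ℂ} (h : ExtOn Λ T θ ψ)
    (hT : T ≤ Λ) : ExtOn Λ (Cj (In Λ) ⊔ T) θ ψ :=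
  h.supp hT fun _ hα => exists_of_mem_sup hT hα

/-! ### the semidirect product -/

/-- the action of `S` on `X × In Λ` -/
def ph (hS : S ≤ Λ) : S →* MulAut (X × In Λ) where
  toFun α := MulEquiv.prodCongr α.1 (rs Λ ⟨α.1, hS α.2⟩)
  map_one' := rfl
  map_mul' _ _ := rfl

/-- the semidirect product -/
abbrev F (hS : S ≤ Λ) : Type := (X × In Λ) ⋊[ph hS] S

theorem finite_F [Finite X] (hS : S ≤ Λ) : Finite (F hS) :=
  Finite.of_equiv _ (SemidirectProduct.equivProd (φ := ph hS)).symm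

/-- the preimage of `T` -/
def Pre (hS : S ≤ Λ) (T : Subgroup (MulAut X)) : Subgroup (F hS) :=
  T.comap (S.subtype.comp SemidirectProduct.rightHom)

theorem mem_Pre (hS : S ≤ Λ) {T : Subgroup (MulAut X)} {g : F hS} : g ∈ Pre hS T ↔ g.right.1 ∈ T := Iff.rfl

section wit

variable (hS : S ≤ Λ) {T : Subgroup (MulAut X)} {A : Type} [Group A] {j : X × In Λ →* A} {t : T →* A}

/-- the homomorphism defined by witnesses -/
def hm (w : W Λ T j t) : Pre hS T →* A :=
  MonoidHom.mk' (fun g => j g.1.left * t ⟨g.1.right.1, g.2⟩) fun g h => by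
    have h1 := w.rel ⟨g.1.right.1, g.2⟩ h.1.left.1 h.1.left.2 (rs Λ ⟨_, hS g.1.right.2⟩ h.1.left.2) rfl
    have h2 : (⟨(g * h).1.right.1, (g * h).2⟩ : T) = ⟨g.1.right.1, g.2⟩ * ⟨h.1.right.1, h.2⟩ := rfl
    have h3 : (g * h).1.left = g.1.left * ph hS g.1.right h.1.left := rfl
    rw [h2, h3, map_mul, map_mul, mul_assoc, mul_assoc, ← mul_assoc (t _), h1, mul_assoc]
    rfl

theorem hm_apply (w : W Λ T j t) (g : Pre hS T) : hm hS w g = j g.1.left * t ⟨g.1.right.1, g.2⟩ := rfl

theorem hm_inn (w : W Λ T j t) {Ψ : A → ℂ} {θ : X → ℂ} {ψ : In Λ → ℂ} (h : ∀ x y, Ψ (j (x, y)) = θ x * conj (ψ y))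
    (g : Pre hS T) (k : In Λ) (hk : g.1.right.1 = MulAut.conj (k : X)) :
    Ψ (hm hS w g) = θ (g.1.left.1 * k) * conj (ψ (g.1.left.2 * k)) := by
  rw [hm_apply, show (⟨g.1.right.1, g.2⟩ : T) = ⟨_, hk ▸ g.2⟩ from Subtype.ext hk, w.inn, ← map_mul, ← h]
  rfl

theorem hm_irr [Finite X] (w : W Λ T j t) {Ψ : A → ℂ} (hΨ : IsCharacter A Ψ) {θ : X → ℂ} {ψ : In Λ → ℂ}
    (hθ : IsIrrCharacter X θ) (hψ : IsIrrCharacter (In Λ) ψ) (h : ∀ x y, Ψ (j (x, y)) = θ x * conj (ψ y)) :
    IsIrrCharacter (Pre hS T) fun g => Ψ (hm hS w g) := by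
  refine isIrr_of_comp (SemidirectProduct.inl.codRestrict (Pre hS T) fun u => T.one_mem)
    (isCharacter_comp (hm hS w) hΨ) ?_
  have h1 := S0188.isIrr_outer hθ (isIrr_conj hψ)
  convert h1 using 2 with u
  have h2 := hm_inn hS w h (SemidirectProduct.inl.codRestrict (Pre hS T) (fun u => T.one_mem) u) 1
    (map_one MulAut.conj).symm
  rw [h2]
  change θ (u.1 * 1) * conj (ψ (u.2 * 1)) = _
  rw [mul_one, mul_one]

end wit

/-- from a character of the semidirect product -/
theorem extOn_of_char [Finite X] (hS : S ≤ Λ) {θ : X → ℂ} {ψ : In Λ → ℂ} {χ : F hS → ℂ} (hχ : IsCharacter (F hS) χ)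
    (h : ∀ (g : F hS) (k : In Λ), g.right.1 = MulAut.conj (k : X) →
      χ g = θ (g.left.1 * k) * conj (ψ (g.left.2 * k))) : ExtOn Λ S θ ψ := by
  have := finite_F hS
  obtain ⟨A, _, r, Ψ, hΨ, hr, hk⟩ := exists_faith hχ
  refine ⟨A, inferInstance, r.comp SemidirectProduct.inl, r.comp SemidirectProduct.inr, Ψ, hΨ, fun x y => ?_,
    fun α x y y' hy => ?_, fun y hy => ?_⟩
  · rw [MonoidHom.comp_apply, hr, h _ 1 (by simp only [_root_.SemidirectProduct.right_inl, _root_.OneMemClass.coe_one, _root_.map_one])]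
    simp only [_root_.SemidirectProduct.left_inl, _root_.OneMemClass.coe_one, _root_.mul_one]
  · simp only [MonoidHom.comp_apply]
    rw [← map_mul, ← map_mul]
    congr 1
    have h1 : ((α.1 x, y') : X × In Λ) = ph hS α (x, y) := Prod.ext rfl (Subtype.ext hy)
    rw [h1, SemidirectProduct.inl_aut, map_inv, inv_mul_cancel_right]
  · simp only [MonoidHom.comp_apply]
    have h1 := hk ((SemidirectProduct.inl ((y : X), y))⁻¹ * SemidirectProduct.inr ⟨_, hy⟩) (by
      rw [h _ y (by simp only [_root_.SemidirectProduct.mul_right, _root_.SemidirectProduct.inv_right, _root_.SemidirectProduct.right_inl, _root_.inv_one, _root_.SemidirectProduct.right_inr, _root_.one_mul]), h 1 1 (by simp only [_root_.SemidirectProduct.one_right, _root_.OneMemClass.coe_one, _root_.map_one]), ← map_inv]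
      simp)
    rw [map_mul, map_inv, inv_mul_eq_one] at h1
    exact h1.symm

/-- **the cyclic step** -/
theorem ext_meta [Finite X] (hS : S ≤ Λ) {T : Subgroup (MulAut X)} {A : Type} [Group A] {j : X × In Λ →* A}
    {t : T →* A} (w : W Λ T j t) {Ψ : A → ℂ} (hΨ : IsCharacter A Ψ) {θ : X → ℂ} {ψ : In Λ → ℂ}
    (hθ : IsIrrCharacter X θ) (hψ : IsIrrCharacter (In Λ) ψ) (h : ∀ x y, Ψ (j (x, y)) = θ x * conj (ψ y))
    (hin : ∀ k : In Λ, MulAut.conj (k : X) ∈ S → MulAut.conj (k : X) ∈ T) {φ : MulAut X} (hφ : φ ∈ S)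
    (hgen : ∀ α ∈ S, ∃ β ∈ T, ∃ k : ℕ, α = β * φ ^ k)
    (hinv : ∀ β : T, β.1 ∈ S → ∃ β' : T, β'.1 = φ * β.1 * φ⁻¹ ∧
      ∀ (x : X) (y y' : In Λ), (y' : X) = φ y → Ψ (j (φ x, y') * t β') = Ψ (j (x, y) * t β)) :
    ExtOn Λ S θ ψ := by
  have := finite_F hS
  have hϑ := hm_irr hS w hΨ hθ hψ h
  let Q : F hS → Prop := fun g => ∀ n : Pre hS T, ∃ h : g * n * g⁻¹ ∈ Pre hS T, Ψ (hm hS w ⟨_, h⟩) = Ψ (hm hS w n)
  have qm : ∀ g g', Q g → Q g' → Q (g * g') := by
    intro g g' hg hg' n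
    obtain ⟨h1, h2⟩ := hg' n
    obtain ⟨h3, h4⟩ := hg ⟨_, h1⟩
    have e : g * g' * n * (g * g')⁻¹ = g * (g' * n * g'⁻¹) * g⁻¹ := by group
    refine ⟨e ▸ h3, ?_⟩
    rw [← h2, ← h4]
    congr 2
    exact Subtype.ext e
  have qn : ∀ g ∈ Pre hS T, Q g := fun g hg n =>
    ⟨mul_mem (mul_mem hg n.2) (inv_mem hg), isIrr_isClassFunction hϑ n ⟨g, hg⟩⟩
  have qf : Q (SemidirectProduct.inr ⟨φ, hφ⟩) := by
    intro n
    obtain ⟨β', h1, h2⟩ := hinv ⟨n.1.right.1, n.2⟩ n.1.right.2
    have e1 : (SemidirectProduct.inr ⟨φ, hφ⟩ * n.1 * (SemidirectProduct.inr ⟨φ, hφ⟩)⁻¹ : F hS).right.1 = β'.1 := by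
      rw [h1]
      simp only [_root_.SemidirectProduct.mul_right, _root_.SemidirectProduct.right_inr, _root_.SemidirectProduct.inv_right, _root_.Subgroup.coe_mul, _root_.InvMemClass.coe_inv]
    have e2 : (SemidirectProduct.inr ⟨φ, hφ⟩ * n.1 * (SemidirectProduct.inr ⟨φ, hφ⟩)⁻¹ : F hS).left =
        ph hS ⟨φ, hφ⟩ n.1.left := by
      rw [← map_inv]
      simp only [_root_.map_inv, _root_.SemidirectProduct.mul_left, _root_.SemidirectProduct.left_inr, _root_.SemidirectProduct.right_inr, _root_.one_mul, _root_.SemidirectProduct.mul_right, _root_.map_mul, _root_.SemidirectProduct.inv_left, _root_.inv_one, _root_.MulAut.inv_apply, _root_.map_one, _root_.MulAut.mul_apply, _root_.mul_one]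
    refine ⟨(mem_Pre hS).2 (e1 ▸ β'.2), ?_⟩
    rw [hm_apply, hm_apply]
    refine Eq.trans ?_ (h2 n.1.left.1 n.1.left.2 (rs Λ ⟨φ, hS hφ⟩ n.1.left.2) rfl)
    congr 2
    · exact congrArg j e2
    · exact congrArg t (Subtype.ext e1)
  have dec : ∀ g : F hS, ∃ n ∈ Pre hS T, ∃ k : ℕ, g = n * SemidirectProduct.inr ⟨φ, hφ⟩ ^ k := by
    intro g
    obtain ⟨β, hβ, k, hk⟩ := hgen _ g.right.2
    refine ⟨g * (SemidirectProduct.inr ⟨φ, hφ⟩ ^ k)⁻¹, (mem_Pre hS).2 ?_, k, by group⟩
    rw [← map_pow, ← map_inv]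
    simpa only [hk, _root_.SubmonoidClass.mk_pow, _root_.map_inv, _root_.SemidirectProduct.mul_right, _root_.SemidirectProduct.inv_right, _root_.SemidirectProduct.right_inr, _root_.Subgroup.coe_mul, _root_.InvMemClass.coe_inv, _root_.mul_inv_cancel_right] using hβ
  have qa : ∀ g, Q g := by
    intro g
    obtain ⟨n, hn, k, rfl⟩ := dec g
    refine qm _ _ (qn n hn) ?_
    induction k with
    | zero => exact qn _ (by rw [pow_zero]; exact one_mem _)
    | succ k ih => rw [pow_succ]; exact qm _ _ ih qf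
  have hN : (Pre hS T).Normal := ⟨fun n hn g => (qa g ⟨n, hn⟩).1⟩
  have hc : IsCyclic (F hS ⧸ Pre hS T) := by
    refine ⟨⟨((SemidirectProduct.inr ⟨φ, hφ⟩ : F hS) : F hS ⧸ Pre hS T), fun q => ?_⟩⟩
    obtain ⟨g, rfl⟩ := QuotientGroup.mk_surjective q
    obtain ⟨n, hn, k, rfl⟩ := dec g
    refine ⟨(k : ℤ), ?_⟩
    rw [QuotientGroup.mk_mul, (QuotientGroup.eq_one_iff n).2 hn, one_mul, QuotientGroup.mk_pow]
    exact zpow_natCast _ _
  obtain ⟨χ, hχ, hr⟩ := S0886.result (Pre hS T) hc _ hϑ fun g n => (qa g n).2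
  refine extOn_of_char hS (isIrr_isCharacter hχ) fun g k hk => ?_
  have hg : g ∈ Pre hS T := (mem_Pre hS).2 (hk ▸ hin k (hk ▸ g.right.2))
  exact (hr ⟨g, hg⟩).trans (hm_inn hS w h ⟨g, hg⟩ k hk)

end Cfsg.Agent.MK.E

private theorem dce_97bff18d0c2e : _root_.True := by
  try have : _root_.True := by simp only [_root_.Cfsg.Agent.MK.E.ph.congr_simp]
  try have : _root_.True := by simp only [_root_.Cfsg.Agent.MK.E.Pre.eq_1]
  exact _root_.True.intro
end

-- part: MK/S/TitsL
section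
set_option linter.all false
open scoped Cfsg.Agent.FastGrp

/-!
# MK: the Sylow `2`-subgroups of `²F₄(2)` and of the Tits group modulo their commutator subgroups (helper47)
-/

set_option autoImplicit false
set_option maxRecDepth 100000

namespace Cfsg.Agent.MK.S.Tits

open Cfsg Subgroup Cfsg.Agent.MK.T Cfsg.Agent.MK.S.Pc
open Cfsg.Agent.ChevalleyStructure.Tits.Data Cfsg.Agent.ChevalleyStructure.Tits.Order
  Cfsg.Agent.ChevalleyStructure.Tits.Main Cfsg.Agent.ChevalleyStructure.Tits.Mat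

/-- the test for words -/
def eqv (v w : List ℕ) : Bool :=
  (v.all fun i => Nat.blt i 10) && (w.all fun i => Nat.blt i 10) && Nat.beq (evalW v) (evalW w)

theorem eqv_spec (v w : List ℕ) (h : eqv v w = true) : ev yH v = ev yH w := by
  simp only [eqv, Bool.and_eq_true, List.all_eq_true, Nat.blt_eq] at h
  obtain ⟨⟨h1, h2⟩, h3⟩ := h
  refine Subtype.ext ?_
  rw [ev, ev, coe_list _ h1, coe_list _ h2]
  exact rel_of_chk (p := (v, w)) h3 (fun i hi => (h1 i hi).trans (by norm_num)) fun i hi =>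
    (h2 i hi).trans (by norm_num)

/-- the series of the Sylow subgroup of `²F₄(2)` -/
def cU : Cert where
  gw := [[7], [7, 1], [7, 1, 7, 1], [0], [1, 3], [3, 5], [1, 1], [6], [2], [4], [5, 5], [3, 3]]
  sq := [[2, 5, 6, 7, 11], [2], [10, 11], [], [6, 8, 11], [9, 10, 11], [], [], [], [], [], []]
  cm := [[[], [5, 7, 11], [7, 8, 9, 11], [4, 5, 6, 7, 8, 10, 11], [5, 11], [7, 10], [8, 9, 10], [], [9, 11], [10], [],
    []], [[], [], [], [4, 5, 6, 7, 8, 10, 11], [5, 8, 9, 11], [7, 8, 9, 10, 11], [8, 9, 10], [9], [9, 11], [10, 11],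
    [], []], [[], [], [], [5, 6, 7, 8, 9], [7, 8, 9, 10, 11], [10], [9, 10], [10, 11], [10, 11], [], [], []], [[], [],
    [], [], [6], [8], [], [8, 9], [], [], [11], []], [[], [], [], [], [], [8, 9, 11], [], [9], [], [11], [], []], [[],
    [], [], [], [], [], [], [10], [11], [], [], []], [[], [], [], [], [], [], [], [11], [], [], [], []], [[], [], [],
    [], [], [], [], [], [], [], [], []], [[], [], [], [], [], [], [], [], [], [], [], []], [[], [], [], [], [], [],
    [], [], [], [], [], []], [[], [], [], [], [], [], [], [], [], [], [], []], [[], [], [], [], [], [], [], [], [],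
    [], [], []]]
  dv := [([], [], []), ([], [], []), ([], [], []), ([], [], []), ([0], [3], [5, 6, 7, 8, 10, 11]), ([0], [1], [7,
    11]), ([3], [4], []), ([0], [2], [8, 9, 11]), ([0], [6], [9, 10]), ([0], [8], [11]), ([0], [9], []), ([3], [10],
    [])]

/-- the series of the Sylow subgroup of the Tits group -/
def cQ : Cert where
  gw := [[7, 1], [7, 1, 7, 1], [0], [1, 3], [3, 5], [1, 1], [6], [2], [4], [5, 5], [3, 3]]
  sq := [[1], [9, 10], [], [5, 7, 10], [8, 9, 10], [], [], [], [], [], []]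
  cm := [[[], [], [3, 4, 5, 6, 7, 9, 10], [4, 7, 8, 10], [6, 7, 8, 9, 10], [7, 8, 9], [8], [8, 10], [9, 10], [], []],
    [[], [], [4, 5, 6, 7, 8], [6, 7, 8, 9, 10], [9], [8, 9], [9, 10], [9, 10], [], [], []], [[], [], [], [5], [7], [],
    [7, 8], [], [], [10], []], [[], [], [], [], [7, 8, 10], [], [8], [], [10], [], []], [[], [], [], [], [], [], [9],
    [10], [], [], []], [[], [], [], [], [], [], [10], [], [], [], []], [[], [], [], [], [], [], [], [], [], [], []],
    [[], [], [], [], [], [], [], [], [], [], []], [[], [], [], [], [], [], [], [], [], [], []], [[], [], [], [], [],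
    [], [], [], [], [], []], [[], [], [], [], [], [], [], [], [], [], []]]
  dv := [([], [], []), ([], [], []), ([], [], []), ([0], [2], [4, 5, 6, 7, 9, 10]), ([0], [3], [7, 8, 10]), ([2], [3],
    []), ([0], [4], [7, 8, 9, 10]), ([0], [5], [8, 9]), ([0], [6], []), ([0], [8], [10]), ([2], [9], [])]

theorem chkU : ∀ i < 12, chk1 eqv 12 4 cU i = true := by decide +kernel

theorem chkQ : ∀ i < 11, chk1 eqv 11 3 cQ i = true := by decide +kernel

/-- the letters as words in the series -/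
def yW : List (List ℕ) :=
  [[3], [0, 1, 2, 5, 6, 10], [8], [0, 1, 2, 4, 5, 8, 9, 10, 11], [9], [0, 1, 2, 4, 8], [7], [0]]

theorem chkY : ∀ i < 8, inR 0 12 (yW.getD i []) = true ∧ eqv [i] (cU.ex (yW.getD i [])) = true := by decide +kernel

theorem pcU : PC (cU.el yH) 12 4 := pc_of_chk eqv_spec (by norm_num) chkU

theorem pcQ : PC (cQ.el yH) 11 3 := pc_of_chk eqv_spec (by norm_num) chkQ

theorem U_le : ChevalleyStructure.Tits.Sat.V yH 0 ≤ V (cU.el yH) 12 0 := by
  rw [ChevalleyStructure.Tits.Sat.V, closure_le]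
  rintro _ ⟨i, hi, rfl⟩
  obtain ⟨h1, h2⟩ := chkY i hi.2
  have h3 := eqv_spec _ _ h2
  rw [ev_cons, ev_nil, mul_one, cU.ev_ex] at h3
  rw [h3]
  exact inR_mem h1

theorem a2_H0 : a2 H0 = 16 := by
  rw [← ab_sylow H246.TitsComp.syl]
  exact (pcU.index_of U_le card_V_yH).2

theorem card_Q : Nat.card (V (cU.el yH) 12 1) = 2 ^ 11 :=
  pcU.card_eq (((pcU.index_of U_le card_V_yH).1 ▸ card_V_yH :).ge) (k := 1) (by norm_num)

theorem Q_le : V (cU.el yH) 12 1 ≤ V (cQ.el yH) 11 0 := V_le fun i h1 h2 => by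
  obtain ⟨j, rfl⟩ : ∃ j, i = j + 1 := ⟨i - 1, by omega⟩
  exact mem_V (g := cQ.el yH) (Nat.zero_le j) (by omega)

theorem Q_le_T : V (cU.el yH) 12 1 ≤ _root_.commutator H0 := by
  obtain ⟨χ, h0, h1⟩ := H246.TitsComp.exists_chi
  refine V_le fun i h2 h3 => ?_
  rw [H246.TitsComp.mem_commutator_iff χ (h1 7 (by norm_num) rfl)]
  interval_cases i <;>
    simp only [Cert.el, cU, List.getD_cons_succ, List.getD_cons_zero, ev_cons, ev_nil, mul_one, map_mul,
      h0 0 (by norm_num) rfl, h0 2 (by norm_num) rfl, h0 4 (by norm_num) rfl, h0 6 (by norm_num) rfl,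
      h1 1 (by norm_num) rfl, h1 3 (by norm_num) rfl, h1 5 (by norm_num) rfl, h1 7 (by norm_num) rfl] <;> rfl

theorem a2_T : a2 ↥(_root_.commutator H0) = 8 := by
  have := two_prime
  have h1 : Nat.card ((V (cU.el yH) 12 1).subgroupOf (_root_.commutator H0)) = 2 ^ 11 :=
    (Nat.card_congr (subgroupOfEquivOfLe Q_le_T).toEquiv).trans card_Q
  have h2 : (Nat.card (_root_.commutator H0)).factorization 2 = 11 := by
    rw [H0_result.2.2.2, mul_assoc, mul_assoc, Nat.factorization_mul (by norm_num) (by norm_num),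
      Nat.Prime.factorization_pow Nat.prime_two]
    have h3 : Nat.factorization 8775 2 = 0 := Nat.factorization_eq_zero_of_not_dvd (by norm_num)
    simp [h3]
  rw [← ab_sylow (Sylow.ofCard _ (h1.trans (by rw [h2])))]
  exact (ab_congr (subgroupOfEquivOfLe Q_le_T)).trans (pcQ.index_of Q_le card_Q).2

end Cfsg.Agent.MK.S.Tits

private theorem dce_6f3e6694d778 : _root_.True := by
  try have : _root_.True := by simp only [_root_.Cfsg.Agent.MK.S.Pc.Cert.el.eq_1]
  try have : _root_.True := by simp only [_root_.Cfsg.Agent.ChevalleyStructure.Tits.Sat.V.eq_1]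
  try have : _root_.True := by simp only [_root_.Cfsg.Agent.MK.S.Tits.cU.eq_1]
  try have : _root_.True := by simp only [_root_.Cfsg.Agent.MK.S.Tits.eqv.eq_1]
  exact _root_.True.intro
end

-- part: MK/R/Rel
section
prune_inst 0x2089100000000000000000000000000014010000
set_option linter.all false
open scoped Cfsg.Agent.FastGrp

/-!
# MK, the reduction: the relative equality over a normal subgroup (helper19)

`rel` : the induction hypothesis for character triples; `kk_step` : `kk ⊤ = kk N(K P)` for normal `K > Z`.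
-/

set_option autoImplicit false
set_option maxHeartbeats 400000

namespace Cfsg.Agent.MK.R

open Cfsg Subgroup Cfsg.Agent.Characters.Core Cfsg.Agent.H672 Cfsg.Agent.H672.RM

variable {n : ℕ}

theorem ih_cnt (h : IH n) {Q : Type} [Group Q] [Finite Q] {Z P : Subgroup Q} (hZ : Z ≤ center Q) (l : Z →* ℂˣ)
    (hP : SM 2 Z P ⊤) (hn : Z.index < n) (hZN : Z ≤ normalizer (P : Set Q)) :
    Cnt 2 Z.subtype (lf l) = Cnt 2 (inclusion hZN) (lf l) := by
  obtain ⟨S, -, hS, rfl⟩ := hP.exists_syl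
  have h1 : ∀ z : Z, Function.extend Subtype.val (lf l) 0 (z : Q) = l z := Subtype.val_injective.extend_apply _ _
  have h2 := h Q Z hZ hn (Function.extend Subtype.val (lf l) 0) (hS.pg.toSylow (relIndex_top_right S ▸ hS.ndvd))
  rw [kk_eq_cnt le_top (fun z hz x _ => mem_center_iff.1 (hZ hz) x) h1, cnt_top rfl,
    kk_eq_cnt (hZ.trans (center_le_normalizer _)) (fun z hz x _ => mem_center_iff.1 (hZ hz) x) h1] at h2
  exact h2.trans (cnt_eq_of_eq _ _ (normalizer_eq_of_central hZ hS) _)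

variable {G : Type} [Group G] [Finite G]

theorem rel_top (h : IH n) {L P : Subgroup G} [L.Normal] (hP : SM 2 L P ⊤) {ν : L → ℂ} (hν : IsIrrCharacter L ν)
    (hinv : ∀ g, g ∈ stab ν) (hd : ¬ 2 ∣ charDegree ν) (hn : L.index < n) (hLN : L ≤ normalizer (P : Set G)) :
    Cnt 2 L.subtype ν = Cnt 2 (inclusion hLN) ν := by
  obtain ⟨Δ, Q, _, _, _, π, m, Z, l, hI⟩ := exists_iso (p := 2) L hν hinv hd
  have hcP : P.comap π = ((P.comap π).map m).comap m := by
    rw [comap_map_eq, sup_eq_left.2 ((ker_le_comap m Z).trans (hI.comap.ge.trans (comap_mono hP.le)))]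
  have hidx : ∀ {A B : Subgroup G} {A' B' : Subgroup Q}, A.comap π = A'.comap m → B.comap π = B'.comap m →
      A.relIndex B = A'.relIndex B' := fun {A B A' B'} hA hB => by
    rw [← map_comap_eq_self_of_surjective hI.surjπ B, ← relIndex_comap, hA, hB, relIndex_comap,
      map_comap_eq_self_of_surjective hI.surjm]
  have ht : (⊤ : Subgroup G).comap π = (⊤ : Subgroup Q).comap m := by rw [comap_top, comap_top]
  have hZP : Z ≤ (P.comap π).map m := by
    rw [← map_comap_eq_self_of_surjective hI.surjm Z, ← hI.comap]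
    exact map_mono (comap_mono hP.le)
  have c1 := hI.cnt ⊤ ⊤ le_top le_top ht
  rw [cnt_top rfl, cnt_top rfl] at c1
  exact c1.trans ((ih_cnt h hI.cen l ⟨hZP, le_top, hidx hI.comap hcP ▸ hP.pow, hidx hcP ht ▸ hP.ndvd⟩
    (by rwa [← relIndex_top_right, ← hidx hI.comap ht, relIndex_top_right]) (hZP.trans le_normalizer)).trans
    (hI.cnt _ _ hLN _ (by rw [comap_normalizer_eq_of_surjective _ hI.surjπ, comap_normalizer_eq_of_surjective _ hI.surjm,
      ← hcP])).symm)

theorem rel_inv (h : IH n) {L P U : Subgroup G} (hUL : U ≤ normalizer (L : Set G)) (hP : SM 2 L P U) {ν : L → ℂ}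
    (hν : IsIrrCharacter L ν) (hst : U ≤ stab ν) (hn : L.relIndex U < n) (hLU : L ≤ U)
    (hLN : L ≤ U ⊓ normalizer (P : Set G)) : Cnt 2 (inclusion hLU) ν = Cnt 2 (inclusion hLN) ν := by
  by_cases hd : 2 ∣ charDegree ν
  · have h0 : ∀ (V : Subgroup G) (hLV : L ≤ V), V ≤ U → Cnt 2 (inclusion hLV) ν = 0 := fun V hLV hVU =>
      Nat.card_eq_zero.2 (.inl ⟨fun χ => χ.2.1 (hd.trans (div_dvd_of_over hLV (hVU.trans hUL) χ.1.2 hν χ.2.2).1)⟩)
    rw [h0 U hLU le_rfl, h0 _ hLN inf_le_left]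
  have := normal_subgroupOf hUL
  have h1 := rel_top h (L := L.subgroupOf U) (P := P.subgroupOf U)
    ⟨comap_mono hP.le, le_top, by rw [relIndex_subgroupOf hP.le']; exact hP.pow, by rw [relIndex_top_right]; exact hP.ndvd⟩
    (isIrr_sub hLU hν) (fun g => by
      have hg : g ∈ normalizer ((L.subgroupOf U : Subgroup U) : Set U) := by rw [normalizer_eq_top]; trivial
      refine ⟨hg, funext fun x => ?_⟩
      have h1 := congrFun (hst g.2).2 (subgroupOfEquivOfLe hLU x)
      rw [tw_apply (hUL g.2)] at h1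
      rw [tw_apply hg]
      exact h1) (fun e => hd (deg_comp (subgroupOfEquivOfLe hLU).toMonoidHom ν ▸ e)) hn ((comap_mono hP.le).trans le_normalizer)
  rw [cnt_amb hLU le_rfl, cnt_amb hLN inf_le_left, cnt_top (subgroupOf_self U)]
  refine h1.trans (cnt_eq_of_eq _ _ ?_ _)
  rw [← subgroupOf_normalizer_eq hP.le', inf_comm, inf_subgroupOf_right]

/-- **the relative equality** -/
theorem rel (h : IH n) {L P U : Subgroup G} (hUL : U ≤ normalizer (L : Set G)) (hP : SM 2 L P U) {ν : L → ℂ}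
    (hν : IsIrrCharacter L ν) (hPν : P ≤ stab ν) (hn : L.relIndex U < n) (hLU : L ≤ U)
    (hLN : L ≤ U ⊓ normalizer (P : Set G)) : Cnt 2 (inclusion hLU) ν = Cnt 2 (inclusion hLN) ν := by
  have hidx : ∀ V : Subgroup G, P ≤ V → V ≤ U → ¬ 2 ∣ (stab ν).relIndex V := fun V hPV hVU h =>
    (hP.of_le hPV hVU).ndvd (h.trans (relIndex_dvd_of_le_left _ hPν))
  have hL : L ≤ stab ν := hP.le.trans hPν
  rw [cnt_clifford Nat.prime_two hLU hUL hν (le_inf hLU hL) (hidx U hP.le' le_rfl),
    cnt_clifford Nat.prime_two hLN (inf_le_left.trans hUL) hν (le_inf hLN hL)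
      (hidx _ (le_inf hP.le' le_normalizer) inf_le_left),
    rel_inv h (inf_le_left.trans hUL) (hP.of_le (le_inf hP.le' hPν) inf_le_left) hν inf_le_right
      (lt_of_le_of_lt (relIndex_le_of_le_right inf_le_left (rne _ _)) hn) _ (le_inf (le_inf hLU hL) (hLN.trans inf_le_right))]
  exact cnt_eq_of_eq _ _ (inf_right_comm _ _ _) _

/-- **Clifford theory over a normal subgroup `K > Z`** -/
theorem kk_step {Z K : Subgroup G} (hZ : Z ≤ center G) (h : IH Z.index) [K.Normal] (hZK : Z < K) (P : Sylow 2 G) (l : G → ℂ) :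
    kk ⊤ Z l = kk (normalizer ((K ⊔ (P : Subgroup G) : Subgroup G) : Set G)) Z l := by
  have hK : (⊤ : Subgroup G) ≤ normalizer (K : Set G) := (normalizer_eq_top K).ge
  have hR : SM 2 K (K ⊔ (P : Subgroup G)) ⊤ :=
    SylIn.sm ⟨le_top, P.isPGroup', (relIndex_top_right (P : Subgroup G)).symm ▸ P.not_dvd_index⟩ le_top hK
  have hH : K ≤ ⊤ ⊓ normalizer ((K ⊔ (P : Subgroup G) : Subgroup G) : Set G) := le_inf le_top (le_sup_left.trans le_normalizer)
  refine kk_eq_of_cnt hZ le_top (hZ.trans (center_le_normalizer _)) fun m _ => ?_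
  refine (stepA hZK.le le_top (fun g _ => (stab_lf_of_central hZ m g).1) hK hR hH (isIrr_lf m)
    (fun g _ => stab_lf_of_central hZ m g) fun ξ h1 h2 => rel h hK hR h1 h2 ?_ _ _).trans (cnt_eq_of_eq _ _ (top_inf_eq _) _)
  rw [← relIndex_top_right]
  exact relIndex_lt_of_lt_left hZK le_top

end Cfsg.Agent.MK.R
end

-- part: MK/S8/Large
section
prune_inst 0x2089100000000000000000000000000010000000
set_option linter.all false
open scoped Cfsg.Agent.FastGrp

/-!
# MK, small rows: groups with a large extraspecial subgroup (helper54)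

* `cnt_two` : `N ↠ N₁` with a sign character `μ` which is not trivial on the kernel `E`, `E ∩ ker μ ≤ S'`;
* `Uq` : at most one nonzero vector of `E/⟨z⟩` is fixed by `S`;
* `cnt_stab`, `cnt_large` : `k0 N_G(S) = 2 k0 N_L(T)`; `cnt_ih` : `= 2 k0 L` under the induction hypothesis.
-/

set_option autoImplicit false

namespace Cfsg.Agent.MK.S8

open Cfsg Subgroup Cfsg.Agent.Co2Type.Quad Cfsg.Agent.KFacts.AutLarge Cfsg.Agent.Characters.Core

theorem deg_mul {N : Type} [Group N] (μ : N →* ℂˣ) (χ : N → ℂ) :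
    charDegree (fun x => (μ x : ℂ) * χ x) = charDegree χ := by
  unfold charDegree
  simp

theorem oi_mul {N : Type} [Group N] [Finite N] (μ : N →* ℂˣ) {χ : N → ℂ} (h : OI N χ) :
    OI N (fun x => (μ x : ℂ) * χ x) :=
  ⟨ODD.Red.isIrr_lin_mul μ h.1, by rw [deg_mul]; exact h.2⟩

/-- **the abstract count** -/
theorem cnt_two {N M : Type} [Group N] [Finite N] [Group M] (ρ : N →* M) (hs : Function.Surjective ρ)
    (μ : N →* ℂˣ) (hμ : ∀ g, μ g = 1 ∨ μ g = -1) {e : N} (he : ρ e = 1) (hμe : μ e = -1) (S : Subgroup N)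
    (hS : IsPGroup 2 S) (hD : ρ.ker ⊓ μ.ker ≤ (commutator S).map S.subtype) (α : N → N) (β : M → M)
    (hβ : ∀ x, ρ (α x) = β (ρ x)) (hα : ∀ x, μ (α x) = μ x) :
    Nat.card {χ : N → ℂ // OI N χ ∧ ∀ x, χ (α x) = χ x} =
      2 * Nat.card {η : M → ℂ // OI M η ∧ ∀ y, η (β y) = η y} := by
  have : Fact (Nat.Prime 2) := ⟨Nat.prime_two⟩
  have hμ2 : ∀ g, (μ g : ℂ) * μ g = 1 := fun g => by rcases hμ g with h | h <;> rw [h] <;> simp
  let ν : Bool → (N →* ℂˣ) := fun b => if b then μ else 1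
  have hν : ∀ b x, ν b (α x) = ν b x := fun b x => by cases b <;> simp [ν, hα]
  let F : Bool × {η : M → ℂ // OI M η ∧ ∀ y, η (β y) = η y} → {χ : N → ℂ // OI N χ ∧ ∀ x, χ (α x) = χ x} :=
    fun p => ⟨fun x => (ν p.1 x : ℂ) * (p.2.1 ∘ ρ) x, oi_mul _ (p.2.2.1.comp ρ hs), fun x => by
      simp only [Function.comp, hβ, hν, p.2.2.2]⟩
  have down : ∀ (b : Bool) (χ : N → ℂ) (h : OI N χ ∧ ∀ x, χ (α x) = χ x),
      (∀ x ∈ ρ.ker, (ν b x : ℂ) * χ x = χ 1) → ∃ p, F p = ⟨χ, h⟩ := by
    intro b χ h hk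
    have h1 := oi_mul (ν b) h.1
    obtain ⟨η, hη, e1⟩ := ODD.Red.exists_quot ρ hs h1.1 fun x hx => by rw [hk x hx]; simp
    have e2 : η ∘ ρ = fun x => (ν b x : ℂ) * χ x := funext e1
    refine ⟨(b, ⟨η, ⟨hη, by rw [← deg_comp ρ η, e2]; exact h1.2⟩, fun y => ?_⟩), Subtype.ext (funext fun x => ?_)⟩
    · obtain ⟨x, rfl⟩ := hs y
      rw [← hβ, e1, e1, hν, h.2]
    · show (ν b x : ℂ) * η (ρ x) = χ x
      rw [e1, ← mul_assoc]
      cases b
      · simp [ν]
      · rw [show ν true = μ from rfl, hμ2, one_mul]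
  rw [← Nat.card_eq_of_bijective F ⟨?_, ?_⟩, Nat.card_prod, Nat.card_eq_fintype_card, Fintype.card_bool]
  · rintro ⟨b, η, hη⟩ ⟨b', η', hη'⟩ h
    have h1 : ∀ x, (ν b x : ℂ) * η (ρ x) = (ν b' x : ℂ) * η' (ρ x) := congrFun (congrArg Subtype.val h)
    have h2 := h1 1
    have h3 := h1 e
    rw [map_one, map_one, map_one, Units.val_one, one_mul, one_mul] at h2
    rw [he, ← h2] at h3
    have h4 := mul_right_cancel₀ hη.1.one_ne h3
    have h5 : b = b' := by
      cases b <;> cases b' <;> simp only [ν, if_true, hμe, Bool.false_eq_true, if_false, MonoidHom.one_apply,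
        Units.val_neg, Units.val_one] at h4 <;> first | rfl | norm_num at h4
    subst h5
    refine Prod.ext rfl (Subtype.ext (funext fun y => ?_))
    obtain ⟨x, rfl⟩ := hs y
    exact mul_left_cancel₀ (Units.ne_zero _) (h1 x)
  · rintro ⟨χ, h⟩
    have h1 := H710.PPrimeDeg.apply_eq_of_not_dvd S hS (ρ.ker ⊓ μ.ker) hD h.1.1 h.1.2.not_two_dvd_nat
    obtain ⟨c, hc⟩ := OddOrderCharacters.PF9.GaloisClifford.exists_scalar h.1.1 e fun t => h1 _
      ⟨by simp only [he, _root_.MonoidHom.ker_toSubmonoid, _root_.SetLike.mem_coe, _root_.MonoidHom.mem_mker, _root_.map_mul, _root_.mul_one, _root_.map_inv, _root_.mul_inv_cancel, _root_.inv_one], by simp only [hμe, _root_.MonoidHom.ker_toSubmonoid, _root_.SetLike.mem_coe, _root_.MonoidHom.mem_mker, _root_.map_mul, _root_.mul_neg, _root_.mul_one, _root_.map_inv, _root_.neg_mul, _root_.mul_inv_cancel, _root_.inv_neg, _root_.inv_one, _root_.neg_neg]⟩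
    have h2 : c * c = 1 := by
      have h3 := h1 (e * (e * 1)) ⟨by simp [he], by simp [hμe]⟩
      rw [hc, hc, ← mul_assoc] at h3
      exact mul_right_cancel₀ h.1.one_ne (h3.trans (one_mul _).symm)
    have h3 : ∀ x ∈ ρ.ker, μ x = -1 → χ x = c * χ 1 := fun x hx h4 => by
      rw [← h1 (e⁻¹ * x) ⟨ρ.ker.mul_mem (ρ.ker.inv_mem he) hx, by simp only [hμe, h4, _root_.MonoidHom.ker_toSubmonoid, _root_.SetLike.mem_coe, _root_.MonoidHom.mem_mker, _root_.map_mul, _root_.map_inv, _root_.inv_neg, _root_.inv_one, _root_.mul_neg, _root_.mul_one, _root_.neg_neg]⟩, ← hc, mul_inv_cancel_left]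
    rcases mul_self_eq_one_iff.1 h2 with rfl | rfl
    · refine down false χ h fun x hx => ?_
      rcases hμ x with h4 | h4
      · simp [ν, h1 x ⟨hx, h4⟩]
      · simp [ν, h3 x hx h4]
    · refine down true χ h fun x hx => ?_
      rcases hμ x with h4 | h4
      · simp [ν, h1 x ⟨hx, h4⟩, h4]
      · simp [ν, h3 x hx h4, h4]

theorem cnt_two' {N M : Type} [Group N] [Finite N] [Group M] (ρ : N →* M) (hs : Function.Surjective ρ)
    (μ : N →* ℂˣ) (hμ : ∀ g, μ g = 1 ∨ μ g = -1) {e : N} (he : ρ e = 1) (hμe : μ e = -1) (S : Subgroup N)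
    (hS : IsPGroup 2 S) (hD : ρ.ker ⊓ μ.ker ≤ (commutator S).map S.subtype) :
    Nat.card {χ : N → ℂ // OI N χ} = 2 * Nat.card {η : M → ℂ // OI M η} := by
  simpa only [_root_.id_eq, _root_.implies_true, _root_.and_true] using cnt_two ρ hs μ hμ he hμe S hS hD id id (fun _ => rfl) fun _ => rfl

section large

variable {G : Type} [Group G] {E S : Subgroup G} {z : G}

/-- `x` is fixed by `S` modulo `z` -/
def Fx (S : Subgroup G) (z x : G) : Prop := ∀ s ∈ S, Eqz z (s * x * s⁻¹) x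

/-- at most one nonzero vector of `E/⟨z⟩` is fixed by `S` -/
def Uq (E S : Subgroup G) (z : G) : Prop :=
  ∀ x ∈ E, ∀ y ∈ E, Fx S z x → Fx S z y → (x = 1 ∨ x = z) ∨ (y = 1 ∨ y = z) ∨ Eqz z x y

theorem Uq.mono {S' : Subgroup G} (h : Uq E S z) (hS : S ≤ S') : Uq E S' z :=
  fun x hx y hy h1 h2 => h x hx y hy (fun s hs => h1 s (hS hs)) fun s hs => h2 s (hS hs)

theorem fx_iff (h : Large E z) (hS : S ≤ centralizer ({z} : Set G)) (x : E) :
    Fx S z x ↔ ∀ s : centralizer ({z} : Set G), (s : G) ∈ S → h.act s (h.pr x) = h.pr x :=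
  ⟨fun h1 s hs => by rw [h.act_pr, h.pr_eq_pr]; exact h1 s hs, fun h1 s hs => by
    have h2 := h1 ⟨s, hS hs⟩ hs
    rw [h.act_pr, h.pr_eq_pr] at h2
    exact h2⟩

/-- the form with vectors -/
theorem uq_of_act (h : Large E z) (hS : S ≤ centralizer ({z} : Set G))
    (hu : ∀ u w : h.V, (∀ s : centralizer ({z} : Set G), (s : G) ∈ S → h.act s u = u) →
      (∀ s : centralizer ({z} : Set G), (s : G) ∈ S → h.act s w = w) → u = 0 ∨ w = 0 ∨ u = w) : Uq E S z := by
  intro x hx y hy h1 h2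
  rcases hu _ _ ((fx_iff h hS ⟨x, hx⟩).1 h1) ((fx_iff h hS ⟨y, hy⟩).1 h2) with e | e | e
  · exact .inl (h.pr_eq_zero.1 e)
  · exact .inr (.inl (h.pr_eq_zero.1 e))
  · exact .inr (.inr (h.pr_eq_pr.1 e))

/-- duality: an element outside of `S'` is detected by a fixed vector -/
theorem exists_fx [Finite G] (h : Large E z) (hS : S ≤ centralizer ({z} : Set G)) {D : Subgroup G}
    (hz : z ∈ D) (hD : ∀ s ∈ S, ∀ x ∈ E, s * x * s⁻¹ * x⁻¹ ∈ D) {d : G} (hd : d ∈ E) (hn : d ∉ D) :
    ∃ u ∈ E, Fx S z u ∧ u * d ≠ d * u := by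
  let W : Submodule (ZMod 2) h.V := AddSubgroup.toZModSubmodule 2
    { carrier := {v | ∃ x : E, (x : G) ∈ D ∧ h.pr x = v}
      zero_mem' := ⟨1, one_mem _, rfl⟩
      add_mem' := by
        rintro _ _ ⟨x, hx, rfl⟩ ⟨y, hy, rfl⟩
        exact ⟨x * y, mul_mem hx hy, rfl⟩
      neg_mem' := by
        rintro _ ⟨x, hx, rfl⟩
        exact ⟨x⁻¹, inv_mem hx, rfl⟩ }
  have h1 : h.pr ⟨d, hd⟩ ∉ W := by
    rintro ⟨x, hx, e⟩
    rcases h.pr_eq_pr.1 e with e | e
    · exact hn (by rwa [e] at hx)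
    · exact hn ((Subgroup.mul_mem_cancel_right _ hz).1 (by rwa [e] at hx))
  obtain ⟨f, hf, hW⟩ := W.exists_dual_map_eq_bot_of_notMem h1 inferInstance
  obtain ⟨v, hv⟩ := h.exists_b_eq f
  obtain ⟨u, rfl⟩ := h.pr_surjective v
  refine ⟨u, u.2, (fx_iff h hS u).2 fun s hs => ?_, fun e => hf ?_⟩
  · rw [← sub_eq_zero]
    refine h.b_nondeg fun w => ?_
    obtain ⟨w', rfl⟩ := (h.act s).surjective w
    obtain ⟨x, rfl⟩ := h.pr_surjective w'
    have h2 : f (h.act s (h.pr x) - h.pr x) = 0 := by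
      rw [← Submodule.mem_bot (R := ZMod 2), ← hW]
      refine ⟨_, ⟨h.conjQ s x * x⁻¹, hD s hs x x.2, ?_⟩, rfl⟩
      rw [h.pr_mul, h.pr_inv, h.act_pr, sub_eq_add_neg]
    rw [map_sub, LinearMap.sub_apply, h.b_act, hv, hv, ← neg_sub, ← map_sub, h2, neg_zero]
  · rw [← hv, h.b_pr]
    exact e

open scoped commutatorElement in
theorem comm_mem {s x : G} (hs : s ∈ S) (hx : x ∈ S) : s * x * s⁻¹ * x⁻¹ ∈ (commutator S).map S.subtype :=
  ⟨⁅(⟨s, hs⟩ : S), ⟨x, hx⟩⁆, commutator_mem_commutator (mem_top _) (mem_top _), rfl⟩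

/-- there is a fixed vector -/
theorem exists_fix [Finite G] (h : Large E z) (hne : ∃ x ∈ E, x ≠ 1 ∧ x ≠ z) (hS : S ≤ centralizer ({z} : Set G))
    (h2 : IsPGroup 2 S) : ∃ v ∈ E, (v ≠ 1 ∧ v ≠ z) ∧ Fx S z v := by
  have : Fact (Nat.Prime 2) := ⟨Nat.prime_two⟩
  let := MulAction.compHom h.V (h.act.comp (inclusion hS))
  obtain ⟨x, hx, h3⟩ := hne
  have h4 : 2 ∣ Nat.card h.V := by
    have h5 : addOrderOf (h.pr ⟨x, hx⟩) = 2 := addOrderOf_eq_prime (by rw [two_nsmul, h.add_self])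
      fun e => (h.pr_eq_zero.1 e).elim h3.1 h3.2
    exact h5 ▸ addOrderOf_dvd_natCard _
  obtain ⟨b, hb, hb0⟩ := h2.exists_fixed_point_of_prime_dvd_card_of_fixed_point h.V h4 (a := 0)
    fun s => map_zero (h.act (inclusion hS s))
  obtain ⟨v, rfl⟩ := h.pr_surjective b
  exact ⟨v, v.2, ⟨fun e => hb0 (h.pr_eq_zero.2 (.inl e)).symm, fun e => hb0 (h.pr_eq_zero.2 (.inr e)).symm⟩,
    (fx_iff h hS v).2 fun s hs => hb ⟨s, hs⟩⟩

open Classical in
/-- the sign character of a subgroup which fixes `v` modulo `z` -/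
noncomputable def sgn (h : Large E z) {H : Subgroup G} (hH : H ≤ centralizer ({z} : Set G)) {v : G} (hv : Fx H z v) :
    H →* ℂˣ :=
  MonoidHom.mk' (fun g => if (g : G) * v * (g : G)⁻¹ = v then 1 else -1) fun a b => by
    have hne : v * z ≠ v := fun e => h.z_ne (mul_eq_left.1 e)
    have haz : (a : G) * z * (a : G)⁻¹ = z := by
      rw [mem_centralizer_singleton_iff.1 (hH a.2), mul_inv_cancel_right]
    have e1 : ((a * b : H) : G) * v * ((a * b : H) : G)⁻¹ = a * (b * v * (b : G)⁻¹) * (a : G)⁻¹ := by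
      rw [coe_mul]
      group
    have e2 : (a : G) * (v * z) * (a : G)⁻¹ = a * v * (a : G)⁻¹ * z := by
      nth_rw 2 [← haz]
      group
    rw [e1]
    rcases hv a a.2 with ha | ha <;> rcases hv b b.2 with hb | hb <;> rw [hb]
    · rw [ha, if_pos rfl, one_mul]
    · rw [e2, ha, if_pos rfl, one_mul]
    · rw [ha, if_pos rfl, mul_one]
    · rw [e2, ha, mul_assoc, h.z_sq, mul_one, if_pos rfl, if_neg hne]
      simp

theorem sgn_eq_one (h : Large E z) {H : Subgroup G} (hH : H ≤ centralizer ({z} : Set G)) {v : G} (hv : Fx H z v)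
    (g : H) : sgn h hH hv g = 1 ↔ (g : G) * v * (g : G)⁻¹ = v := by
  unfold sgn
  rw [MonoidHom.mk'_apply]
  split_ifs with c
  · exact iff_of_true rfl c
  · exact iff_of_false (fun e => by have := congrArg Units.val e; norm_num at this) c

theorem sgn_or (h : Large E z) {H : Subgroup G} (hH : H ≤ centralizer ({z} : Set G)) {v : G} (hv : Fx H z v)
    (g : H) : sgn h hH hv g = 1 ∨ sgn h hH hv g = -1 := by
  unfold sgn
  rw [MonoidHom.mk'_apply]
  split_ifs
  · exact .inl rfl
  · exact .inr rfl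

/-- **the count for a subgroup `S ≤ H ≤ C(z)` which fixes the vector** -/
theorem cnt_stab [Finite G] (h : Large E z) (hE : E ≤ S) (h2 : IsPGroup 2 S) (hu : Uq E S z) {H : Subgroup G}
    (hSH : S ≤ H) (hH : H ≤ centralizer ({z} : Set G)) {v : G} (hvE : v ∈ E) (hv1 : v ≠ 1 ∧ v ≠ z) (hv : Fx H z v)
    {M : Type} [Group M] (ρ : H →* M) (hs : Function.Surjective ρ) (hk : ∀ x, ρ x = 1 ↔ (x : G) ∈ E) :
    Nat.card {χ : H → ℂ // OI H χ} = 2 * Nat.card {η : M → ℂ // OI M η} := by
  obtain ⟨y, hy, e⟩ := LargeExtra.Base.exists_not_comm h hvE hv1.1 hv1.2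
  refine cnt_two' ρ hs (sgn h hH hv) (sgn_or h hH hv) (e := ⟨y, hSH (hE hy)⟩) ((hk _).2 hy)
    ((sgn_or h hH hv _).resolve_left fun c => ?_) (S.subgroupOf H) h2.comap_subtype fun d hd => ?_
  · have h3 : y * v = v * y := mul_inv_eq_iff_eq_mul.1 ((sgn_eq_one h hH hv _).1 c)
    exact h.z_ne (mul_eq_left.1 (e.symm.trans h3))
  · by_contra hn
    have hdE : (d : G) ∈ E := (hk d).1 hd.1
    have hdv : (d : G) * v = v * d := mul_inv_eq_iff_eq_mul.1 ((sgn_eq_one h hH hv _).1 hd.2)
    have h3 : ∀ s ∈ S, ∀ x ∈ S, s * x * s⁻¹ * x⁻¹ ∈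
        ((commutator (S.subgroupOf H)).map (S.subgroupOf H).subtype).map H.subtype := fun s hs x hx =>
      ⟨_, comm_mem (S := S.subgroupOf H) (s := ⟨s, hSH hs⟩) (x := ⟨x, hSH hx⟩) hs hx, rfl⟩
    obtain ⟨u, huE, hu1, hu2⟩ := exists_fx h (hSH.trans hH) (d := d)
      (D := ((_root_.commutator (S.subgroupOf H)).map (S.subgroupOf H).subtype).map H.subtype)
      (by
        have h4 := h3 y (hE hy) v (hE hvE)
        rwa [e, h.comm_z _ (mul_mem hvE hy), show z * (v * y) * y⁻¹ * v⁻¹ = z by group] at h4)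
      (fun s hs x hx => h3 s hs x (hE hx)) hdE fun ⟨x, hx, e⟩ => hn ((Subtype.ext e : x = d) ▸ hx)
    have hdz := h.comm_z d hdE
    rcases hu u huE v hvE hu1 (fun s hs => hv s (hSH hs)) with (c | c) | c | c | c
    · exact hu2 (by rw [c, one_mul, mul_one])
    · exact hu2 (by rw [c, hdz])
    · exact c.elim hv1.1 hv1.2
    · exact hu2 (by rw [c, hdv])
    · exact hu2 (by rw [c, mul_assoc, ← hdz, ← mul_assoc, ← hdv, mul_assoc])

theorem norm_le (h : Large E z) (hE : E ≤ S) (hS : S ≤ centralizer ({z} : Set G)) :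
    normalizer (S : Set G) ≤ centralizer ({z} : Set G) :=
  UniqSheet.normalizer_le_centralizer h.z_ne (hE h.z_mem) (fun _ hx => mem_centralizer_singleton_iff.1 (hS hx))
    fun t _ ht => h.cent t (h.self t (ht z (hE h.z_mem)).symm fun x hx => (ht x (hE hx)).symm)
      fun x hx => (ht x (hE hx)).symm

/-- **`k0 N_G(S) = 2 k0 N_L(T)`** -/
theorem cnt_large [Finite G] (h : Large E z) (hne : ∃ x ∈ E, x ≠ 1 ∧ x ≠ z) (hE : E ≤ S)
    (hS : S ≤ centralizer ({z} : Set G)) (h2 : IsPGroup 2 S) (hu : Uq E S z) {L : Type} [Group L]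
    (π : centralizer ({z} : Set G) →* L) (hs : Function.Surjective π) (hk : ∀ x, π x = 1 ↔ (x : G) ∈ E) :
    Nat.card {χ : normalizer (S : Set G) → ℂ // OI _ χ} =
      2 * Nat.card {η : normalizer (((S.subgroupOf _).map π : Subgroup L) : Set L) → ℂ // OI _ η} := by
  have hN := norm_le h hE hS
  obtain ⟨v, hvE, hv1, hv⟩ := exists_fix h hne hS h2
  have hvN : Fx (normalizer (S : Set G)) z v := by
    intro g hg
    have hgz : g * z = z * g := mem_centralizer_singleton_iff.1 (hN hg)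
    have h3 : ∀ c : G, (c = 1 ∨ c = z) → g * v * g⁻¹ ≠ c := by
      rintro c hc e
      have h4 : v = g⁻¹ * c * g := by rw [← e]; group
      rcases hc with rfl | rfl
      · exact hv1.1 (by rw [h4]; group)
      · exact hv1.2 (by rw [h4, mul_assoc, ← hgz, inv_mul_cancel_left])
    refine ((hu _ (h.conj_mem g hgz v hvE) v hvE (fun s hs => ?_) hv).resolve_left
      fun c => h3 _ c rfl).resolve_left fun c => c.elim hv1.1 hv1.2
    have h4 := (hv _ ((mem_normalizer_iff.1 (inv_mem hg) s).1 hs)).conj hgz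
    rwa [show g * (g⁻¹ * s * g⁻¹⁻¹ * v * (g⁻¹ * s * g⁻¹⁻¹)⁻¹) * g⁻¹ = s * (g * v * g⁻¹) * s⁻¹ by group] at h4
  have hT : ∀ x : centralizer ({z} : Set G), π x ∈ (S.subgroupOf _).map π ↔ (x : G) ∈ S := fun x =>
    ⟨fun ⟨y, hy, e⟩ => (Subgroup.mul_mem_cancel_left _ (inv_mem hy)).1
      (hE ((hk (y⁻¹ * x)).1 (by rw [map_mul, map_inv, e, inv_mul_cancel]))), fun hx => ⟨x, hx, rfl⟩⟩
  have hM : ∀ x : centralizer ({z} : Set G),
      π x ∈ normalizer (((S.subgroupOf _).map π : Subgroup L) : Set L) ↔ (x : G) ∈ normalizer (S : Set G) := by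
    intro x
    rw [mem_normalizer_iff, mem_normalizer_iff]
    constructor
    · intro h3 s
      refine ⟨fun h4 => ?_, fun h4 => ?_⟩
      · have h5 := (h3 _).1 ((hT ⟨s, hS h4⟩).2 h4)
        rw [← map_inv, ← map_mul, ← map_mul] at h5
        exact (hT _).1 h5
      · have h5 : s ∈ centralizer ({z} : Set G) := by
          rw [show s = (x : G)⁻¹ * (x * s * (x : G)⁻¹) * x by group]
          exact mul_mem (mul_mem (inv_mem x.2) (hS h4)) x.2
        refine (hT ⟨s, h5⟩).1 ((h3 _).2 ?_)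
        rw [← map_inv, ← map_mul, ← map_mul]
        exact (hT _).2 h4
    · intro h3 l
      obtain ⟨y, rfl⟩ := hs l
      rw [← map_inv, ← map_mul, ← map_mul, hT, hT]
      exact h3 y
  refine cnt_stab h hE h2 hu le_normalizer hN hvE hv1 hvN
    ((π.comp (inclusion hN)).codRestrict _ fun x => (hM _).2 x.2) (fun l => ?_) fun x => ?_
  · obtain ⟨y, hy⟩ := hs l
    exact ⟨⟨y, (hM y).1 (hy ▸ l.2)⟩, Subtype.ext hy⟩
  · exact Subtype.ext_iff.trans (hk (inclusion hN x))

theorem kk_bot {L : Type} [Group L] (H : Subgroup L) : kk H ⊥ 1 = Nat.card {χ : H → ℂ // OI H χ} :=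
  Nat.card_congr (Equiv.subtypeEquivRight fun ψ => and_iff_left fun x hx => by
    rw [show x = 1 from Subtype.ext hx]
    exact (one_mul _).symm)

theorem ih_cnt {L : Type} [Group L] [Finite L] {n : ℕ} (ih : IH n) (hn : Nat.card L < n) (T : Sylow 2 L) :
    Nat.card {χ : normalizer ((T : Subgroup L) : Set L) → ℂ // OI _ χ} = Nat.card {χ : L → ℂ // OI L χ} := by
  rw [← kk_bot, ← ih L ⊥ bot_le (by rwa [index_bot]) 1 T, kk_top]
  refine Nat.card_congr (Equiv.subtypeEquivRight fun ψ => and_iff_left fun x hx => ?_)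
  rw [mem_bot.1 hx]
  exact (one_mul _).symm

/-- **`k0 N_G(S) = 2 k0 L`** -/
theorem cnt_ih [Finite G] (h : Large E z) (hne : ∃ x ∈ E, x ≠ 1 ∧ x ≠ z) (P : Sylow 2 G)
    (hS : (P : Subgroup G) ≤ centralizer ({z} : Set G)) (hu : Uq E P z) {L : Type} [Group L]
    (π : centralizer ({z} : Set G) →* L) (hs : Function.Surjective π) (hk : ∀ x, π x = 1 ↔ (x : G) ∈ E) {n : ℕ}
    (ih : IH n) (hn : Nat.card L < n) :
    Nat.card {χ : normalizer ((P : Subgroup G) : Set G) → ℂ // OI _ χ} = 2 * Nat.card {η : L → ℂ // OI L η} := by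
  have : Fact (Nat.Prime 2) := ⟨Nat.prime_two⟩
  have : Finite L := Finite.of_surjective _ hs
  rw [cnt_large h hne (le_sylow h P hS) hS P.isPGroup' hu π hs hk]
  exact congrArg _ (ih_cnt ih hn ((P.subtype hS).mapSurjective hs))

end large

end Cfsg.Agent.MK.S8
end

-- part: MK/S1/Pc
section
prune_inst 0x2089100000000000000000000000000014010000
set_option linter.all false
open scoped Cfsg.Agent.FastGrp

/-!
# MK, the Mathieu groups: polycyclic certificates in `M24` (helper44)

* `a2_of_gl` : `a2` from a certificate on packed elements of `M24`;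
* `exists_act` : the action of the normaliser on a subgroup with trivial centraliser; `a2_aut_of_gl`;
* the certificates for the Sylow `2`-subgroups of `M11`, `M12`, `M12.2`, `M22`, `M22.2`, `M24`.
-/

set_option autoImplicit false
set_option maxRecDepth 100000

namespace Cfsg.Agent.MK.S1

open Cfsg Subgroup Cfsg.Agent.MK.T Cfsg.Agent.MK.S.Pc Cfsg.Agent.MK.S5
open Cfsg.Agent.SporadicA.GolayBase Cfsg.Agent.SporadicA.GolayPerm Cfsg.Agent.SporadicStructure.M24El

/-- the letters -/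
noncomputable def yy (gl : List ℕ) (i : ℕ) : M24 := el (gl.getD i idP)

/-- the test of the equality of two words -/
def eqW (gl : List ℕ) (v w : List ℕ) : Bool := Nat.beq (prodW gl v) (prodW gl w)

/-- the image of a point -/
def apW (gl : List ℕ) (w : List ℕ) (p : ℕ) : ℕ := w.foldr (fun i q => papp (gl.getD i idP) q) p

/-- the key -/
def ky (f : ℕ → ℕ) : ℕ := (f 1 + 32 * (f 2 + 32 * (f 3 + 32 * (f 4 + 32 * (f 5 + 32 * (f 6 + 32 * f 7)))))) % 56899

/-- no repetitions -/
def nd (l : List ℕ) : ℕ → Bool :=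
  l.foldr (fun a r s => !(s.testBit a) && r (s ||| (1 <<< a))) fun _ => true

theorem nd_spec : ∀ (l : List ℕ) (s : ℕ), nd l s = true → l.Nodup ∧ ∀ a ∈ l, s.testBit a = false
  | [], _, _ => ⟨List.nodup_nil, fun _ h => absurd h List.not_mem_nil⟩
  | a :: l, s, h => by
    change (!(s.testBit a) && nd l (s ||| (1 <<< a))) = true at h
    rw [Bool.and_eq_true, Bool.not_eq_true'] at h
    obtain ⟨h1, h2⟩ := nd_spec l _ h.2
    simp only [Nat.testBit_or, Bool.or_eq_false_iff, Nat.one_shiftLeft, Nat.testBit_two_pow,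
      decide_eq_false_iff_not] at h2
    refine ⟨List.nodup_cons.2 ⟨fun ha => (h2 a ha).2 rfl, h1⟩, fun b hb => ?_⟩
    rcases List.mem_cons.1 hb with rfl | hb
    · exact h.1
    · exact (h2 b hb).1

/-- the whole check -/
def chkA (gl : List ℕ) (c : Cert) (n m : ℕ) : Bool :=
  gl.all ok && Nat.ble m n && (List.range n).all (chk1 (eqW gl) n m c) &&
    nd ((List.range n).sublists.map fun w => ky (apW gl (c.ex w))) 0

theorem ev_yy {gl : List ℕ} (h : ∀ P ∈ gl, ok P = true) (w : List ℕ) : ev (yy gl) w = el (prodW gl w) :=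
  (el_prodW h w).symm

theorem idx_ev {gl : List ℕ} (h : ∀ P ∈ gl, ok P = true) {p : ℕ} (hp : p < 24) :
    ∀ w, idx (ev (yy gl) w • pt p) = apW gl w p
  | [] => by rw [ev_nil, one_smul, idx_pt hp]; rfl
  | i :: w => by rw [ev_cons, mul_smul, yy, idx_el_smul (ok_getD h i), idx_ev h hp w]; rfl

theorem pc_of_chkA [Finite M24] {gl : List ℕ} {c : Cert} {n m : ℕ} (h : chkA gl c n m = true) :
    (∀ P ∈ gl, ok P = true) ∧ PC (c.el (yy gl)) n m ∧ 2 ^ n ≤ Nat.card (V (c.el (yy gl)) n 0) := by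
  simp only [chkA, Bool.and_eq_true, List.all_eq_true, Nat.ble_eq, List.mem_range] at h
  obtain ⟨⟨⟨h1, h2⟩, h3⟩, h4⟩ := h
  refine ⟨h1, pc_of_chk (fun v w e => ?_) h2 h3, le_card_of_key (fun g : M24 => ky fun p => idx (g • pt p)) ?_⟩
  · rw [ev_yy h1, ev_yy h1, Nat.eq_of_beq_eq_true e]
  · rw [List.map_congr_left (g := fun w => ky (apW gl (c.ex w))) fun w _ => by
      simp (disch := norm_num) only [← c.ev_ex, ky, idx_ev h1]]
    exact (nd_spec _ _ h4).1

theorem el_mem {gl : List ℕ} {K : Subgroup M24} (h : ∀ P ∈ gl, el P ∈ K) (c : Cert) (i : ℕ) : c.el (yy gl) i ∈ K := by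
  refine ev_mem fun j _ => ?_
  rw [yy]
  by_cases hj : j < gl.length
  · rw [List.getD_eq_getElem _ _ hj]
    exact h _ (List.getElem_mem hj)
  · rw [List.getD_eq_default _ _ (by omega), el_idP]
    exact one_mem _

variable {X : Type} [Group X]

/-- **`a2` from a certificate** -/
theorem a2_of_gl [Finite M24] (f : X →* M24) (hf : Function.Injective f) {gl : List ℕ} {c : Cert} {n m k : ℕ}
    (h : chkA gl c n m = true) (hr : ∀ P ∈ gl, ok P = true → el P ∈ f.range) (hk : Odd k)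
    (hX : Nat.card X = 2 ^ n * k) : a2 X = 2 ^ m := by
  obtain ⟨h1, h2, h3⟩ := pc_of_chkA h
  exact a2_of_pc f hf h2 h3 (fun i _ => el_mem (fun P hP => hr P hP (h1 P hP)) c i) hk hX

/-- the action of the normaliser -/
theorem exists_act {Γ : Type} [Group Γ] (f : X →* Γ) (hf : Function.Injective f)
    (hC : ∀ τ : Γ, (∀ x, τ * f x = f x * τ) → τ = 1) :
    ∃ ρ : normalizer (f.range : Set Γ) →* MulAut X, Function.Injective ρ ∧
      ∀ a x, f (ρ a x) = a * f x * (a : Γ)⁻¹ := by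
  let e := MonoidHom.ofInjective hf
  let ρ : normalizer (f.range : Set Γ) →* MulAut X :=
    (MulAut.congr e).symm.toMonoidHom.comp f.range.normalizerMonoidHom
  have h1 : ∀ a x, f (ρ a x) = a * f x * (a : Γ)⁻¹ := fun a x =>
    congrArg Subtype.val (e.apply_symm_apply (f.range.normalizerMonoidHom a (e x)))
  refine ⟨ρ, (injective_iff_map_eq_one ρ).2 fun a ha => Subtype.ext (hC _ fun x => ?_), h1⟩
  have h2 := h1 a x
  rw [ha, MulAut.one_apply] at h2
  exact mul_inv_eq_iff_eq_mul.1 h2.symm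

/-- `a2` of the automorphism group -/
theorem a2_aut_of_gl [Finite M24] [Finite X] {K : Subgroup M24} (ρ : K →* MulAut X) (hρ : Function.Injective ρ)
    {gl : List ℕ} {c : Cert} {n m k : ℕ} (h : chkA gl c n m = true) (hr : ∀ P ∈ gl, ok P = true → el P ∈ K)
    (hk : Odd k) (hX : Nat.card (MulAut X) = 2 ^ n * k) : a2 (MulAut X) = 2 ^ m := by
  obtain ⟨h1, h2, h3⟩ := pc_of_chkA h
  have h4 : V (c.el (yy gl)) n 0 ≤ K := V_le fun i _ _ => el_mem (fun P hP => hr P hP (h1 P hP)) c i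
  have e := (subgroupOfEquivOfLe h4).symm.trans (((V (c.el (yy gl)) n 0).subgroupOf K).equivMapOfInjective ρ hρ)
  rw [a2_of_sub (MonoidHom.id _) Function.injective_id (((V (c.el (yy gl)) n 0).subgroupOf K).map ρ)
    (fun x _ => ⟨x, rfl⟩) (by rw [← Nat.card_congr e.toEquiv]; exact h2.card_eq h3 (Nat.zero_le n)) hk hX,
    ← ab_congr e]
  exact h2.index h3

/-! ### the certificates -/

def g11 : List ℕ := [811721624755378088562767127816440224, 980337198607347817318270043156498688,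
    712951677269790460590282110239410688, 608378702909085637188885195315873920]

def c11 : Cert where
  gw := [[0], [1], [2], [3]]
  sq := [[3], [], [3], []]
  cm := [[[], [2, 3], [3], []], [[], [], [3], []], [[], [], [], []], [[], [], [], []]]
  dv := [([], [], []), ([], [], []), ([1], [0], []), ([2, 3], [1], [])]

def g12 : List ℕ := [853260336314920060347952024579623328, 732426474961190380979792325949950089,
    934189694589388557992048848258859442, 981656149524935688967641396208060553,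
    630442815542927499648711288170957321, 608378702909085637188885195315873920]

def c12 : Cert where
  gw := [[0], [1], [2], [3], [4], [5]]
  sq := [[3, 4], [], [4], [], [5], []]
  cm := [[[], [3, 4], [3], [5], [5], []], [[], [], [4, 5], [], [5], []], [[], [], [], [5], [], []], [[], [], [], [],
    [], []], [[], [], [], [], [], []], [[], [], [], [], [], []]]
  dv := [([], [], []), ([], [], []), ([], [], []), ([2], [0], []), ([2], [1], []), ([3, 4], [2], [])]

def g12a : List ℕ := [227591120086334186348394142531848384, 541667432147000678380462379081706133,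
    340193184607674300264305001246141941, 981778396026519415205126423097779250,
    731269206504371524970487553510811154, 610404943368018725578444844873173033,
    608378702909085637188885195315873920]

def c12a : Cert where
  gw := [[0], [1], [2], [3], [4], [5], [6]]
  sq := [[6], [5, 6], [3, 5, 6], [], [], [], []]
  cm := [[[], [4, 5], [3], [], [6], [6], []], [[], [], [4], [5, 6], [6], [], []], [[], [], [], [6], [5, 6], [6],
    []], [[], [], [], [], [6], [], []], [[], [], [], [], [], [], []], [[], [], [], [], [], [], []], [[], [], [], [],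
    [], [], []]]
  dv := [([], [], []), ([], [], []), ([], [], []), ([2], [0], []), ([2], [1], []), ([2], [2, 3, 4, 5, 6], []), ([2],
    [2, 3], [])]

def g22 : List ℕ := [964563684864323421128298207006538144, 964635896421529405006781235388004768,
    958269799639027155104535205206153632, 963746088592452898125099198249967648,
    968654393269144319313595763455101984, 960796265644511697179202340874633248,
    958359841193275559058527489894996000]

def c22 : Cert where
  gw := [[0], [1], [2], [3], [4], [5], [6]]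
  sq := [[3], [4, 5, 6], [], [], [6], [], []]
  cm := [[[], [3, 4, 5], [3], [], [5, 6], [6], []], [[], [], [4, 6], [5], [6], [6], []], [[], [], [], [], [6], [6],
    []], [[], [], [], [], [6], [], []], [[], [], [], [], [], [], []], [[], [], [], [], [], [], []], [[], [], [], [],
    [], [], []]]
  dv := [([], [], []), ([], [], []), ([], [], []), ([2], [0], []), ([2], [1], []), ([1], [3, 4, 5], []), ([2], [2,
    4], [])]

def g22a : List ℕ := [9257121929923376993842421068642359, 964563684864323421128298207006538144,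
    962776253026012558420267956671491104, 958269799639027155104535205206153632,
    963746088592452898125099198249967648, 968654393269144319313595763455101984,
    960796265644511697179202340874633248, 958359841193275559058527489894996000]

def c22a : Cert where
  gw := [[0], [1], [2], [3], [4], [5], [6], [7]]
  sq := [[4, 6], [4], [6], [], [], [7], [], []]
  cm := [[[], [6], [5], [4], [7], [6], [7], []], [[], [], [5, 6, 7], [4], [], [6, 7], [7], []], [[], [], [], [5, 7],
    [6, 7], [], [], []], [[], [], [], [], [], [7], [7], []], [[], [], [], [], [], [7], [], []], [[], [], [], [], [],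
    [], [], []], [[], [], [], [], [], [], [], []], [[], [], [], [], [], [], [], []]]
  dv := [([], [], []), ([], [], []), ([], [], []), ([], [], []), ([3], [1], []), ([3], [2], []), ([2], [0, 1, 4, 6,
    7], []), ([3], [3, 5], [])]

def g24 : List ℕ := [964635896421529405006781235388004768, 635184250539178882295438984835487313,
    542893535619217176762714596726627041, 50188330457140793041819887600345101, 3060884162497229114428174945606071,
    8611926139677110162895897192702391, 47111659653496936130671333083464429, 28938665076611168234571049512044983,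
    20990495820449057649477933877891511, 958359841193275559058527489894996000]

def c24 : Cert where
  gw := [[0], [1], [2], [3], [4], [5], [6], [7], [8], [9]]
  sq := [[5, 7, 9], [4, 5, 6, 9], [7], [4, 7, 8], [], [9], [], [], [], []]
  cm := [[[], [4, 6, 7], [5, 7, 8], [4, 5, 7, 9], [7, 8], [9], [8], [9], [], []], [[], [], [5, 8, 9], [5, 6, 7, 9],
    [8], [7], [7, 8], [9], [9], []], [[], [], [], [4, 7, 9], [], [9], [7, 9], [], [9], []], [[], [], [], [], [9],
    [7, 8], [7, 9], [], [9], []], [[], [], [], [], [], [9], [], [], [], []], [[], [], [], [], [], [], [], [], [],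
    []], [[], [], [], [], [], [], [], [], [], []], [[], [], [], [], [], [], [], [], [], []], [[], [], [], [], [],
    [], [], [], [], []], [[], [], [], [], [], [], [], [], [], []]]
  dv := [([], [], []), ([], [], []), ([], [], []), ([], [], []), ([3], [2, 3, 4, 6, 7, 8], []), ([3], [0, 2, 5],
    []), ([3], [0, 1, 2, 4, 5, 6, 8], []), ([3], [4, 6, 7, 9], []), ([3], [4, 5, 6, 7], []), ([3], [3, 8], [])]

theorem k11 : chkA g11 c11 4 2 = true := by decide +kernel

theorem k12 : chkA g12 c12 6 3 = true := by decide +kernel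

theorem k12a : chkA g12a c12a 7 3 = true := by decide +kernel

theorem k22 : chkA g22 c22 7 3 = true := by decide +kernel

theorem k22a : chkA g22a c22a 8 4 = true := by decide +kernel

theorem k24 : chkA g24 c24 10 4 = true := by decide +kernel

end Cfsg.Agent.MK.S1

private theorem dce_33da549d63e4 : _root_.True := by
  try have : _root_.True := by simp only [_root_.Cfsg.Agent.MK.S1.ky.eq_1]
  try have : _root_.True := by simp only [_root_.Cfsg.Agent.MK.S1.chkA.eq_1]
  try have : _root_.True := by simp only [_root_.Cfsg.Agent.MK.S1.yy.eq_1]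
  exact _root_.True.intro
end

-- part: MK/S8/Aut
section
prune_inst 0x2089100000000000000000000000000014010000
set_option linter.all false
open scoped Cfsg.Agent.FastGrp

/-!
# MK, small rows: the McKay equality for `X` and `Aut X` from a large extraspecial subgroup (helper54)

* `Lg E z π` : the data; `Lg.m0` : `k0 X = 2 k0 L` gives `M0 X`;
* `Lg.m0_aut` : `f0 α = 2 f0 β` gives `M0 (MulAut X)`;
* `Lg.sm_one`, `Lg.sm_two` : the rows.
-/

set_option autoImplicit false

namespace Cfsg.Agent.MK.S8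

open Cfsg Subgroup Cfsg.Agent.Co2Type.Quad Cfsg.Agent.KFacts.AutLarge Cfsg.Agent.MK.T

variable {X L : Type} [Group X] [Group L] {E : Subgroup X} {z : X} {π : centralizer ({z} : Set X) →* L}

/-- a large extraspecial subgroup, a Sylow subgroup with one fixed vector, the quotient of the centralizer -/
structure Lg (E : Subgroup X) (z : X) (π : centralizer ({z} : Set X) →* L) : Prop where
  large : Large E z
  ne : ∃ x ∈ E, x ≠ 1 ∧ x ≠ z
  syl : ∃ S : Sylow 2 X, (S : Subgroup X) ≤ centralizer ({z} : Set X) ∧ Uq E S z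
  surj : Function.Surjective π
  ker : ∀ x, π x = 1 ↔ (x : X) ∈ E

/-- a `2`-subgroup `D ≤ C(z)` with at most one fixed vector is enough -/
theorem syl_of [Finite X] (ho : ¬ 2 ∣ (centralizer ({z} : Set X)).index) {D : Subgroup X} (hD : IsPGroup 2 D)
    (hz : D ≤ centralizer ({z} : Set X)) (hu : Uq E D z) :
    ∃ S : Sylow 2 X, (S : Subgroup X) ≤ centralizer ({z} : Set X) ∧ Uq E S z := by
  have := two_prime
  obtain ⟨P, hP⟩ := (hD.comap_subtype (K := centralizer ({z} : Set X))).exists_le_sylow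
  have h3 : ¬ 2 ∣ ((P : Subgroup (centralizer ({z} : Set X))).map (centralizer ({z} : Set X)).subtype).index := by
    rw [index_map_subtype]
    exact fun h => (Nat.prime_two.dvd_mul.1 h).elim P.not_dvd_index ho
  exact ⟨(P.isPGroup'.map _).toSylow h3, map_subtype_le _, hu.mono fun d hd => ⟨⟨d, hz hd⟩, hP hd, rfl⟩⟩

theorem Lg.two_lt [Finite X] (h : Lg E z π) : 2 * Nat.card L < Nat.card X := by
  have : Finite L := Finite.of_surjective _ h.surj
  have h1 := π.ker.card_mul_index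
  rw [index_ker, MonoidHom.range_eq_top.2 h.surj, card_top] at h1
  obtain ⟨x, hx, h2, h3⟩ := h.ne
  have h4 : 2 < Nat.card π.ker := by
    have := Fintype.ofFinite π.ker
    rw [Nat.card_eq_fintype_card, Fintype.two_lt_card_iff]
    have hm : ∀ y ∈ E, y ∈ centralizer ({z} : Set X) := fun y hy =>
      mem_centralizer_singleton_iff.2 (h.large.comm_z y hy)
    exact ⟨1, ⟨⟨x, hm x hx⟩, (h.ker _).2 hx⟩, ⟨⟨z, hm z h.large.z_mem⟩, (h.ker _).2 h.large.z_mem⟩,
      fun e => h2 (congrArg (fun y : π.ker => (y.1 : X)) e).symm,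
      fun e => h.large.z_ne (congrArg (fun y : π.ker => (y.1 : X)) e).symm,
      fun e => h3 (congrArg (fun y : π.ker => (y.1 : X)) e)⟩
  exact ((Nat.mul_lt_mul_right Nat.card_pos).2 h4).trans_le (h1 ▸ card_le_card_group _)

/-- **the McKay equality for `X`** -/
theorem Lg.m0 [Finite X] (h : Lg E z π) (ih : IH (Nat.card X)) (hk : k0 X = 2 * k0 L) : M0 X := by
  obtain ⟨S, hS, hu⟩ := h.syl
  exact M0.of_one S (hk.trans (cnt_ih h.large h.ne S hS hu π h.surj h.ker ih (by have := h.two_lt; omega)).symm)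

theorem Lg.center_bot [IsSimpleGroup X] (h : Lg E z π) : center X = ⊥ := by
  refine ((inferInstance : (center X).Normal).eq_bot_or_eq_top).resolve_right fun e => ?_
  obtain ⟨x, hx, h2, h3⟩ := h.ne
  exact (h.large.cent x hx fun y _ => (mem_center_iff.1 (e ▸ mem_top x) y).symm).elim h2 h3

/-- `β` is induced by `α` -/
def Ind (π : centralizer ({z} : Set X) →* L) (α : MulAut X) (β : MulAut L) : Prop :=
  α z = z ∧ ∀ x x' : centralizer ({z} : Set X), (x' : X) = α x → π x' = β (π x)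

theorem map_cent {α : MulAut X} (hα : α z = z) {x : X} (hx : x ∈ centralizer ({z} : Set X)) :
    α x ∈ centralizer ({z} : Set X) := by
  rw [mem_centralizer_singleton_iff] at hx ⊢
  rw [← hα, ← map_mul, ← map_mul, hx]

theorem Lg.exists_ind [Finite X] (h : Lg E z π) {α : MulAut X} (hα : α z = z) (hE : ∀ x ∈ E, α x ∈ E) :
    ∃ β : MulAut L, Ind π α β := by
  have : Finite L := Finite.of_surjective _ h.surj
  let f : centralizer ({z} : Set X) →* centralizer ({z} : Set X) :=
    (α.toMonoidHom.comp (centralizer ({z} : Set X)).subtype).codRestrict _ fun x => map_cent hα x.2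
  have hf : Function.Surjective f :=
    Finite.surjective_of_injective fun a b hab => Subtype.ext (α.injective (congrArg Subtype.val hab))
  let g : L →* L := π.liftOfSurjective h.surj ⟨π.comp f, fun x hx => (h.ker _).2 (hE _ ((h.ker x).1 hx))⟩
  have hg : ∀ x, g (π x) = π (f x) := fun x => π.liftOfRightInverse_comp_apply _ _ _ x
  have hg' : Function.Surjective g := by
    intro l
    obtain ⟨x, rfl⟩ := h.surj l
    obtain ⟨y, rfl⟩ := hf x
    exact ⟨π y, hg y⟩
  exact ⟨MulEquiv.ofBijective g ⟨Finite.injective_iff_surjective.2 hg', hg'⟩, hα, fun x x' e =>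
    (congrArg π (Subtype.ext e)).trans (hg x).symm⟩

/-- what is needed about the automorphisms -/
structure Au (E : Subgroup X) (z : X) : Prop where
  map : ∀ α : MulAut X, α z = z → ∀ x ∈ E, α x ∈ E
  inn : ∀ α : MulAut X, α z = z → (∀ x ∈ centralizer ({z} : Set X), x⁻¹ * α x ∈ E) →
    α ∈ (MulAut.conj : X →* MulAut X).range

theorem fix_of_comm (hZ : center X = ⊥) {g : MulAut X} {x : X} (h : g * MulAut.conj x = MulAut.conj x * g) :
    g x = x := conj_inj hZ (by rw [conj_map, h, mul_inv_cancel_right])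

theorem large_aut (h : Large E z) (hZ : center X = ⊥) (ha : Au E z) :
    Large (E.map (MulAut.conj : X →* MulAut X)) (MulAut.conj z) where
  z_mem := ⟨z, h.z_mem, rfl⟩
  z_ne e := h.z_ne (conj_inj hZ (e.trans (map_one _).symm))
  z_sq := by rw [← map_mul, h.z_sq, map_one]
  comm_z := by
    rintro _ ⟨x, hx, rfl⟩
    rw [← map_mul, ← map_mul, h.comm_z x hx]
  conj_mem := by
    rintro g hg _ ⟨x, hx, rfl⟩
    exact ⟨g x, ha.map g (fix_of_comm hZ hg) x hx, conj_map g x⟩
  sq := by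
    rintro _ ⟨x, hx, rfl⟩
    rw [← map_mul]
    exact (h.sq x hx).imp (fun e => by rw [e, map_one]) fun e => by rw [e]
  comm := by
    rintro _ ⟨x, hx, rfl⟩ _ ⟨y, hy, rfl⟩
    simp only [← map_mul]
    exact (h.comm x hx y hy).imp (congrArg _) (congrArg _)
  cent := by
    rintro _ ⟨x, hx, rfl⟩ hc
    exact (h.cent x hx fun y hy => conj_inj hZ (by rw [map_mul, map_mul]; exact hc _ ⟨y, hy, rfl⟩)).imp
      (fun e => by rw [e, map_one]) fun e => by rw [e]
  self g hg hc := by
    have h1 := fix_of_comm hZ hg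
    have h2 : ∀ x ∈ E, g x = x := fun x hx => fix_of_comm hZ (hc _ ⟨x, hx, rfl⟩)
    obtain ⟨s, rfl⟩ := ha.inn g h1 fun c hc => h.self _
      (mem_centralizer_singleton_iff.1 (mul_mem (inv_mem hc) (map_cent h1 hc))) fun x hx => by
        have h3 := h2 _ (h.conj_mem c (mem_centralizer_singleton_iff.1 hc) x hx)
        rw [map_mul, map_mul, map_inv, h2 x hx] at h3
        calc c⁻¹ * g c * x = c⁻¹ * (g c * x * (g c)⁻¹) * g c := by group
          _ = _ := by rw [h3]; group
    exact ⟨s, h.self s (mul_inv_eq_iff_eq_mul.1 h1) fun x hx => mul_inv_eq_iff_eq_mul.1 (h2 x hx), rfl⟩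

theorem uq_map {Y : Type} [Group Y] {S : Subgroup X} (f : X →* Y) (hf : Function.Injective f) (hu : Uq E S z) :
    Uq (E.map f) (S.map f) (f z) := by
  have h1 : ∀ a b, Eqz (f z) (f a) (f b) ↔ Eqz z a b := fun a b => by
    unfold Eqz
    rw [← map_mul, hf.eq_iff, hf.eq_iff]
  have h2 : ∀ x, Fx (S.map f) (f z) (f x) → Fx S z x := fun x h s hs => by
    have h3 := h _ ⟨s, hs, rfl⟩
    rwa [← map_inv, ← map_mul, ← map_mul, h1] at h3
  rintro _ ⟨x, hx, rfl⟩ _ ⟨y, hy, rfl⟩ a b
  rw [h1, hf.eq_iff, hf.eq_iff, map_eq_one_iff f hf, map_eq_one_iff f hf]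
  exact hu x hx y hy (h2 x a) (h2 y b)

/-- **the McKay equality for `Aut X`** -/
theorem Lg.m0_aut [Finite X] (h : Lg E z π) (hZ : center X = ⊥) (ha : Au E z)
    (hi : (MulAut.conj : X →* MulAut X).range.index = 2) (ih : IH (Nat.card X))
    (hf : ∀ (α : MulAut X) (β : MulAut L), α ∉ (MulAut.conj : X →* MulAut X).range →
      β ∉ (MulAut.conj : L →* MulAut L).range → Ind π α β → f0 α = 2 * f0 β) : M0 (MulAut X) := by
  have := two_prime
  have : Finite L := Finite.of_surjective _ h.surj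
  have hj := conj_inj hZ
  have hL := large_aut h.large hZ ha
  obtain ⟨S, hS, hu⟩ := h.syl
  have hE := le_sylow h.large S hS
  obtain ⟨P, hP⟩ := (S.isPGroup'.map (MulAut.conj : X →* MulAut X)).exists_le_sylow
  have h1 : (P : Subgroup (MulAut X)).comap MulAut.conj = S :=
    S.is_maximal' (P.isPGroup'.comap_of_injective _ hj) (map_le_iff_le_comap.1 hP)
  have h2 : ∀ g ∈ (P : Subgroup (MulAut X)), g z = z := by
    intro g hg
    have h3 : ∀ g ∈ (P : Subgroup (MulAut X)), ∀ s ∈ (S : Subgroup X), g s ∈ (S : Subgroup X) := fun g hg s hs => by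
      rw [← h1, mem_comap, conj_map]
      exact mul_mem (mul_mem hg (hP ⟨s, hs, rfl⟩)) (inv_mem hg)
    have h4 : ∀ s ∈ (S : Subgroup X), g z * s = s * g z := fun s hs => by
      rw [← MulAut.apply_inv_self X g s, ← map_mul, ← map_mul, mem_centralizer_singleton_iff.1 (hS (h3 _ (inv_mem hg) s hs))]
    exact (h.large.cent _ (h.large.self _ (h4 z (hE h.large.z_mem)) fun x hx => h4 x (hE hx))
      fun x hx => h4 x (hE hx)).resolve_left fun e => h.large.z_ne ((map_eq_one_iff g g.injective).1 e)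
  have h3 : ∀ g : MulAut X, g z = z → g ∈ centralizer ({MulAut.conj z} : Set (MulAut X)) := fun g hg => by
    rw [mem_centralizer_singleton_iff, ← mul_inv_eq_iff_eq_mul, ← conj_map, hg]
  obtain ⟨α, hα, hn⟩ : ∃ α ∈ (P : Subgroup (MulAut X)), α ∉ (MulAut.conj : X →* MulAut X).range := by
    by_contra hc
    push Not at hc
    have h4 := index_dvd_of_le (show (P : Subgroup (MulAut X)) ≤ (MulAut.conj : X →* MulAut X).range from hc)
    rw [hi] at h4
    exact P.not_dvd_index h4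
  obtain ⟨β, hβ⟩ := h.exists_ind (h2 α hα) (ha.map α (h2 α hα))
  let C := centralizer ({MulAut.conj z} : Set (MulAut X))
  let K : Subgroup C := (E.map (MulAut.conj : X →* MulAut X)).subgroupOf C
  have : K.Normal := ⟨fun x hx g => hL.conj_mem g (mem_centralizer_singleton_iff.1 g.2) x hx⟩
  let j : centralizer ({z} : Set X) →* C := (MulAut.conj.comp (centralizer ({z} : Set X)).subtype).codRestrict _
    fun x => h3 _ (mul_inv_eq_iff_eq_mul.2 (mem_centralizer_singleton_iff.1 x.2))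
  let f : L →* C ⧸ K := π.liftOfSurjective h.surj ⟨(QuotientGroup.mk' K).comp j, fun x hx =>
    (QuotientGroup.eq_one_iff _).2 ⟨x, (h.ker x).1 hx, rfl⟩⟩
  have hf1 : ∀ x, f (π x) = QuotientGroup.mk' K (j x) := fun x => π.liftOfRightInverse_comp_apply _ _ _ x
  have hf2 : Function.Injective f := (injective_iff_map_eq_one f).2 fun l hl => by
    obtain ⟨x, rfl⟩ := h.surj l
    obtain ⟨y, hy, e⟩ := (QuotientGroup.eq_one_iff _).1 ((hf1 x).symm.trans hl)
    exact (h.ker x).2 ((hj e : y = x) ▸ hy)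
  have hf3 : ∀ c : C, QuotientGroup.mk' K c ∈ f.range ↔ (c : MulAut X) ∈ (MulAut.conj : X →* MulAut X).range := by
    intro c
    constructor
    · rintro ⟨l, hl⟩
      obtain ⟨x, rfl⟩ := h.surj l
      obtain ⟨y, -, e⟩ := QuotientGroup.eq.1 ((hf1 x).symm.trans hl)
      exact ⟨x * y, by rw [map_mul, e]; exact mul_inv_cancel_left _ _⟩
    · rintro ⟨x, hx⟩
      have h4 := fix_of_comm hZ (mem_centralizer_singleton_iff.1 c.2)
      rw [← hx] at h4
      exact ⟨π ⟨x, mem_centralizer_singleton_iff.2 (mul_inv_eq_iff_eq_mul.1 h4)⟩,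
        (hf1 _).trans (congrArg _ (Subtype.ext hx))⟩
  have hf4 : f.range.index = 2 := by
    refine index_eq_two_iff.2 ⟨QuotientGroup.mk' K ⟨α, h3 α (h2 α hα)⟩, fun b => ?_⟩
    obtain ⟨c, rfl⟩ := QuotientGroup.mk'_surjective K b
    rw [← map_mul, hf3, hf3, coe_mul, mul_mem_iff_of_index_two hi]
    simp only [hn, iff_false]
    exact (em _).elim (fun c => .inr ⟨c, not_not_intro c⟩) fun c => .inl ⟨c, c⟩
  have h4 : k0 (C ⧸ K) = 2 * f0 β := k0_index_two f hf2 hf4 (a := QuotientGroup.mk' K ⟨α, h3 α (h2 α hα)⟩)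
    (fun e => hn ((hf3 _).1 e)) fun l => by
      obtain ⟨x, rfl⟩ := h.surj l
      rw [← hβ.2 x ⟨α x, map_cent hβ.1 x.2⟩ rfl, hf1, hf1, ← map_inv, ← map_mul, ← map_mul]
      exact congrArg _ (Subtype.ext (conj_map α x))
  have h5 : β ∉ (MulAut.conj : L →* MulAut L).range := by
    rintro ⟨l, rfl⟩
    obtain ⟨c, rfl⟩ := h.surj l
    refine hn ((Subgroup.mul_mem_cancel_left _ (inv_mem (MonoidHom.mem_range.2 ⟨(c : X), rfl⟩))).1 (ha.inn _ ?_ fun x hx => ?_))
    · rw [MulAut.mul_apply, hβ.1, ← map_inv, MulAut.conj_apply, mem_centralizer_singleton_iff.1 (inv_mem c.2),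
        mul_inv_cancel_right]
    · have h6 := (h.ker (⟨x, hx⟩⁻¹ * (c⁻¹ * ⟨α x, map_cent hβ.1 hx⟩ * c))).1 (by
        rw [map_mul, map_mul, map_mul, map_inv, map_inv, hβ.2 ⟨x, hx⟩ ⟨α x, map_cent hβ.1 hx⟩ rfl, MulAut.conj_apply]
        group)
      simpa using h6
  have h6 : Nat.card (C ⧸ K) < Nat.card X := by
    rw [← f.range.card_mul_index, hf4, ← Nat.card_congr (MonoidHom.ofInjective hf2).toEquiv, mul_comm]
    exact h.two_lt
  obtain ⟨x, hx, hx1, hx2⟩ := h.ne
  refine M0.of_one P ?_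
  rw [k0_aut hZ hi hn, hf α β hn h5 hβ, ← h4]
  exact (cnt_ih hL ⟨_, ⟨x, hx, rfl⟩, fun e => hx1 (hj (e.trans (map_one _).symm)), fun e => hx2 (hj e)⟩ P
    (fun g hg => h3 g (h2 g hg)) ((uq_map _ hj hu).mono hP) (QuotientGroup.mk' K) (QuotientGroup.mk'_surjective K)
    (fun x => QuotientGroup.eq_one_iff x) ih h6).symm

/-- **the row, trivial outer automorphism group** -/
theorem Lg.sm_one [Finite X] [IsSimpleGroup X] (h : Lg E z π)
    (hi : (MulAut.conj : X →* MulAut X).range.index = 1) (hk : k0 X = 2 * k0 L) : S.SmS X :=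
  fun ih => sm_of_one h.center_bot hi (h.m0 ih hk)

/-- **the row, outer automorphism group of order at most two** -/
theorem Lg.sm_two [Finite X] [IsSimpleGroup X] (h : Lg E z π) (ha : Au E z)
    (hi : (MulAut.conj : X →* MulAut X).range.index = 1 ∨ (MulAut.conj : X →* MulAut X).range.index = 2)
    (hk : k0 X = 2 * k0 L)
    (hf : ∀ (α : MulAut X) (β : MulAut L), α ∉ (MulAut.conj : X →* MulAut X).range →
      β ∉ (MulAut.conj : L →* MulAut L).range → Ind π α β → f0 α = 2 * f0 β) : S.SmS X := fun ih =>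
  hi.elim (fun hi => h.sm_one hi hk ih) fun hi =>
    sm_of_two h.center_bot hi ih (h.m0 ih hk) (h.m0_aut h.center_bot ha hi ih hf)

end Cfsg.Agent.MK.S8
end

-- part: MK/S5/Gen
section
set_option linter.all false
open scoped Cfsg.Agent.FastGrp

/-!
# MK, small rows: general lemmas (helper55)
-/

set_option autoImplicit false
set_option maxHeartbeats 400000

namespace Cfsg.Agent.MK.S5

open Subgroup Cfsg.Agent.MK.T

variable {G : Type} [Group G]

/-- a Sylow subgroup of a subgroup of odd index -/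
theorem exists_sylow_map [Finite G] {C : Subgroup G} (hC : Odd C.index) (P : Sylow 2 C) :
    ∃ Q : Sylow 2 G, (Q : Subgroup G) = (P : Subgroup C).map C.subtype := by
  have := two_prime
  have h1 : Nat.card ((P : Subgroup C).map C.subtype) = 2 ^ (Nat.card G).factorization 2 := by
    rw [card_map_of_injective (subtype_injective _), P.card_eq_multiplicity, ← card_mul_index C,
      Nat.factorization_mul Nat.card_pos.ne' C.index_ne_zero_of_finite, Finsupp.add_apply,
      Nat.factorization_eq_zero_of_not_dvd hC.not_two_dvd_nat, add_zero]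
  exact ⟨Sylow.ofCard _ h1, rfl⟩

/-- a `2`-subgroup of a subgroup of odd index -/
theorem exists_sylow_between [Finite G] {C : Subgroup G} (hC : Odd C.index) {H : Subgroup C} (hH : IsPGroup 2 H) :
    ∃ Q : Sylow 2 G, (Q : Subgroup G) ≤ C ∧ ∀ x ∈ H, (x : G) ∈ (Q : Subgroup G) := by
  have := two_prime
  obtain ⟨P, hP⟩ := hH.exists_le_sylow
  obtain ⟨Q, hQ⟩ := exists_sylow_map hC P
  refine ⟨Q, by rw [hQ]; exact map_subtype_le _, fun x hx => ?_⟩
  rw [hQ]
  exact ⟨x, hP hx, rfl⟩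

theorem a2_odd_index [Finite G] {C : Subgroup G} (hC : Odd C.index) : a2 G = a2 C := by
  obtain ⟨Q, hQ⟩ := exists_sylow_map hC (default : Sylow 2 C)
  rw [← ab_sylow Q, hQ]
  exact (ab_congr (((default : Sylow 2 C) : Subgroup C).equivMapOfInjective _ (subtype_injective _))).symm

/-- commuting involutions generate a `2`-group -/
theorem isPGroup_closure {s : Set G} (h1 : ∀ x ∈ s, x * x = 1) (h2 : ∀ x ∈ s, ∀ y ∈ s, x * y = y * x) :
    IsPGroup 2 (closure s) := by
  have hc : ∀ x ∈ closure s, ∀ y ∈ closure s, x * y = y * x := fun x hx y hy =>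
    closure_induction₂ (p := fun x y _ _ => x * y = y * x) (fun x y hx hy => h2 x hx y hy) (fun _ _ => by simp) (fun _ _ => by simp)
      (fun a b c _ _ _ h3 h4 => by rw [mul_assoc, h4, ← mul_assoc, h3, mul_assoc])
      (fun a b c _ _ _ h3 h4 => by rw [← mul_assoc, h3, mul_assoc, h4, mul_assoc])
      (fun a b _ _ h3 => (Commute.inv_left (a := a) (b := b) h3).eq)
      (fun a b _ _ h3 => (Commute.inv_right (a := a) (b := b) h3).eq) hx hy
  have hs : ∀ x ∈ closure s, x * x = 1 := fun x hx =>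
    closure_induction (p := fun x _ => x * x = 1) h1 (by simp)
      (fun a b ha hb h3 h4 => by rw [mul_assoc, ← mul_assoc b, ← hc a ha b hb, mul_assoc, h4, mul_one, h3])
      (fun a _ h3 => by rw [← mul_inv_rev, h3, inv_one]) hx
  exact fun x => ⟨1, Subtype.ext (by simpa [pow_two] using hs x x.2)⟩

theorem center_eq_bot [IsSimpleGroup G] (h : ∃ a b : G, a * b ≠ b * a) : center G = ⊥ := by
  rcases (inferInstance : (center G).Normal).eq_bot_or_eq_top with h1 | h1
  · exact h1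
  · obtain ⟨a, b, hab⟩ := h
    exact absurd (mem_center_iff.1 (h1 ▸ mem_top b) a) hab

theorem index_one (h : ∀ α : MulAut G, ∃ k, α = MulAut.conj k) : (MulAut.conj : G →* MulAut G).range.index = 1 :=
  index_eq_one.2 (eq_top_iff.2 fun α _ => (h α).imp fun _ hk => hk.symm)

end Cfsg.Agent.MK.S5
end

-- part: MK/S3/Mono
section
prune_inst 0x2089100000000000000000000000000014010000
set_option linter.all false
open scoped Cfsg.Agent.FastGrp

/-!
# MK, monomial `2`-subgroups of `Co0` from a polycyclic certificate (helper46)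

* `mono (C, P)` : the sign change on the code word `C` after the permutation `P`;
* `ab_of_cert` : the order and the order of the commutator factor group of the group of a certificate.
-/

set_option autoImplicit false

namespace Cfsg.Agent.MK.S3

open Cfsg Subgroup Cfsg.Agent.MK.T Cfsg.Agent.MK.S.Pc Cfsg.Agent.SporadicA.GolayBase Cfsg.Agent.SporadicA.GolayPerm
  Cfsg.Agent.SporadicA.Co0Basic

/-- a Sylow subgroup given by an embedding -/
theorem a2_of_emb {G W : Type} [Group G] [Finite G] [Group W] (j : W →* G) (hj : Function.Injective j) {n k : ℕ}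
    (hc : Nat.card W = 2 ^ n) (hk : Odd k) (hG : Nat.card G = 2 ^ n * k) : a2 G = ab W := by
  have e := MonoidHom.ofInjective hj
  rw [S5.a2_of_sub (MonoidHom.id G) Function.injective_id j.range (fun x _ => ⟨x, rfl⟩)
    ((Nat.card_congr e.toEquiv).symm.trans hc) hk hG]
  exact (ab_congr e).symm

/-- the vectors of the standard frame -/
def fr (c : ℕ) : leechLattice := if c % 2 = 0 then e8 (pt (c / 2)) else -e8 (pt (c / 2))

theorem fr_inj {c d : ℕ} (hc : c < 48) (hd : d < 48) (h : fr c = fr d) : c = d := by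
  have h1 := congrArg (fun u : leechLattice => (u : GolayPt → ℤ) (pt (c / 2))) h
  have h2 : pt (c / 2) = pt (d / 2) → c / 2 = d / 2 := fun e => by
    rw [← idx_pt (i := c / 2) (by omega), e, idx_pt (by omega)]
  unfold fr at h1
  by_cases h3 : pt (c / 2) = pt (d / 2)
  · have h4 := h2 h3
    split_ifs at h1 <;> simp only [AddSubgroup.coe_neg, Pi.neg_apply, e8_apply, h3, if_true] at h1 <;> omega
  · split_ifs at h1 <;> simp only [AddSubgroup.coe_neg, Pi.neg_apply, e8_apply, h3, if_true, if_false] at h1 <;> omega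

/-- the data are those of a monomial element -/
def okM (x : ℕ × ℕ) : Bool := isCode x.1 && (isPerm x.2 && isAut x.2)

theorem okM_1 {x : ℕ × ℕ} (h : okM x = true) : word x.1 ∈ golayCode := by
  rw [← isCode_iff.1 (Bool.and_eq_true_iff.1 h).1]
  exact enc_mem _

theorem okM_2 {x : ℕ × ℕ} (h : okM x = true) : isPerm x.2 = true := (Bool.and_eq_true_iff.1 (Bool.and_eq_true_iff.1 h).2).1

theorem okM_3 {x : ℕ × ℕ} (h : okM x = true) : permOf x.2 (okM_2 h) ∈ M24 :=
  permOf_mem_M24 _ (Bool.and_eq_true_iff.1 (Bool.and_eq_true_iff.1 h).2).2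

theorem exists_mono (x : ℕ × ℕ) : ∃ g : Co0, ∀ (h : okM x = true) (v : leechLattice) (p : GolayPt),
    (g.1 v : GolayPt → ℤ) (permOf x.2 (okM_2 h) p) =
      if x.1.testBit (papp x.2 (idx p)) then -(v : GolayPt → ℤ) p else (v : GolayPt → ℤ) p := by
  by_cases h : okM x = true
  · refine ⟨signCo0 (word x.1) (okM_1 h) * permCo0 (permOf x.2 (okM_2 h)) (okM_3 h), fun _ v p => ?_⟩
    have e : ∀ (a b : Co0) (v : leechLattice), (a * b).1 v = a.1 (b.1 v) := fun _ _ _ => rfl
    rw [e, signCo0_apply, permCo0_apply, Equiv.Perm.coe_inv, Equiv.symm_apply_apply, word_apply, idx_permOf]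
    cases x.1.testBit (papp x.2 (idx p)) <;> simp
  · exact ⟨1, fun h' => absurd h' h⟩

/-- a monomial element -/
noncomputable def mono (x : ℕ × ℕ) : Co0 := Classical.choose (exists_mono x)

theorem mono_apply {x : ℕ × ℕ} (h : okM x = true) (v : leechLattice) (p : GolayPt) :
    ((mono x).1 v : GolayPt → ℤ) (permOf x.2 (okM_2 h) p) =
      if x.1.testBit (papp x.2 (idx p)) then -(v : GolayPt → ℤ) p else (v : GolayPt → ℤ) p :=
  Classical.choose_spec (exists_mono x) h v p

/-- the action on the frame -/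
def act (x : ℕ × ℕ) (c : ℕ) : ℕ := 2 * papp x.2 (c / 2) + (c + x.1 >>> papp x.2 (c / 2)) % 2

theorem mono_e8 {x : ℕ × ℕ} (h : okM x = true) {i : ℕ} (hi : i < 24) : (mono x).1 (e8 (pt i)) =
    if x.1.testBit (papp x.2 i) then -e8 (pt (papp x.2 i)) else e8 (pt (papp x.2 i)) := by
  have e : pt (papp x.2 i) = permOf x.2 (okM_2 h) (pt i) := by rw [permOf_apply, idx_pt hi]
  apply Subtype.ext
  funext q
  obtain ⟨p, rfl⟩ := (permOf x.2 (okM_2 h)).surjective q
  rw [mono_apply h, e]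
  by_cases hp : p = pt i
  · subst hp
    rw [idx_pt hi]
    split_ifs <;> simp [e8_apply]
  · split_ifs <;> simp [e8_apply, hp]

theorem mono_fr {x : ℕ × ℕ} (h : okM x = true) {c : ℕ} (hc : c < 48) :
    act x c < 48 ∧ (mono x).1 (fr c) = fr (act x c) := by
  have h1 := papp_lt (okM_2 h) (i := c / 2) (by omega)
  have h2 := ite_testBit x.1 (papp x.2 (c / 2))
  have h3 : act x c / 2 = papp x.2 (c / 2) := by unfold act; omega
  have h4 : act x c % 2 = (c + x.1 >>> papp x.2 (c / 2)) % 2 := by unfold act; omega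
  refine ⟨by unfold act; omega, ?_⟩
  unfold fr
  rw [h3, h4, apply_ite (mono x).1, SporadicA.Co0Basic.map_neg, mono_e8 h (by omega)]
  split_ifs at h2 ⊢ <;> first | rfl | omega | exact neg_neg _

/-- the identity -/
def idM : ℕ × ℕ := (0, 984818244535754528103549039458486304)

/-- the elements of a list -/
noncomputable def el (xs : List (ℕ × ℕ)) (a : ℕ) : Co0 := mono (xs.getD a idM)

theorem ok_getD {xs : List (ℕ × ℕ)} (h : xs.all okM = true) (a : ℕ) : okM (xs.getD a idM) = true := by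
  rw [List.getD_eq_getElem?_getD]
  cases e : xs[a]? with
  | none => decide +kernel
  | some x => exact List.all_eq_true.1 h x (List.mem_of_getElem? e)

/-- the action of a word -/
def evA (xs : List (ℕ × ℕ)) (w : List ℕ) (c : ℕ) : ℕ := w.foldr (fun a d => act (xs.getD a idM) d) c

theorem evA_spec {xs : List (ℕ × ℕ)} (h : xs.all okM = true) {c : ℕ} (hc : c < 48) :
    ∀ w, evA xs w c < 48 ∧ (ev (el xs) w).1 (fr c) = fr (evA xs w c)
  | [] => ⟨hc, rfl⟩
  | a :: w => by
    obtain ⟨h1, h2⟩ := evA_spec h hc w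
    obtain ⟨h3, h4⟩ := mono_fr (ok_getD h a) h1
    refine ⟨h3, ?_⟩
    rw [ev_cons]
    show (mono _).1 ((ev (el xs) w).1 (fr c)) = _
    rw [h2, h4]
    rfl

/-- two words have the same value -/
def eqA (xs : List (ℕ × ℕ)) (v w : List ℕ) : Bool :=
  (List.range 24).all fun i => Nat.beq (evA xs v (2 * i)) (evA xs w (2 * i))

theorem eqA_ok {xs : List (ℕ × ℕ)} (h : xs.all okM = true) (v w : List ℕ) (e : eqA xs v w = true) :
    ev (el xs) v = ev (el xs) w := ext_e8 fun p => by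
  have h1 := idx_lt p
  have h2 : fr (2 * idx p) = e8 p := by
    rw [fr, if_pos (by omega), show 2 * idx p / 2 = idx p by omega, pt_idx]
  rw [← h2, (evA_spec h (by omega) v).2, (evA_spec h (by omega) w).2,
    Nat.eq_of_beq_eq_true (List.all_eq_true.1 e _ (List.mem_range.2 h1))]

/-- the stabilizer of some vectors of the frame -/
def Sb (bs : List ℕ) : Subgroup Co0 where
  carrier := {g | ∀ b ∈ bs, g.1 (fr b) = fr b}
  one_mem' _ _ := rfl
  mul_mem' {g k} ha hb i hi := by
    show g.1 (k.1 _) = _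
    rw [hb i hi, ha i hi]
  inv_mem' {g} ha i hi := Equiv.Perm.inv_eq_iff_eq.2 (ha i hi).symm

/-- a chain of stabilizers -/
def chn (xs : List (ℕ × ℕ)) (n : ℕ) : List (ℕ × List (List ℕ)) → List ℕ → Bool
  | [], _ => true
  | v :: lv, bs => Nat.blt v.1 48 && (v.2.all fun w => inR 0 n w && bs.all fun b => Nat.beq (evA xs w b) b) &&
      decide (v.2.map fun w => evA xs w v.1).Nodup && chn xs n lv (v.1 :: bs)

theorem chn_spec [Finite Co0] {xs : List (ℕ × ℕ)} (h : xs.all okM = true) {n : ℕ} :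
    ∀ (lv : List (ℕ × List (List ℕ))) (bs : List ℕ), chn xs n lv bs = true → (∀ b ∈ bs, b < 48) →
      (lv.map fun v => v.2.length).prod ≤ Nat.card (V (el xs) n 0 ⊓ Sb bs : Subgroup Co0)
  | [], _, _, _ => Nat.card_pos
  | v :: lv, bs, hc, hb => by
    classical
    simp only [chn, Bool.and_eq_true, List.all_eq_true, decide_eq_true_eq, Nat.blt_eq] at hc
    obtain ⟨⟨⟨h1, h2⟩, h3⟩, h4⟩ := hc
    have h5 := chn_spec h lv _ h4 (List.forall_mem_cons.2 ⟨h1, hb⟩)
    have h7 : V (el xs) n 0 ⊓ Sb (v.1 :: bs) ≤ V (el xs) n 0 ⊓ Sb bs :=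
      inf_le_inf_left _ fun g hg b hb => hg b (List.mem_cons_of_mem _ hb)
    generalize hB : V (el xs) n 0 ⊓ Sb bs = B at h7
    have hf : ∀ w ∈ v.2, ev (el xs) w ∈ B := fun w hw => hB ▸ ⟨inR_mem (h2 w hw).1, fun b hb' => by
      rw [(evA_spec h (hb b hb') w).2, Nat.eq_of_beq_eq_true ((h2 w hw).2 b hb')]⟩
    have h6 : v.2.length ≤ ((V (el xs) n 0 ⊓ Sb (v.1 :: bs)).subgroupOf B).index := by
      have := Fintype.ofFinite (B ⧸ (V (el xs) n 0 ⊓ Sb (v.1 :: bs)).subgroupOf B)
      rw [Subgroup.index, Nat.card_eq_fintype_card, ← List.length_attach, ← List.length_map fun w : {w // w ∈ v.2} =>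
        (QuotientGroup.mk ⟨_, hf w.1 w.2⟩ : B ⧸ (V (el xs) n 0 ⊓ Sb (v.1 :: bs)).subgroupOf B)]
      refine List.Nodup.length_le_card (List.Nodup.map_on (fun w _ w' _ e => ?_)
        (List.nodup_attach.2 (List.Nodup.of_map _ h3)))
      have h8 : ((ev (el xs) w.1).1⁻¹ ((ev (el xs) w'.1).1 (fr v.1))) = fr v.1 :=
        (QuotientGroup.eq.1 e).2 v.1 List.mem_cons_self
      rw [Equiv.Perm.inv_eq_iff_eq, (evA_spec h h1 _).2, (evA_spec h h1 _).2] at h8
      exact Subtype.ext (List.inj_on_of_nodup_map h3 w.2 w'.2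
        (fr_inj (evA_spec h h1 _).1 (evA_spec h h1 _).1 h8).symm)
    rw [← card_mul_index ((V (el xs) n 0 ⊓ Sb (v.1 :: bs)).subgroupOf B),
      Nat.card_congr (subgroupOfEquivOfLe h7).toEquiv, List.map_cons, List.prod_cons, mul_comm]
    exact Nat.mul_le_mul h5 h6

/-- the rest of the check -/
def endB (xs : List (ℕ × ℕ)) (n m : ℕ) (c : Cert) (lv : List (ℕ × List (List ℕ))) : Bool :=
  xs.all okM && Nat.ble m n && ((List.range n).all fun a => c.gw.getD a [] == [a]) && chn xs n lv [] &&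
    Nat.ble (2 ^ n) (lv.map fun v => v.2.length).prod

/-- **the group of a certificate** -/
theorem ab_of_cert [Finite Co0] {xs : List (ℕ × ℕ)} {n m : ℕ} {c : Cert} {lv : List (ℕ × List (List ℕ))}
    (hc : ∀ i < n, chk1 (eqA xs) n m c i = true) (hl : endB xs n m c lv = true) :
    Nat.card (V (el xs) n 0) = 2 ^ n ∧ ab (V (el xs) n 0) = 2 ^ m := by
  simp only [endB, Bool.and_eq_true, Nat.ble_eq] at hl
  obtain ⟨⟨⟨⟨h1, h2⟩, h3⟩, h4⟩, h5⟩ := hl
  have h6 := pc_of_chk (eqA_ok h1) h2 hc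
  have h7 : ∀ a < n, c.el (el xs) a = el xs a := fun a ha => by
    rw [Cert.el, beq_iff_eq.1 (List.all_eq_true.1 h3 a (List.mem_range.2 ha)), ev_cons, ev_nil, mul_one]
  have h8 : V (c.el (el xs)) n 0 = V (el xs) n 0 :=
    le_antisymm (V_le fun i h9 hi => h7 i hi ▸ mem_V h9 hi) (V_le fun i h9 hi => h7 i hi ▸ mem_V h9 hi)
  have h9 : 2 ^ n ≤ Nat.card (V (c.el (el xs)) n 0) := by
    rw [h8]
    exact (h5.trans (chn_spec h1 lv [] h4 fun _ hb => absurd hb List.not_mem_nil)).trans (card_le_of_le inf_le_left)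
  rw [← h8]
  exact ⟨h6.card_eq h9 (Nat.zero_le n), h6.index h9⟩

/-- the vector of a list -/
def vec (u : List ℤ) (p : GolayPt) : ℤ := u.getD (idx p) 0

/-- the image of a vector -/
def mapB (u w : List ℤ) (x : ℕ × ℕ) : Bool :=
  (List.range 24).all fun i => w.getD (papp x.2 i) 0 == if x.1.testBit (papp x.2 i) then -u.getD i 0 else u.getD i 0

theorem mapB_ok {u w : List ℤ} {x : ℕ × ℕ} (h : okM x = true) (e : mapB u w x = true) {a b : leechLattice}
    (ha : (a : GolayPt → ℤ) = vec u) (hb : (b : GolayPt → ℤ) = vec w) : (mono x).1 a = b := by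
  apply Subtype.ext
  funext q
  obtain ⟨p, rfl⟩ := (permOf x.2 (okM_2 h)).surjective q
  rw [mono_apply h, ha, hb, vec, vec, idx_permOf]
  exact (beq_iff_eq.1 (List.all_eq_true.1 e _ (List.mem_range.2 (idx_lt p)))).symm

theorem V_le_of {xs : List (ℕ × ℕ)} {H : Subgroup Co0} (h : ∀ x ∈ xs, mono x ∈ H) : V (el xs) xs.length 0 ≤ H :=
  V_le fun i _ hi => by
    rw [el, List.getD_eq_getElem _ _ hi]
    exact h _ (List.getElem_mem hi)

end Cfsg.Agent.MK.S3

private theorem dce_a9e74956808b : _root_.True := by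
  try have : _root_.True := by simp only [_root_.Cfsg.Agent.MK.S3.vec.eq_1]
  try have : _root_.True := by simp only [_root_.Cfsg.Agent.MK.S3.chn.eq_def]
  try have : _root_.True := by simp only [_root_.Cfsg.Agent.MK.S.Pc.Cert.el.eq_1]
  try have : _root_.True := by simp only [_root_.Cfsg.Agent.MK.S3.fr.eq_1]
  try have : _root_.True := by simp only [_root_.Cfsg.Agent.MK.S3.el.eq_1]
  try have : _root_.True := by simp only [_root_.Cfsg.Agent.MK.S3.chn.eq_1]
  try have : _root_.True := by simp only [_root_.Cfsg.Agent.MK.S3.chn.eq_2]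
  try have : _root_.True := by simp only [_root_.Cfsg.Agent.MK.S3.endB.eq_1]
  exact _root_.True.intro
end

-- part: MK/S3/Dat
section
prune_inst 0x2089100000000000000000000000000014010000
set_option linter.all false

/-!
# MK, certificates for the Sylow `2`-subgroups of `Co0`, `Co2`, `McL`, `Co3`, `McL : 2` (helper46; generated)
-/

set_option autoImplicit false
set_option maxRecDepth 100000

namespace Cfsg.Agent.MK.S3

open Cfsg Subgroup Cfsg.Agent.MK.T Cfsg.Agent.MK.S.Pc

/-- generators -/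
def xs0 : List (ℕ × ℕ) :=
  [(15543624, 714492537887912450346816075997841440),
   (12184187, 594984655461829171842426181225874161),
   (12171271, 971592882964418941354553515258775584),
   (11287691, 11291325422105454740853277770976823),
   (1923308, 593969939523970931426994680622515269),
   (10916112, 983548720921252936276249910206105632),
   (0, 732426436577832575389428709140304928),
   (11921484, 984818244535754528103549039458486304),
   (15520991, 234128196622829354333236483683534275),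
   (11463048, 732588211819866450332372525890606081),
   (7770270, 981818691054096003685363657089320992),
   (2141072, 981818691054096003685363657089320992),
   (12153634, 976448692869377735270425038196672544),
   (16756099, 968708902336673183175954409307867168),
   (15933395, 984818244535754528103549039458486304),
   (7641639, 984818244535754528103549039458486304),
   (11776356, 984818244535754528103549039458486304),
   (15970228, 984818244535754528103549039458486304),
   (5350928, 984818244535754528103549039458486304),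
   (15945135, 984818244535754528103549039458486304),
   (832080, 984818244535754528103549039458486304),
   (8241104, 984818244535754528103549039458486304)]

/-- relations -/
def c0 : Cert where
  gw := [[0], [1], [2], [3], [4], [5], [6], [7], [8], [9], [10], [11], [12], [13], [14], [15], [16], [17], [18], [19],
      [20], [21]]
  sq := [[5, 10, 12, 16, 18, 21], [7, 8, 10, 14, 15, 19, 21], [14, 15, 16, 20, 21], [10, 11, 13, 15, 17, 20], [13, 14,
      16, 17, 19], [16, 17, 18, 21], [], [], [17], [20], [18, 21], [], [21], [], [], [], [], [], [], [], [], []]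
  cm := [[[], [5, 6, 7, 10, 12, 15, 16, 17, 18, 19, 20, 21], [5, 13, 14, 16, 17, 20, 21], [9, 10, 15, 17, 20, 21], [5,
      10, 12, 13, 15, 20, 21], [14, 15, 17, 18, 21], [10, 11, 12, 13, 14, 15, 16, 18, 19, 20, 21], [10, 12, 13, 14,
      15, 16, 19, 21], [9, 10, 11, 13, 16, 17, 18, 20], [15, 16, 17, 19, 21], [13, 14, 15, 18, 19, 20, 21], [13, 15,
      16], [13, 17, 18, 19, 21], [18, 20, 21], [16, 17, 20], [20], [18, 20], [18, 21], [20], [21], [21], []],
    [[], [], [5, 10, 11, 13, 16, 18, 19, 20], [6, 8, 10, 11, 12, 13, 15, 16, 18], [5, 6, 7, 8, 9, 10, 11, 16, 17, 18],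
        [11, 13, 14, 15, 16, 17, 19, 20, 21], [9, 11, 14, 17, 19, 20], [11, 12, 13, 14, 16, 18, 19, 21], [11, 12, 13,
        16, 18, 19, 20, 21], [18], [14, 18, 20], [18], [18], [17, 18, 19, 21], [17, 19], [17, 18, 20, 21], [18, 19,
        20], [19, 21], [20], [], [], []],
    [[], [], [], [10, 11, 13, 14, 16, 17, 18, 21], [10, 11, 14, 15, 16, 18, 19, 20], [18, 21], [11, 13, 14, 17, 18,
        20], [14, 15, 16, 18, 21], [11, 13, 14, 16, 17, 19, 20], [13, 14, 16, 18], [16, 17, 20], [18], [14, 15, 16,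
        18, 21], [16, 17, 18, 21], [16, 17, 21], [16, 17, 18, 20], [18, 20], [18, 20], [21], [21], [21], []],
    [[], [], [], [], [13, 15, 17, 19, 21], [13], [9, 10, 11, 12, 13, 16, 17, 18, 19], [10, 11, 18, 19], [9, 10, 11,
        12, 15, 16, 17, 21], [13, 14, 15, 16, 17, 18, 21], [13, 15, 16, 20], [13, 15, 16, 18, 20, 21], [13, 14, 15,
        17], [16, 17, 18, 21], [20], [16, 17, 19], [19], [19, 21], [21], [], [], []],
    [[], [], [], [], [], [15, 16, 17, 18, 19, 20, 21], [9, 14, 17, 18, 19], [10, 11, 14, 15, 17], [9, 10, 11, 13, 14,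
        17, 19, 20], [16, 17, 18, 20, 21], [13, 14, 16, 17, 20, 21], [13, 14], [13, 14, 15, 21], [16, 17, 19, 20, 21],
        [16, 17, 19, 20], [20, 21], [18, 19, 20], [18, 19, 20], [], [21], [21], []],
    [[], [], [], [], [], [], [13, 14, 18, 21], [14, 15, 16, 18], [14, 15, 18, 21], [18, 20], [16, 17, 20, 21], [18],
        [18, 20], [], [20], [], [20, 21], [20], [21], [], [], []],
    [[], [], [], [], [], [], [], [17, 20], [17, 18, 20, 21], [], [17, 21], [], [17, 20], [], [], [18, 21], [20, 21],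
        [], [], [], [], []],
    [[], [], [], [], [], [], [], [], [18, 19, 21], [17, 18, 21], [18], [18], [21], [18, 21], [], [], [], [], [], [],
        [], []],
    [[], [], [], [], [], [], [], [], [], [17, 19, 20, 21], [17, 18, 19, 20], [20, 21], [18, 21], [18, 19], [19, 20,
        21], [19, 21], [20, 21], [], [], [], [], []],
    [[], [], [], [], [], [], [], [], [], [], [18, 19, 20], [20], [19], [20], [20], [], [21], [], [], [], [], []],
    [[], [], [], [], [], [], [], [], [], [], [], [18, 21], [18, 20, 21], [20, 21], [20], [20], [21], [], [], [], [],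
        []],
    [[], [], [], [], [], [], [], [], [], [], [], [], [20, 21], [20], [20], [20], [21], [], [], [], [], []],
    [[], [], [], [], [], [], [], [], [], [], [], [], [], [], [20], [20, 21], [21], [], [], [], [], []],
    [[], [], [], [], [], [], [], [], [], [], [], [], [], [], [], [21], [], [], [], [], [], []],
    [[], [], [], [], [], [], [], [], [], [], [], [], [], [], [], [], [], [], [], [], [], []],
    [[], [], [], [], [], [], [], [], [], [], [], [], [], [], [], [], [], [], [], [], [], []],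
    [[], [], [], [], [], [], [], [], [], [], [], [], [], [], [], [], [], [], [], [], [], []],
    [[], [], [], [], [], [], [], [], [], [], [], [], [], [], [], [], [], [], [], [], [], []],
    [[], [], [], [], [], [], [], [], [], [], [], [], [], [], [], [], [], [], [], [], [], []],
    [[], [], [], [], [], [], [], [], [], [], [], [], [], [], [], [], [], [], [], [], [], []],
    [[], [], [], [], [], [], [], [], [], [], [], [], [], [], [], [], [], [], [], [], [], []],
    [[], [], [], [], [], [], [], [], [], [], [], [], [], [], [], [], [], [], [], [], [], []]]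
  dv := [([], [], []),
    ([], [], []),
    ([], [], []),
    ([], [], []),
    ([], [], []),
    ([1, 2, 3, 5, 6, 7, 10, 11, 14, 15, 16, 20, 21], [2, 6, 7, 11, 14, 15, 16, 19, 20, 21], []),
    ([1, 2, 4, 6, 12, 14, 16, 17, 18, 19, 21], [0, 1, 2, 3, 5, 8, 12, 16, 19, 21], []),
    ([2, 3, 4, 6, 8, 9, 10, 12, 14, 15, 18, 19, 20, 21], [1, 2, 3, 6, 8, 10, 12, 13, 14, 15, 16, 17, 18, 19, 20], []),
    ([0, 2, 4, 8, 9, 11, 12, 18, 20, 21], [0, 1, 3, 4, 6, 9, 11, 13, 15, 16, 17, 18, 20], []),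
    ([1, 2, 5, 6, 10, 13, 14, 16, 18, 19, 20, 21], [5, 6, 7, 8, 9, 10, 11, 13, 14, 16, 17, 18, 21], []),
    ([0, 1, 7, 8, 9, 10, 11, 12, 13, 14, 16, 17, 19, 20, 21], [5, 6, 7, 8, 9, 20, 21], []),
    ([0, 1, 2, 3, 5, 6, 8, 12, 13, 14, 16, 18, 19, 21], [5, 8, 9, 11, 12, 15, 17, 21], []),
    ([1, 2, 7, 9, 10, 11, 16, 18, 20, 21], [8, 10, 11, 14, 20], []),
    ([0, 3, 4, 8, 13, 14, 15, 17, 21], [12, 16, 18, 20, 21], []),
    ([1, 2, 4, 6, 7, 17, 20], [10, 11, 14, 16, 18, 19, 20, 21], []),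
    ([0, 1, 2, 3, 4, 5, 6, 10, 14, 17, 19, 20, 21], [11, 12, 13, 14, 16, 17, 18, 20, 21], []),
    ([1, 2, 5, 6, 10, 13, 14, 16, 18, 19, 20, 21], [15, 20, 21], []),
    ([0, 1, 2, 3, 5, 7, 8, 9, 11, 15, 17, 18, 21], [13, 14, 15, 17, 21], []),
    ([0, 1, 4, 6, 8, 9, 10, 13, 14, 15, 18, 20], [16, 18, 20], []),
    ([1, 2, 5, 6, 10, 13, 14, 16, 18, 19, 20, 21], [16, 18, 20], []),
    ([1, 2, 5, 6, 7, 8, 11, 15, 18, 20], [18, 21], []),
    ([0, 2, 4, 8, 9, 12, 14, 16, 17, 20], [20, 21], [])]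

/-- the chain of stabilizers -/
def lv0 : List (ℕ × List (List ℕ)) :=
  [(6, [[], [0], [5, 10, 12, 16, 18, 21], [0, 5, 10, 12, 16, 18, 21], [0, 1, 6, 7, 9, 12, 13, 15, 16, 17, 18, 19, 20],
      [0, 5, 7, 8, 9, 11, 13, 14, 15, 18, 19, 20, 21], [0, 1, 6, 8, 10, 11, 14, 19], [1, 5, 6, 8, 12, 13, 14, 15, 18,
      19], [0, 1, 5, 6, 8, 12, 13, 14, 15, 18, 19], [1, 6, 8, 10, 11, 14, 19, 21], [1, 5, 10, 12, 16, 18, 21], [5, 7,
      8, 12, 14, 15, 16, 17, 19, 21], [0, 1, 5, 6, 7, 9, 10, 16, 17, 19, 20, 21], [0, 7, 8, 9, 10, 11, 12, 13, 14, 15,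
      16, 17, 19, 20], [1], [7, 8, 10, 14, 15, 19, 21]]),
   (8, [[], [21], [6, 7, 13, 16, 19], [6, 7, 13, 16, 19, 21], [6, 7, 11, 13, 16, 17, 18, 19, 20, 21], [11, 21], [11],
       [6, 7, 11, 13, 16, 19, 20], [0, 6, 7, 9, 12, 17, 19, 20], [5, 6, 7, 10, 11, 12, 13, 20, 21], [0, 5, 6, 7, 9,
       10, 16, 17, 18, 20], [0, 5, 9, 10, 11, 15, 16, 17, 19, 21], [0, 5, 9, 10, 13, 18, 19, 20], [0, 5, 6, 7, 9, 10,
       11, 13, 15, 17, 20, 21], [0, 5, 6, 7, 9, 10, 11, 13, 15, 17, 20], [0, 5, 9, 10, 13, 17, 18, 19, 20], [0, 5, 9,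
       10, 11, 15, 16, 19, 21], [0, 5, 6, 7, 9, 10, 16, 17, 18, 20, 21], [5, 10, 11, 12, 16, 18, 19, 20, 21], [5, 10,
       12, 16, 17, 18, 19, 20, 21], [5, 6, 7, 10, 12, 13, 18], [5, 6, 7, 10, 11, 12, 13, 17], [5, 10, 11, 12, 16, 17,
       18, 19], [5, 10, 12, 16, 18, 19], [5, 6, 7, 10, 12, 13, 17, 18, 20, 21], [0, 9, 11, 12, 13, 16, 17], [0, 6, 7,
       9, 12, 19, 21], [0, 9, 11, 12, 13, 16, 20, 21], [0, 6, 7, 9, 12, 13, 15, 16, 19], [0, 9, 11, 12, 15, 20], [0,
       6, 7, 9, 12, 13, 15, 16, 17, 19, 20, 21], [0, 9, 11, 12, 15, 17, 21]]),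
   (4, [[], [17, 18], [6, 7, 15, 19], [6, 7, 15, 17, 18, 19], [1, 3, 7, 8, 9, 10, 11, 12, 13, 14, 15], [1, 3, 7, 8, 9,
       12, 13, 19, 20], [0, 1, 2, 3, 5, 6, 8, 10, 13, 16, 18, 20], [0, 1, 2, 3, 5, 6, 8, 10, 13, 16, 17, 20]]),
   (12, [[], [18, 20]]),
   (14, [[], [20, 21], [0, 2, 6, 7, 9, 12, 16, 17, 18, 19], [0, 2, 6, 7, 9, 12, 16, 17, 18, 19, 20, 21]]),
   (0, [[], [10, 12, 13, 14, 16, 17, 18, 19]]),
   (16, [[], [16, 17, 21]]),
   (18, [[], [14, 15, 17, 18, 20]]),
   (2, [[], [10, 11, 15, 16, 18, 19, 21]]),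
   (22, [[], [10, 12, 13, 18, 19]]),
   (20, [[], [2, 3, 4, 6, 8, 9, 10, 12, 14, 15, 18, 19, 20, 21]]),
   (10, [[], [2, 3, 4, 6, 7, 8, 9, 13, 15, 17, 21]])]

/-- generators -/
def xs2 : List (ℕ × ℕ) :=
  [(4094736, 981966865742050796798122466532705344),
   (4568278, 984600170262332565272975762020961312),
   (1553300, 12472757220049209655179360455429687),
   (7028470, 984189450834467603338075246832979488),
   (5051380, 981758881220424975898170793032485920),
   (157028, 975346028712660580592452217730074656),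
   (8295236, 979570279376305410639310744576921120),
   (3147996, 970499966350631336865513127433832480),
   (416040, 984189450834467603338075246832979488),
   (5842956, 984818244535754528103549039458486304),
   (1584464, 975346028712660580592452217730074656),
   (5024896, 968708902336673183175954409307867168),
   (5538256, 984818244535754528103549039458486304),
   (1245726, 984818244535754528103549039458486304),
   (7079696, 984818244535754528103549039458486304),
   (6337856, 984818244535754528103549039458486304),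
   (5024896, 984818244535754528103549039458486304),
   (8241104, 984818244535754528103549039458486304)]

/-- relations -/
def c2 : Cert where
  gw := [[0], [1], [2], [3], [4], [5], [6], [7], [8], [9], [10], [11], [12], [13], [14], [15], [16], [17]]
  sq := [[7, 8, 9, 12, 15], [9, 12, 14, 16], [11, 13, 14, 15, 16, 17], [9, 12, 14, 17], [6, 8, 10, 12, 13], [], [11,
      12, 13, 14, 16, 17], [14, 15, 16], [13, 15, 17], [], [], [], [], [], [], [], [], []]
  cm := [[[], [5, 6, 10, 11, 13, 16, 17], [6, 8, 9, 10, 11, 12, 14, 15, 16], [5, 9, 15], [6, 7, 9, 10, 13, 15, 17],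
      [9, 11, 14, 16, 17], [11, 12, 13, 14], [10, 13, 15, 17], [10, 12, 16], [12, 13, 14, 15], [11, 12, 15, 16], [14],
      [14, 16], [15, 17], [15, 16, 17], [16, 17], [17], []],
    [[], [], [7, 12, 13, 15], [6, 7, 8, 9, 10, 12, 14, 15, 16, 17], [6, 8, 9, 10, 12, 13, 15, 17], [9, 11, 12, 15],
        [9, 11, 13, 17], [12, 15, 16], [9, 12, 13, 14, 15, 16, 17], [14, 15, 16, 17], [11, 14, 17], [15, 17], [14,
        15], [16, 17], [16, 17], [16, 17], [], []],
    [[], [], [], [6, 7, 8, 9, 12, 15, 17], [6, 8, 9, 10, 12, 13, 14, 15, 16], [12, 13, 16, 17], [10, 17], [14, 15,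
        16], [10, 12, 15, 16], [12, 15, 17], [15, 16], [15, 16, 17], [16, 17], [15, 16, 17], [], [17], [17], []],
    [[], [], [], [], [6, 7, 8, 13, 14, 16, 17], [12, 13, 16, 17], [9, 11, 13, 14, 16], [11, 17], [9, 12, 13, 14, 15],
        [15, 17], [12, 15, 16], [14, 15, 16, 17], [15, 16], [], [16, 17], [], [], []],
    [[], [], [], [], [], [9, 11, 14, 15, 16], [10, 11, 14, 15, 17], [12], [10, 12, 15], [12, 14, 15, 16, 17], [11, 12,
        15, 17], [14, 15], [14, 15], [15, 17], [16, 17], [16, 17], [17], []],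
    [[], [], [], [], [], [], [12, 13, 15, 16, 17], [12, 17], [13, 15, 17], [15, 16, 17], [], [15], [], [], [17], [],
        [], []],
    [[], [], [], [], [], [], [], [11, 12, 15, 17], [11, 12, 14, 15], [14, 15, 16, 17], [16], [15, 16, 17], [15, 16,
        17], [16, 17], [16, 17], [17], [], []],
    [[], [], [], [], [], [], [], [], [11, 12, 14, 15, 16, 17], [14, 15, 16, 17], [15, 16, 17], [16, 17], [17], [16,
        17], [17], [17], [], []],
    [[], [], [], [], [], [], [], [], [], [15, 17], [], [15, 16], [15, 16], [], [16, 17], [], [], []],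
    [[], [], [], [], [], [], [], [], [], [], [15, 16, 17], [16], [], [], [], [], [], []],
    [[], [], [], [], [], [], [], [], [], [], [], [17], [], [], [17], [], [], []],
    [[], [], [], [], [], [], [], [], [], [], [], [], [17], [], [], [], [], []],
    [[], [], [], [], [], [], [], [], [], [], [], [], [], [], [], [], [], []],
    [[], [], [], [], [], [], [], [], [], [], [], [], [], [], [], [], [], []],
    [[], [], [], [], [], [], [], [], [], [], [], [], [], [], [], [], [], []],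
    [[], [], [], [], [], [], [], [], [], [], [], [], [], [], [], [], [], []],
    [[], [], [], [], [], [], [], [], [], [], [], [], [], [], [], [], [], []],
    [[], [], [], [], [], [], [], [], [], [], [], [], [], [], [], [], [], []]]
  dv := [([], [], []),
    ([], [], []),
    ([], [], []),
    ([], [], []),
    ([], [], []),
    ([0, 1, 2, 5, 7, 9, 10, 12, 14], [0, 1, 2, 3, 5, 8, 10, 15], []),
    ([0, 2, 3, 7, 8, 12, 13, 16, 17], [0, 2, 3, 4, 6, 7, 8, 10, 15, 16], []),
    ([3, 4, 7, 8, 9, 16], [1, 5, 6, 8, 9, 14, 15, 17], []),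
    ([0, 2, 5, 6, 8, 9, 10, 11, 12, 13, 15, 16], [0, 1, 2, 3, 5, 8, 10, 15], []),
    ([3, 5, 6, 7, 13, 15], [5, 6, 7, 9, 10, 11, 12, 13, 15, 16], []),
    ([0, 1, 2, 3, 6, 7, 9, 12, 13, 14, 15, 16], [7, 9, 11, 12, 16], []),
    ([1, 5, 6, 8, 9, 11, 14, 15, 16, 17], [9, 10, 11, 12, 14, 15], []),
    ([2, 5, 6, 7, 10, 16], [9, 12, 14, 15, 16], []),
    ([0, 1, 4, 5, 7, 9, 11, 13, 14, 16, 17], [9, 11, 13, 15, 16], []),
    ([2, 3, 4, 5, 7, 8, 9, 13, 16, 17], [11, 12, 13, 15, 16, 17], []),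
    ([0, 4, 7, 9, 12, 14, 16, 17], [14], []),
    ([2, 3, 4, 5, 6, 10, 12, 16], [15, 16], []),
    ([0, 1, 6, 7, 10, 15, 16, 17], [16], [])]

/-- the chain of stabilizers -/
def lv2 : List (ℕ × List (List ℕ)) :=
  [(2, [[], [0], [7, 8, 9, 12, 15], [0, 7, 8, 9, 12, 15], [11, 12, 13, 14], [0, 11, 12, 13, 14], [7, 8, 9, 11, 13, 14,
      15, 17], [0, 7, 8, 9, 11, 13, 14, 15, 17]]),
   (8, [[], [17], [1, 11, 12, 13, 16], [1, 11, 12, 13, 16, 17], [5, 6, 7, 8, 10, 13, 14, 16, 17], [1, 12, 13, 15], [5,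
       6, 7, 8, 10, 11, 13, 14, 15, 17], [1, 5, 6, 7, 8, 10, 12, 14], [11, 16, 17], [1, 5, 6, 7, 8, 10, 11, 12, 14],
       [5, 6, 7, 8, 9, 10, 12, 13, 14, 15, 16], [1, 9, 13, 15, 16], [5, 6, 7, 8, 9, 10, 11, 12, 13, 14, 16], [1, 5, 6,
       7, 8, 9, 10, 14, 15, 17], [9, 11, 12, 16, 17], [1, 5, 6, 7, 8, 9, 10, 11, 14, 15, 16, 17], [1, 2, 5, 6, 7, 9,
       11, 13, 15], [1, 2, 5, 6, 7, 9, 11, 13, 14], [2, 8, 9, 10, 12, 13, 14, 15], [1, 2, 5, 6, 7, 9, 13, 14, 16], [1,
       2, 5, 6, 7, 9, 13, 15, 16], [2, 8, 9, 10, 11, 12, 13, 16, 17], [1, 2, 8, 9, 10, 17], [2, 8, 10, 11, 12, 13,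
       17], [2, 7, 8, 10, 12, 13, 16], [1, 2, 5, 6, 11, 12, 13, 15, 17], [1, 2, 5, 6, 11, 12, 13, 14, 17], [2, 7, 8,
       10, 11, 12, 13, 14, 15, 17], [1, 2, 5, 6, 12, 13, 14, 16], [1, 2, 5, 6, 12, 13, 15, 16], [2, 7, 8, 10, 12, 13,
       14, 15, 16], [2, 7, 8, 10, 11, 12, 13, 14, 15]]),
   (4, [[], [9, 12, 16, 17], [1, 5, 6, 8, 11, 12, 14, 15, 16], [1, 7, 12, 13, 15, 17]]),
   (14, [[], [16], [1, 2, 4, 5, 6, 7, 12, 13, 17], [1, 2, 4, 5, 8, 10, 13, 14, 15]]),
   (12, [[], [15]]),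
   (16, [[], [14, 15, 16, 17]]),
   (6, [[], [5, 6, 7, 8, 9, 13, 14, 15]]),
   (18, [[], [12, 17]]),
   (10, [[], [6, 7, 8, 10, 12, 13, 14, 15, 16]]),
   (20, [[], [3, 8, 16, 17]])]

/-- generators -/
def xsM : List (ℕ × ℕ) :=
  [(0, 980710656739011332955649480301057472),
   (0, 961400888620683879678849889663618496),
   (0, 967926363940294739940147074577908768),
   (0, 971592882964418941354553515258775584),
   (0, 967253231612594632296938810958713888),
   (0, 980224387687010295957922729495201824),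
   (0, 967812279691448225500382947153381408)]

/-- relations -/
def cM : Cert where
  gw := [[0], [1], [2], [3], [4], [5], [6]]
  sq := [[6], [3, 4], [], [], [], [], []]
  cm := [[[], [3, 4, 6], [4, 6], [6], [], [6], []],
    [[], [], [4, 5, 6], [5, 6], [5, 6], [6], []],
    [[], [], [], [5], [], [], []],
    [[], [], [], [], [6], [], []],
    [[], [], [], [], [], [], []],
    [[], [], [], [], [], [], []],
    [[], [], [], [], [], [], []]]
  dv := [([], [], []),
    ([], [], []),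
    ([], [], []),
    ([1, 2, 3, 4, 5], [0, 3, 4, 5], []),
    ([2, 4, 5], [0, 2, 4], []),
    ([0, 2, 3, 5, 6], [3, 4, 5], []),
    ([0, 2, 3, 5, 6], [5, 6], [])]

/-- the chain of stabilizers -/
def lvM : List (ℕ × List (List ℕ)) :=
  [(2, [[], [0]]),
   (8, [[], [6], [0, 1], [0, 1, 6], [3, 4, 6], [0, 1, 3, 4], [3, 4], [0, 1, 3, 4, 6], [2, 3, 4], [0, 1, 2, 5, 6], [2,
       3, 4, 6], [0, 1, 2, 5], [2, 5], [0, 1, 2, 3, 4], [0, 1, 3, 4, 5, 6], [2, 5, 6]]),
   (4, [[], [2], [2, 4, 5], [4, 5]])]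

/-- generators -/
def xs3 : List (ℕ × ℕ) :=
  [(4924673, 237031237397377521681229538941504977),
   (2392899, 735339576546733968313848542517067873),
   (2890176, 154004956544183571691267305880913440),
   (2854977, 236924422208829032071588973438360593),
   (12325377, 29217344650974509451812743540053559),
   (3704512, 984818244535754528103549039458486304),
   (0, 984612649355406094121217942427387040),
   (902657, 153963345543789787303735486722065582),
   (2702848, 984818244535754528103549039458486304),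
   (4038912, 984818244535754528103549039458486304)]

/-- relations -/
def c3 : Cert where
  gw := [[0], [1], [2], [3], [4], [5], [6], [7], [8], [9]]
  sq := [[4, 6, 8, 9], [4, 7, 8, 9], [6, 8, 9], [4, 5, 6, 7], [9], [], [], [9], [], []]
  cm := [[[], [5, 6, 8], [4, 7, 8], [5, 7], [7, 9], [8, 9], [7, 9], [8, 9], [], []],
    [[], [], [4, 5, 6, 7, 8], [5, 6, 7, 8], [8, 9], [8], [7, 9], [8], [9], []],
    [[], [], [], [4, 5, 7, 8, 9], [7, 8], [8], [9], [8], [9], []],
    [[], [], [], [], [7, 8, 9], [8], [7, 8], [8, 9], [], []],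
    [[], [], [], [], [], [9], [8], [9], [], []],
    [[], [], [], [], [], [], [9], [], [], []],
    [[], [], [], [], [], [], [], [9], [], []],
    [[], [], [], [], [], [], [], [], [], []],
    [[], [], [], [], [], [], [], [], [], []],
    [[], [], [], [], [], [], [], [], [], []]]
  dv := [([], [], []),
    ([], [], []),
    ([], [], []),
    ([], [], []),
    ([2, 3, 4, 5], [0, 1, 3, 6, 8, 9], []),
    ([0, 3, 4, 5], [2, 5, 9], []),
    ([1, 3, 5, 6], [2, 5, 9], []),
    ([1, 3, 6, 7, 9], [4, 5, 7], []),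
    ([2, 5, 9], [7], []),
    ([1, 3, 5, 6], [8, 9], [])]

/-- the chain of stabilizers -/
def lv3 : List (ℕ × List (List ℕ)) :=
  [(0, [[], [0], [4, 6, 8, 9], [0, 4, 6, 8, 9], [0, 1, 5, 6], [1, 4, 5, 7, 8], [0, 1, 4, 5, 7, 8], [1, 5, 6, 8]]),
   (16, [[], [8, 9], [0, 1, 5, 6, 7], [0, 1, 5, 6, 7, 8, 9], [6, 9], [0, 1, 5, 7, 8, 9], [5, 6, 9], [0, 1, 7, 8], [0,
       1, 2, 5, 6, 7], [2, 6, 8, 9], [0, 1, 2, 5, 7, 9], [2, 8, 9], [0, 1, 2, 7], [2, 5, 8], [0, 1, 2, 6, 7], [2, 5,
       6, 8, 9]]),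
   (12, [[], [5]]),
   (18, [[], [8]]),
   (14, [[], [0, 3, 4, 8]])]

/-- generators -/
def xsA : List (ℕ × ℕ) :=
  [(4830945, 735587983175154151975762742722235845),
   (3246601, 28903172792745629081175281359066179),
   (12325377, 29110984592773736638968905211528375),
   (1618953, 610645700039170093514306231153460291),
   (0, 984612649355406094121217942427387040),
   (3172097, 153963345543789787303735486722065582),
   (1351424, 984818244535754528103549039458486304),
   (4038912, 984818244535754528103549039458486304)]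

/-- relations -/
def cA : Cert where
  gw := [[0], [1], [2], [3], [4], [5], [6], [7]]
  sq := [[], [5], [6, 7], [7], [], [7], [], []]
  cm := [[[], [5], [3, 4, 7], [5, 7], [5, 6], [7], [], []],
    [[], [], [4, 5, 7], [5], [6], [], [7], []],
    [[], [], [], [], [6, 7], [6], [], []],
    [[], [], [], [], [6], [7], [], []],
    [[], [], [], [], [], [7], [], []],
    [[], [], [], [], [], [], [], []],
    [[], [], [], [], [], [], [], []],
    [[], [], [], [], [], [], [], []]]
  dv := [([], [], []),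
    ([], [], []),
    ([], [], []),
    ([1, 2, 3, 6], [0, 2, 3, 4, 7], []),
    ([2, 3, 4], [1, 3, 5, 6], []),
    ([1, 3, 5, 6], [3, 4, 6, 7], []),
    ([0, 2, 3, 7], [5, 6], []),
    ([1, 3, 5, 6], [6], [])]

/-- the chain of stabilizers -/
def lvA : List (ℕ × List (List ℕ)) :=
  [(0, [[], [0], [0, 1, 5], [0, 5, 7], [0, 1], [1], [5], [1, 5]]),
   (16, [[], [7], [1, 2], [4], [1, 2, 4, 7], [1, 2, 4], [4, 7], [1, 2, 7], [1, 3, 4, 5, 7], [1, 3, 4, 5, 6, 7], [2, 3,
       5, 7], [1, 3, 5, 6, 7], [1, 3, 5, 7], [2, 3, 4, 5, 6, 7], [2, 3, 4, 5, 6], [2, 3, 5]]),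
   (18, [[], [6, 7]])]

/-- the vector of norm 48 -/
def v3 : List ℤ := [-2, 2, 2, 2, 4, 2, 0, 0, 0, 0, 0, 0, 0, 0, 2, 0, 0, 2, 0, 0, 0, 0, 0, 2]

/-- the vector of norm 32 -/
def vA : List ℤ := [-2, 0, 0, 2, 2, 0, 2, 2, 0, 0, 0, 0, 0, 0, 2, 0, 0, 0, 0, 0, 0, 0, -2, 2]

private noncomputable def _root_.Cfsg.Agent.LsF.f91ef2a_0 : {f // @Cfsg.Agent.MK.S.Pc.inR = f} := ⟨_, by first | (delta Cfsg.Agent.MK.S.Pc.inR; rewrite [Cfsg.Agent.LsF.and_eq, Cfsg.Agent.LsF.all_eq]; exact rfl) | exact rfl⟩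
private noncomputable def _root_.Cfsg.Agent.LsF.f91ef2a_1 : {f // @Cfsg.Agent.MK.S.Pc.Cert.ex = f} := ⟨_, by first | (delta Cfsg.Agent.MK.S.Pc.Cert.ex; rewrite [Cfsg.Agent.LsF.flatMap_eq, Cfsg.Agent.LsF.getD_eq]; exact rfl) | exact rfl⟩
private noncomputable def _root_.Cfsg.Agent.LsF.f91ef2a_2 : {f // @Cfsg.Agent.MK.S.Pc.chk1 = f} := ⟨_, by first | (delta Cfsg.Agent.MK.S.Pc.chk1; rewrite [Cfsg.Agent.LsF.f91ef2a_0.2, Cfsg.Agent.LsF.f91ef2a_1.2, Cfsg.Agent.LsF.nadd_pat, Cfsg.Agent.LsF.nmax_pat, Cfsg.Agent.LsF.lappend_pat, Cfsg.Agent.LsF.and_eq, Cfsg.Agent.LsF.or_eq, Cfsg.Agent.LsF.all_eq, Cfsg.Agent.LsF.range_eq, Cfsg.Agent.LsF.getD_eq]; exact rfl) | exact rfl⟩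
private noncomputable def _root_.Cfsg.Agent.LsF.f91ef2a_3 : {f // @Cfsg.Agent.SporadicA.GolayPerm.papp = f} := ⟨_, by first | (delta Cfsg.Agent.SporadicA.GolayPerm.papp; rewrite [Cfsg.Agent.LsF.nmul_pat, Cfsg.Agent.LsF.nmod_pat, Cfsg.Agent.LsF.nshr_pat]; exact rfl) | exact rfl⟩
private noncomputable def _root_.Cfsg.Agent.LsF.f91ef2a_4 : {f // @Cfsg.Agent.MK.S3.act = f} := ⟨_, by first | (delta Cfsg.Agent.MK.S3.act; rewrite [Cfsg.Agent.LsF.f91ef2a_3.2, Cfsg.Agent.LsF.nadd_pat, Cfsg.Agent.LsF.nmul_pat, Cfsg.Agent.LsF.ndiv_pat, Cfsg.Agent.LsF.nmod_pat, Cfsg.Agent.LsF.nshr_pat]; exact rfl) | exact rfl⟩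
private noncomputable def _root_.Cfsg.Agent.LsF.f91ef2a_5 : {f // @Cfsg.Agent.MK.S3.evA = f} := ⟨_, by first | (delta Cfsg.Agent.MK.S3.evA; rewrite [Cfsg.Agent.LsF.f91ef2a_4.2, Cfsg.Agent.LsF.foldr_eq, Cfsg.Agent.LsF.getD_eq]; exact rfl) | exact rfl⟩
private noncomputable def _root_.Cfsg.Agent.LsF.f91ef2a_6 : {f // @Cfsg.Agent.MK.S3.eqA = f} := ⟨_, by first | (delta Cfsg.Agent.MK.S3.eqA; rewrite [Cfsg.Agent.LsF.f91ef2a_5.2, Cfsg.Agent.LsF.nmul_pat, Cfsg.Agent.LsF.all_eq, Cfsg.Agent.LsF.range_eq]; exact rfl) | exact rfl⟩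
theorem chk0 : ∀ i < 22, chk1 (eqA xs0) 22 5 c0 i = true := by (refine of_decide_eq_true ?_; (try (rewrite [Cfsg.Agent.LsF.f91ef2a_2.2, Cfsg.Agent.LsF.f91ef2a_6.2, Cfsg.Agent.LsF.dBoolEq_eq, Cfsg.Agent.LsF.dBallLT_eq, Cfsg.Agent.LsF.decide_eq])); decide +kernel)

private noncomputable def _root_.Cfsg.Agent.LsF.f91ef2a_7 : {f // @Cfsg.Agent.SporadicA.GolayBase.enc = f} := ⟨_, by first | (delta Cfsg.Agent.SporadicA.GolayBase.enc; rewrite [Cfsg.Agent.LsF.nmul_pat, Cfsg.Agent.LsF.nmod_pat, Cfsg.Agent.LsF.nxor_pat, Cfsg.Agent.LsF.nshr_pat]; exact rfl) | exact rfl⟩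
private noncomputable def _root_.Cfsg.Agent.LsF.f91ef2a_8 : {f // @Cfsg.Agent.SporadicA.GolayBase.isCode = f} := ⟨_, by first | (delta Cfsg.Agent.SporadicA.GolayBase.isCode; rewrite [Cfsg.Agent.LsF.f91ef2a_7.2]; exact rfl) | exact rfl⟩
private noncomputable def _root_.Cfsg.Agent.LsF.f91ef2a_9 : {f // @Cfsg.Agent.SporadicA.GolayPerm.pimg = f} := ⟨_, by first | (delta Cfsg.Agent.SporadicA.GolayPerm.pimg; rewrite [Cfsg.Agent.LsF.f91ef2a_3.2, Cfsg.Agent.LsF.nmod_pat, Cfsg.Agent.LsF.nxor_pat, Cfsg.Agent.LsF.nshl_pat, Cfsg.Agent.LsF.nshr_pat]; exact rfl) | exact rfl⟩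
private noncomputable def _root_.Cfsg.Agent.LsF.f91ef2a_10 : {f // @Cfsg.Agent.SporadicA.GolayPerm.isPerm = f} := ⟨_, by first | (delta Cfsg.Agent.SporadicA.GolayPerm.isPerm; rewrite [Cfsg.Agent.LsF.f91ef2a_9.2]; exact rfl) | exact rfl⟩
private noncomputable def _root_.Cfsg.Agent.LsF.f91ef2a_11 : {f // @Cfsg.Agent.SporadicA.GolayPerm.isAut = f} := ⟨_, by first | (delta Cfsg.Agent.SporadicA.GolayPerm.isAut; rewrite [Cfsg.Agent.LsF.f91ef2a_8.2, Cfsg.Agent.LsF.f91ef2a_9.2, Cfsg.Agent.LsF.and_eq]; exact rfl) | exact rfl⟩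
private noncomputable def _root_.Cfsg.Agent.LsF.f91ef2a_12 : {f // @Cfsg.Agent.MK.S3.okM = f} := ⟨_, by first | (delta Cfsg.Agent.MK.S3.okM; rewrite [Cfsg.Agent.LsF.f91ef2a_8.2, Cfsg.Agent.LsF.f91ef2a_10.2, Cfsg.Agent.LsF.f91ef2a_11.2, Cfsg.Agent.LsF.and_eq]; exact rfl) | exact rfl⟩
private noncomputable def _root_.Cfsg.Agent.LsF.f91ef2a_13 : {f // @Cfsg.Agent.MK.S3.chn = f} := ⟨_, by first | (delta Cfsg.Agent.MK.S3.chn List.brecOn List.brecOn.go Cfsg.Agent.MK.S3.chn._f; rewrite [Cfsg.Agent.NodupNat.dec_eq, Cfsg.Agent.LsF.f91ef2a_0.2, Cfsg.Agent.LsF.f91ef2a_5.2, Cfsg.Agent.LsF.and_eq, Cfsg.Agent.LsF.all_eq, Cfsg.Agent.LsF.map_eq, Cfsg.Agent.LsF.decide_eq]; (try delta Cfsg.Agent.MK.S3.chn.match_1); (try delta List.casesOn); first | dsimp -zeta only | exact rfl) | exact rfl⟩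
private noncomputable def _root_.Cfsg.Agent.LsF.f91ef2a_14 : {f // @Cfsg.Agent.MK.S3.endB = f} := ⟨_, by first | (delta Cfsg.Agent.MK.S3.endB; rewrite [Cfsg.Agent.LsF.f91ef2a_12.2, Cfsg.Agent.LsF.f91ef2a_13.2, Cfsg.Agent.LsF.npow_pat, Cfsg.Agent.LsF.instNBEq_pat, Cfsg.Agent.LsF.and_eq, Cfsg.Agent.LsF.all_eq, Cfsg.Agent.LsF.map_eq, Cfsg.Agent.LsF.range_eq, Cfsg.Agent.LsF.prod_eq, Cfsg.Agent.LsF.getD_eq, Cfsg.Agent.LsF.instBEq_eq, Cfsg.Agent.LsF.length_eq]; exact rfl) | exact rfl⟩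
theorem end0 : endB xs0 22 5 c0 lv0 = true := by ((try (rewrite [Cfsg.Agent.LsF.f91ef2a_14.2])); decide +kernel)

theorem ab0 [Finite Co0] : Nat.card (V (el xs0) 22 0) = 2 ^ 22 ∧ ab (V (el xs0) 22 0) = 2 ^ 5 :=
  ab_of_cert chk0 end0

theorem chk2 : ∀ i < 18, chk1 (eqA xs2) 18 5 c2 i = true := by (refine of_decide_eq_true ?_; (try (rewrite [Cfsg.Agent.LsF.f91ef2a_2.2, Cfsg.Agent.LsF.f91ef2a_6.2, Cfsg.Agent.LsF.dBoolEq_eq, Cfsg.Agent.LsF.dBallLT_eq, Cfsg.Agent.LsF.decide_eq])); decide +kernel)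

theorem end2 : endB xs2 18 5 c2 lv2 = true := by ((try (rewrite [Cfsg.Agent.LsF.f91ef2a_14.2])); decide +kernel)

theorem ab2 [Finite Co0] : Nat.card (V (el xs2) 18 0) = 2 ^ 18 ∧ ab (V (el xs2) 18 0) = 2 ^ 5 :=
  ab_of_cert chk2 end2

theorem chkM : ∀ i < 7, chk1 (eqA xsM) 7 3 cM i = true := by (refine of_decide_eq_true ?_; (try (rewrite [Cfsg.Agent.LsF.f91ef2a_2.2, Cfsg.Agent.LsF.f91ef2a_6.2, Cfsg.Agent.LsF.dBoolEq_eq, Cfsg.Agent.LsF.dBallLT_eq, Cfsg.Agent.LsF.decide_eq])); decide +kernel)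

theorem endM : endB xsM 7 3 cM lvM = true := by decide +kernel

theorem abM [Finite Co0] : Nat.card (V (el xsM) 7 0) = 2 ^ 7 ∧ ab (V (el xsM) 7 0) = 2 ^ 3 :=
  ab_of_cert chkM endM

theorem chk3 : ∀ i < 10, chk1 (eqA xs3) 10 4 c3 i = true := by (refine of_decide_eq_true ?_; (try (rewrite [Cfsg.Agent.LsF.f91ef2a_2.2, Cfsg.Agent.LsF.f91ef2a_6.2, Cfsg.Agent.LsF.dBoolEq_eq, Cfsg.Agent.LsF.dBallLT_eq, Cfsg.Agent.LsF.decide_eq])); decide +kernel)

theorem end3 : endB xs3 10 4 c3 lv3 = true := by decide +kernel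

theorem ab3 [Finite Co0] : Nat.card (V (el xs3) 10 0) = 2 ^ 10 ∧ ab (V (el xs3) 10 0) = 2 ^ 4 :=
  ab_of_cert chk3 end3

theorem chkA : ∀ i < 8, chk1 (eqA xsA) 8 3 cA i = true := by (refine of_decide_eq_true ?_; (try (rewrite [Cfsg.Agent.LsF.f91ef2a_2.2, Cfsg.Agent.LsF.f91ef2a_6.2, Cfsg.Agent.LsF.dBoolEq_eq, Cfsg.Agent.LsF.dBallLT_eq, Cfsg.Agent.LsF.decide_eq])); decide +kernel)

theorem endA : endB xsA 8 3 cA lvA = true := by decide +kernel

theorem abA [Finite Co0] : Nat.card (V (el xsA) 8 0) = 2 ^ 8 ∧ ab (V (el xsA) 8 0) = 2 ^ 3 :=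
  ab_of_cert chkA endA

end Cfsg.Agent.MK.S3
end

-- part: MK/S8/Bits
section
prune_inst 0x2089100000000000000000000000000014010000
set_option linter.all false
open scoped Cfsg.Agent.FastGrp

/-!
# MK, small rows: fixed vectors from bit matrices (helper54)

* `Crd n c` : coordinates `c : ℕ → V`; `lin I n m` : the image of `m` under the matrix with the rows `I k`;
* `uq_of_bits` : a certificate for `Uq`; `two_of_bits` : commuting involutions modulo `E`.
-/

set_option autoImplicit false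

namespace Cfsg.Agent.MK.S8

open Cfsg Subgroup Cfsg.Agent.Co2Type.Quad

/-- the image of `m` -/
def lin (I : ℕ → ℕ) (m n : ℕ) : ℕ := Nat.rec 0 (fun k a => (bif m.testBit k then I k else 0) ^^^ a) n

theorem lin_succ (I : ℕ → ℕ) (m n : ℕ) : lin I m (n + 1) = (bif m.testBit n then I n else 0) ^^^ lin I m n := rfl

theorem lin_two (m n : ℕ) : lin (2 ^ ·) m n = m % 2 ^ n := by
  induction n with
  | zero => exact (Nat.mod_one m).symm
  | succ n ih =>
    rw [lin_succ, ih]
    refine Nat.eq_of_testBit_eq fun j => ?_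
    rw [Nat.testBit_xor, Nat.testBit_mod_two_pow, Nat.testBit_mod_two_pow]
    rcases lt_trichotomy j n with h | rfl | h
    · cases m.testBit n <;> simp [h, h.trans (Nat.lt_succ_self n), Nat.testBit_two_pow_of_ne h.ne']
    · cases m.testBit j <;> simp
    · cases m.testBit n <;> simp [h.not_gt, h.not_ge, Nat.testBit_two_pow_of_ne h.ne]

/-- coordinates -/
structure Crd {V : Type} [AddCommGroup V] (n : ℕ) (c : ℕ → V) : Prop where
  xor : ∀ x y, c (x ^^^ y) = c x + c y
  mod : ∀ x, c (x % 2 ^ n) = c x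
  surj : Function.Surjective c

section

variable {V W : Type} [AddCommGroup V] [AddCommGroup W] {n : ℕ} {c : ℕ → V}

theorem Crd.zero (h : Crd n c) : c 0 = 0 := by simpa using h.xor 0 0

theorem Crd.ext (h : Crd n c) {f g : V →+ W} (hf : ∀ k < n, f (c (2 ^ k)) = g (c (2 ^ k))) (v : V) : f v = g v := by
  obtain ⟨m, rfl⟩ := h.surj v
  rw [← h.mod, ← lin_two]
  suffices ∀ j ≤ n, f (c (lin (2 ^ ·) m j)) = g (c (lin (2 ^ ·) m j)) from this n le_rfl
  intro j hj
  induction j with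
  | zero => rw [show lin (2 ^ ·) m 0 = 0 from rfl, h.zero, map_zero, map_zero]
  | succ j ih =>
    rw [lin_succ, h.xor, map_add, map_add, ih (Nat.le_of_succ_le hj)]
    cases m.testBit j
    · rw [cond_false, h.zero, map_zero, map_zero]
    · rw [cond_true, hf j hj]

theorem Crd.app (h : Crd n c) {f : V →+ V} {I : ℕ → ℕ} (hf : ∀ k < n, f (c (2 ^ k)) = c (I k)) (m : ℕ) :
    f (c m) = c (lin I m n) := by
  rw [← h.mod, ← lin_two]
  suffices ∀ j ≤ n, f (c (lin (2 ^ ·) m j)) = c (lin I m j) from this n le_rfl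
  intro j hj
  induction j with
  | zero => rw [show lin (2 ^ ·) m 0 = 0 from rfl, show lin I m 0 = 0 from rfl, h.zero, map_zero]
  | succ j ih =>
    rw [lin_succ, lin_succ, h.xor, h.xor, map_add, ih (Nat.le_of_succ_le hj)]
    cases m.testBit j
    · rw [cond_false, cond_false, h.zero, map_zero]
    · rw [cond_true, cond_true, hf j hj]

end

variable {G : Type} [Group G] {E S : Subgroup G} {z : G} {n r : ℕ} {I : ℕ → ℕ → ℕ}

/-- the sum of the commutators in the list -/
def cs (I : ℕ → ℕ → ℕ) (l : List (ℕ × ℕ)) : ℕ := l.foldr (fun p a => (I p.1 p.2 ^^^ 2 ^ p.2) ^^^ a) 0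

theorem uq_of_bits (h : Large E z) (hS : S ≤ centralizer ({z} : Set G)) {c : ℕ → h.V} (hc : Crd n c)
    {g : ℕ → centralizer ({z} : Set G)} (hg : ∀ i < r, (g i : G) ∈ S)
    (hI : ∀ i < r, ∀ k < n, h.act (g i) (c (2 ^ k)) = c (I i k)) (j₀ : ℕ) (cert : List (List (ℕ × ℕ)))
    (chk : ∀ j < n, j ≠ j₀ → cs I (cert.getD j []) % 2 ^ n = 2 ^ j ∧ ∀ p ∈ cert.getD j [], p.1 < r ∧ p.2 < n) :
    Uq E S z := by
  have h01 : ∀ a : ZMod 2, a + a = 0 := by decide
  have key : ∀ u, (∀ s : centralizer ({z} : Set G), (s : G) ∈ S → h.act s u = u) →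
      ∀ j < n, j ≠ j₀ → h.b u (c (2 ^ j)) = 0 := by
    intro u hu j hj hj'
    obtain ⟨h1, h2⟩ := chk j hj hj'
    rw [← h1, hc.mod]
    generalize cert.getD j [] = l at h2
    induction l with
    | nil => rw [show cs I [] = 0 from rfl, hc.zero, map_zero]
    | cons p l ih =>
      obtain ⟨h3, h4⟩ := h2 p List.mem_cons_self
      rw [show cs I (p :: l) = (I p.1 p.2 ^^^ 2 ^ p.2) ^^^ cs I l from rfl, hc.xor, hc.xor, map_add, map_add,
        ih fun q hq => h2 q (List.mem_cons_of_mem _ hq), ← hI _ h3 _ h4, add_zero]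
      nth_rw 1 [← hu _ (hg _ h3)]
      rw [h.b_act, h01]
  have zero : ∀ u, (∀ j < n, h.b u (c (2 ^ j)) = 0) → u = 0 := fun u hu =>
    h.b_nondeg (hc.ext (f := (h.b u).toAddMonoidHom) (g := 0) hu)
  refine uq_of_act h hS fun u w hu hw => ?_
  have h02 : ∀ a b : ZMod 2, a = 0 ∨ b = 0 ∨ a - b = 0 := by decide
  refine (h02 (h.b u (c (2 ^ j₀))) (h.b w (c (2 ^ j₀)))).imp (fun e => zero u fun j hj => ?_) (Or.imp
    (fun e => zero w fun j hj => ?_) fun e => sub_eq_zero.1 (zero _ fun j hj => ?_))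
  · exact (em (j = j₀)).elim (· ▸ e) (key u hu j hj)
  · exact (em (j = j₀)).elim (· ▸ e) (key w hw j hj)
  · rw [map_sub, LinearMap.sub_apply]
    exact (em (j = j₀)).elim (· ▸ e) fun e => by rw [key u hu j hj e, key w hw j hj e, sub_zero]

theorem two_of_bits [Finite G] (h : Large E z) {c : ℕ → h.V} (hc : Crd n c) {g : ℕ → centralizer ({z} : Set G)}
    (hI : ∀ i < r, ∀ k < n, h.act (g i) (c (2 ^ k)) = c (I i k))
    (chk : ∀ i < r, ∀ k < n, lin (I i) (I i k) n % 2 ^ n = 2 ^ k ∧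
      ∀ j < r, lin (I i) (I j k) n % 2 ^ n = lin (I j) (I i k) n % 2 ^ n) :
    ∃ D : Subgroup G, IsPGroup 2 D ∧ D ≤ centralizer ({z} : Set G) ∧ ∀ i < r, (g i : G) ∈ D := by
  have h1 : ∀ i < r, ∀ m, h.act (g i) (c m) = c (lin (I i) m n) := fun i hi =>
    hc.app (f := (h.act (g i)).toLinearMap.toAddMonoidHom) (hI i hi)
  have h2 := S5.isPGroup_closure (s := {a | ∃ i < r, a = h.act (g i)}) (by
    rintro _ ⟨i, hi, rfl⟩
    refine LinearEquiv.ext (hc.ext (f := (h.act (g i) * h.act (g i)).toLinearMap.toAddMonoidHom)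
      (g := AddMonoidHom.id _) fun k hk => ?_)
    show h.act (g i) (h.act (g i) _) = c _
    rw [hI i hi k hk, h1 i hi, ← hc.mod, (chk i hi k hk).1]) (by
    rintro _ ⟨i, hi, rfl⟩ _ ⟨j, hj, rfl⟩
    refine LinearEquiv.ext (hc.ext (f := (h.act (g i) * h.act (g j)).toLinearMap.toAddMonoidHom)
      (g := (h.act (g j) * h.act (g i)).toLinearMap.toAddMonoidHom) fun k hk => ?_)
    show h.act (g i) (h.act (g j) _) = h.act (g j) (h.act (g i) _)
    rw [hI i hi k hk, hI j hj k hk, h1 i hi, h1 j hj, ← hc.mod, (chk i hi k hk).2 j hj, hc.mod])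
  have h3 : IsPGroup 2 h.act.ker := fun x => by
    obtain ⟨k, hk⟩ := LargeExtra.Base.isPGroup h ⟨x, h.mem_of_act x x.2⟩
    exact ⟨k, Subtype.ext (Subtype.ext (congrArg Subtype.val hk :))⟩
  exact ⟨_, (h2.comap_of_ker_isPGroup _ h3).map (centralizer ({z} : Set G)).subtype, map_subtype_le _,
    fun i hi => ⟨g i, subset_closure ⟨i, hi, rfl⟩, rfl⟩⟩

end Cfsg.Agent.MK.S8
end

-- part: MK/H/Yk
section
prune_inst 0x2089100000000000000000000000000014010000
set_option linter.all false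
open scoped Cfsg.Agent.FastGrp

/-!
# MK, box H: the Yokonuma-Hecke step `stepY` (helper56)

* `la` : the length of an automorphism `conj n * θ`; `hl` : the length function on `G`;
* `yd_hat` : the Bruhat decomposition of `hat (Cj H ⊔ Θ)`;
* `exists_nofix` : a `2`-subgroup of `hat Θ` without fixed points on `PP c U`.
-/

set_option autoImplicit false
set_option maxHeartbeats 400000

namespace Cfsg.Agent.MK.H

open Cfsg Subgroup Cfsg.Agent.ODD

variable {X : Type} [Group X]

theorem mem_Cj_sup {Θ : Subgroup (MulAut X)} {K : Subgroup X} (hK : ∀ θ ∈ Θ, ∀ k ∈ K, θ k ∈ K) {α : MulAut X} :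
    α ∈ Cj K ⊔ Θ ↔ ∃ n ∈ K, ∃ θ ∈ Θ, α = MulAut.conj n * θ := by
  let S : Subgroup (MulAut X) :=
    { carrier := {α | ∃ n ∈ K, ∃ θ ∈ Θ, α = MulAut.conj n * θ}
      one_mem' := ⟨1, one_mem _, 1, one_mem _, by rw [map_one, one_mul]⟩
      mul_mem' := by
        rintro _ _ ⟨n, hn, θ, hθ, rfl⟩ ⟨m, hm, η, hη, rfl⟩
        refine ⟨n * θ m, mul_mem hn (hK θ hθ m hm), θ * η, mul_mem hθ hη, ?_⟩
        rw [map_mul, conj_map]
        group
      inv_mem' := by
        rintro _ ⟨n, hn, θ, hθ, rfl⟩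
        refine ⟨θ⁻¹ n⁻¹, hK _ (inv_mem hθ) _ (inv_mem hn), θ⁻¹, inv_mem hθ, ?_⟩
        rw [conj_map, map_inv]
        group }
  constructor
  · intro h
    refine (sup_le ?_ ?_ : Cj K ⊔ Θ ≤ S) h
    · rintro _ ⟨n, hn, rfl⟩
      exact ⟨n, hn, 1, one_mem _, (mul_one _).symm⟩
    · exact fun θ hθ => ⟨1, one_mem _, θ, hθ, by rw [map_one, one_mul]⟩
  · rintro ⟨n, hn, θ, hθ, rfl⟩
    exact mul_mem (mem_sup_left ⟨n, hn, rfl⟩) (mem_sup_right hθ)

open Classical in
/-- the length of an automorphism -/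
noncomputable def la (Θ : Subgroup (MulAut X)) (N : Subgroup X) (len : X → ℕ) (α : MulAut X) : ℕ :=
  if h : ∃ n ∈ N, ∃ θ ∈ Θ, α = MulAut.conj n * θ then len h.choose else 0

section comp

variable {Γ Θ : Subgroup (MulAut X)} {H U N : Subgroup X} {len : X → ℕ} (y : YX Γ Θ H U N len)
include y

theorem mem_N {α : MulAut X} : α ∈ Cj N ⊔ Θ ↔ ∃ n ∈ N, ∃ θ ∈ Θ, α = MulAut.conj n * θ :=
  mem_Cj_sup fun θ hθ n hn => (y.hN θ hθ n hn).1

theorem mem_H {α : MulAut X} : α ∈ Cj H ⊔ Θ ↔ ∃ n ∈ H, ∃ θ ∈ Θ, α = MulAut.conj n * θ :=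
  mem_Cj_sup fun θ hθ h hh => by
    obtain ⟨u, hu, n, hn, v, hv, rfl⟩ := y.yd.cover h hh
    rw [map_mul, map_mul]
    exact mul_mem (mul_mem (y.yd.uH (y.hU θ hθ u hu)) (y.yd.nH (y.hN θ hθ n hn).1)) (y.yd.uH (y.hU θ hθ v hv))

theorem of_conj_eq {a b : X} {θ η : MulAut X} (hθ : θ ∈ Θ) (hη : η ∈ Θ)
    (h : MulAut.conj a * θ = MulAut.conj b * η) : b⁻¹ * a ∈ N ∧ len (b⁻¹ * a) = 0 := by
  rw [← y.inn]
  have h1 : MulAut.conj (b⁻¹ * a) = η * θ⁻¹ := by
    rw [map_mul, map_inv, inv_mul_eq_iff_eq_mul, ← mul_assoc, ← h, mul_inv_cancel_right]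
  rw [h1]
  exact mul_mem hη (inv_mem hθ)

theorem la_mk {n : X} (hn : n ∈ N) {θ : MulAut X} (hθ : θ ∈ Θ) : la Θ N len (MulAut.conj n * θ) = len n := by
  have h : ∃ m ∈ N, ∃ η ∈ Θ, MulAut.conj n * θ = MulAut.conj m * η := ⟨n, hn, θ, hθ, rfl⟩
  rw [la, dif_pos h]
  obtain ⟨hm, η, hη, e⟩ := h.choose_spec
  obtain ⟨h1, h2⟩ := of_conj_eq y hθ hη e
  have h3 := (y.yd.zero _ h1 h2).2 n⁻¹ (inv_mem hn)
  rw [mul_inv_cancel_right, y.yd.inv _ hm, y.yd.inv _ hn] at h3
  exact h3

theorem la_theta {θ : MulAut X} (hθ : θ ∈ Θ) : la Θ N len θ = 0 := by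
  have h := la_mk y (one_mem N) hθ
  rwa [map_one, one_mul, y.yd.one] at h

theorem mem_of_la {α : MulAut X} (hα : α ∈ Cj N ⊔ Θ) (h : la Θ N len α = 0) : α ∈ Θ := by
  obtain ⟨n, hn, θ, hθ, rfl⟩ := (mem_N y).1 hα
  rw [la_mk y hn hθ] at h
  exact mul_mem ((y.inn n).2 ⟨hn, h⟩) hθ

theorem la_mul {n m : X} (hn : n ∈ N) (hm : m ∈ N) {θ η : MulAut X} (hθ : θ ∈ Θ) (hη : η ∈ Θ) :
    la Θ N len (MulAut.conj n * θ * (MulAut.conj m * η)) = len (n * θ m) := by
  rw [← la_mk y (mul_mem hn (y.hN θ hθ m hm).1) (mul_mem hθ hη), map_mul, conj_map]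
  congr 1
  group

theorem la_left {θ α : MulAut X} (hθ : θ ∈ Θ) (hα : α ∈ Cj N ⊔ Θ) : la Θ N len (θ * α) = la Θ N len α := by
  obtain ⟨n, hn, η, hη, rfl⟩ := (mem_N y).1 hα
  have h := la_mul y (one_mem N) hn hθ hη
  rw [map_one, one_mul, one_mul, (y.hN θ hθ n hn).2] at h
  rw [h, la_mk y hn hη]

theorem la_inv {α : MulAut X} (hα : α ∈ Cj N ⊔ Θ) : la Θ N len α⁻¹ = la Θ N len α := by
  obtain ⟨n, hn, η, hη, rfl⟩ := (mem_N y).1 hα
  have h := la_mk y (inv_mem hn) (one_mem Θ)
  rw [mul_one, map_inv, y.yd.inv _ hn] at h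
  rw [mul_inv_rev, la_left y (inv_mem hη) (inv_mem (mem_sup_left ⟨n, hn, rfl⟩)), h, la_mk y hn hη]

theorem eq_one_of_cen {u : X} (hu : u ∈ U) (hz : u ∈ center X) : u = 1 := by
  have h1 : u ∈ N := ((y.inn u).1 (by rw [conj_eq_one.2 hz]; exact one_mem _)).1
  exact (y.yd.uniq 1 (one_mem _) u h1 u hu 1 (one_mem _) (by rw [mul_one, mul_one])).symm

end comp

variable {Γ : Subgroup (MulAut X)} {G : Type} [Group G] {Z : Subgroup G} {ι : Type} [Fintype ι] (c : Conf Γ G Z ι)

/-- the length function on `G` -/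
noncomputable def hl (Θ : Subgroup (MulAut X)) (N : Subgroup X) (len : X → ℕ) (g : G) : ℕ :=
  ∑ i, la Θ N len (c.a g i)

/-- the shape of an element of length one -/
structure One (Θ : Subgroup (MulAut X)) (N : Subgroup X) (len : X → ℕ) (s : G) (j : ι) (σ : X) (θ : MulAut X) :
    Prop where
  mem : σ ∈ N
  one : len σ = 1
  th : θ ∈ Θ
  eq : c.a s j = MulAut.conj σ * θ
  ne : ∀ i, i ≠ j → c.a s i ∈ Θ

variable {Θ : Subgroup (MulAut X)} {H U N : Subgroup X} {len : X → ℕ} (y : YX Γ Θ H U N len)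
include y

theorem hl_eq_zero {g : G} (hg : g ∈ c.hat Θ) : hl c Θ N len g = 0 :=
  Finset.sum_eq_zero fun i _ => la_theta y (hg i)

theorem mem_of_hl {g : G} (hg : g ∈ c.hat (Cj N ⊔ Θ)) (h : hl c Θ N len g = 0) : g ∈ c.hat Θ := fun i =>
  mem_of_la y (hg i) (Finset.sum_eq_zero_iff.1 h i (Finset.mem_univ i))

theorem exists_one {s : G} (hs : s ∈ c.hat (Cj N ⊔ Θ)) (h : hl c Θ N len s = 1) :
    ∃ j σ θ, One c Θ N len s j σ θ := by
  classical
  obtain ⟨j, -, hj⟩ := Finset.exists_ne_zero_of_sum_ne_zero (h.trans_ne one_ne_zero)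
  rw [hl, ← Finset.add_sum_erase _ _ (Finset.mem_univ j)] at h
  obtain ⟨σ, hσ, θ, hθ, e⟩ := (mem_N y).1 (hs j)
  have h1 : ∑ i ∈ Finset.univ.erase j, la Θ N len (c.a s i) = 0 := by omega
  refine ⟨j, σ, θ, hσ, ?_, hθ, e, fun i hi => mem_of_la y (hs i) ?_⟩
  · rw [h1, add_zero, e, la_mk y hσ hθ] at h
    exact h
  · exact Finset.sum_eq_zero_iff.1 h1 i (Finset.mem_erase.2 ⟨hi, Finset.mem_univ i⟩)

theorem hl_one {s : G} {j : ι} {σ : X} {θ : MulAut X} (o : One c Θ N len s j σ θ) : hl c Θ N len s = 1 := by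
  rw [hl, Finset.sum_eq_single j (fun i _ hi => la_theta y (o.ne i hi)) fun h => absurd (Finset.mem_univ j) h, o.eq,
    la_mk y o.mem o.th, o.one]

theorem hl_mul {s : G} {σ : X} {θ : MulAut X} {n : G} {i : ι} (o : One c Θ N len s (c.π n i) σ θ)
    (hn : n ∈ c.hat (Cj N ⊔ Θ)) {m : X} (hm : m ∈ N) {η : MulAut X} (hη : η ∈ Θ)
    (e : c.a n i = MulAut.conj m * η) : hl c Θ N len (s * n) + len (θ m) = hl c Θ N len n + len (σ * θ m) := by
  classical
  rw [hl, hl, ← Finset.add_sum_erase _ _ (Finset.mem_univ i), ← Finset.add_sum_erase _ _ (Finset.mem_univ i),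
    c.a_mul, o.eq, e, la_mul y o.mem hm o.th hη, la_mk y hm hη, (y.hN θ o.th m hm).2,
    Finset.sum_congr rfl fun k hk => show la Θ N len (c.a (s * n) k) = la Θ N len (c.a n k) by
      rw [c.a_mul, la_left y (o.ne _ fun h => (Finset.mem_erase.1 hk).1 ((c.π n).injective h)) (hn k)]]
  ring

omit [Fintype ι] y in
theorem one_e {σ : X} (hσ : σ ∈ N) (h : len σ = 1) (j : ι) : One c Θ N len (c.e j σ) j σ 1 :=
  ⟨hσ, h, one_mem _, by rw [a_e_self, mul_one], fun i hi => by rw [a_e_ne c hi.symm]; exact one_mem _⟩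

omit [Fintype ι] y in
theorem One.mem_hat {s : G} {j : ι} {σ : X} {θ : MulAut X} (o : One c Θ N len s j σ θ) : s ∈ c.hat (Cj N ⊔ Θ) :=
  fun i => by
    by_cases h : i = j
    · rw [h, o.eq]
      exact mul_mem (mem_sup_left ⟨σ, o.mem, rfl⟩) (mem_sup_right o.th)
    · exact mem_sup_right (o.ne i h)

/-- the conjugate of an element of `PP c U` by an element of length one -/
theorem One.conj {s : G} {j : ι} {σ : X} {θ : MulAut X} (o : One c Θ N len s j σ θ) {u : G} (hu : u ∈ PP c U) :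
    ∃ v ∈ U, ∃ w ∈ PP c U, s * u * s⁻¹ = w * c.e (c.π s j) (σ * v * σ⁻¹) := by
  classical
  obtain ⟨x, hx, rfl⟩ := (mem_PP c).1 hu
  obtain ⟨z, hz⟩ := exists_conj c s x
  refine ⟨θ (x j), y.hU θ o.th _ (hx j), pr c (Function.update z (c.π s j) 1), pr_mem_PP c fun k => ?_, ?_⟩
  · obtain ⟨k, rfl⟩ := (c.π s).surjective k
    by_cases hk : k = j
    · rw [hk, Function.update_self]
      exact one_mem _
    · rw [Function.update_of_ne fun h => hk ((c.π s).injective h), hz]
      exact y.hU _ (o.ne k hk) _ (hx k)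
  · rw [conj_pr c s hz, ← pr_single, ← map_mul]
    congr 1
    ext k
    by_cases hk : k = c.π s j
    · rw [hk, Pi.mul_apply, Function.update_self, Pi.mulSingle_eq_same, hz, o.eq, one_mul]
      rfl
    · rw [Pi.mul_apply, Function.update_of_ne hk, Pi.mulSingle_eq_of_ne hk, mul_one]

/-- **the Bruhat decomposition in `G`** -/
theorem yd_hat : YD (c.hat (Cj H ⊔ Θ)) (PP c U) (c.hat (Cj N ⊔ Θ)) (hl c Θ N len) where
  uH := PP_le_hat c fun u hu => mem_sup_left ⟨u, y.yd.uH hu, rfl⟩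
  nH := hat_mono c (sup_le_sup_right (map_mono y.yd.nH) _)
  cover g hg := by
    have h : ∀ i, ∃ u ∈ U, ∃ v ∈ U, MulAut.conj u * c.a g i * MulAut.conj v ∈ Cj N ⊔ Θ := fun i => by
      obtain ⟨h, hh, θ, hθ, e⟩ := (mem_H y).1 (hg i)
      obtain ⟨u, hu, n, hn, v, hv, rfl⟩ := y.yd.cover h hh
      refine ⟨u⁻¹, inv_mem hu, θ⁻¹ v⁻¹, y.hU _ (inv_mem hθ) _ (inv_mem hv), (mem_N y).2 ⟨n, hn, θ, hθ, ?_⟩⟩
      rw [e, conj_map, map_mul, map_mul, map_inv, map_inv]
      group
    choose u hu v hv h using h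
    refine ⟨(pr c fun k => u ((c.π g).symm k))⁻¹, inv_mem (pr_mem_PP c fun _ => hu _),
      pr c (fun k => u ((c.π g).symm k)) * g * pr c v, fun i => ?_, (pr c v)⁻¹, inv_mem (pr_mem_PP c hv), by group⟩
    rw [a_mul_pr, a_pr_mul, Equiv.symm_apply_apply]
    exact h i
  uniq n hn n' hn' u₀ hu₀ v₀ hv₀ e := by
    obtain ⟨u, hu, rfl⟩ := (mem_PP c).1 hu₀
    obtain ⟨v, hv, rfl⟩ := (mem_PP c).1 hv₀
    obtain ⟨w, hw⟩ := exists_conj c n v
    have h : u * w = 1 := by
      ext k
      obtain ⟨i, rfl⟩ := (c.π n).surjective k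
      obtain ⟨m, hm, θ, hθ, e1⟩ := (mem_N y).1 (hn i)
      obtain ⟨m', hm', θ', hθ', e2⟩ := (mem_N y).1 (hn' i)
      rw [← e, a_mul_pr, a_pr_mul, e1] at e2
      have e3 : MulAut.conj (u (c.π n i) * m * θ (v i)) * θ = MulAut.conj m' * θ' := by
        rw [← e2, map_mul, map_mul, conj_map]
        group
      have h1 := mul_mem hm' (of_conj_eq y hθ hθ' e3).1
      rw [mul_inv_cancel_left] at h1
      have h2 := y.yd.uniq m hm _ h1 _ (hu _) _ (y.hU θ hθ _ (hv i)) rfl
      rw [Pi.mul_apply, hw, e1, Pi.one_apply]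
      change u (c.π n i) * (m * θ (v i) * m⁻¹) = 1
      rw [← mul_assoc, ← mul_assoc, ← h2, mul_inv_cancel]
    rw [← e]
    calc n = pr c (u * w) * n := by rw [h, map_one, one_mul]
      _ = pr c u * n * pr c v := by rw [map_mul, ← conj_pr c n hw]; group
  one := hl_eq_zero c y (one_mem _)
  inv n hn := by
    rw [hl, hl, ← Equiv.sum_comp (c.π n)]
    exact Finset.sum_congr rfl fun i _ => by rw [a_inv', la_inv y (hn i)]
  zero t ht h := by
    have h1 := mem_of_hl c y ht h
    refine ⟨fun u hu => conj_mem_PP c (fun i => y.hU _ (h1 i)) hu, fun n hn => Finset.sum_congr rfl fun i _ => ?_⟩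
    rw [c.a_mul, la_left y (h1 _) (hn i)]
  step s hs h n hn := by
    obtain ⟨j, σ, θ, o⟩ := exists_one c y hs h
    obtain ⟨i, rfl⟩ := (c.π n).surjective j
    obtain ⟨m, hm, η, hη, e⟩ := (mem_N y).1 (hn i)
    have h1 := hl_mul c y o hn hm hη e
    have h2 := y.yd.step σ o.mem o.one _ (y.hN θ o.th m hm).1
    omega
  desc n hn h := by
    obtain ⟨i, -, hi⟩ := Finset.exists_ne_zero_of_sum_ne_zero h
    obtain ⟨m, hm, η, hη, e⟩ := (mem_N y).1 (hn i)
    rw [e, la_mk y hm hη] at hi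
    obtain ⟨σ, hσ, h1, h2⟩ := y.yd.desc m hm hi
    have o : One c Θ N len _ _ _ _ := one_e c hσ h1 (c.π n i)
    have h3 := hl_mul c y o hn hm hη e
    rw [MulAut.one_apply] at h3
    exact ⟨_, o.mem_hat, hl_one c y o, by omega⟩
  up s hs h n hn h1 u hu := by
    obtain ⟨j, σ, θ, o⟩ := exists_one c y hs h
    obtain ⟨i, rfl⟩ := (c.π n).surjective j
    obtain ⟨m, hm, η, hη, e⟩ := (mem_N y).1 (hn i)
    have h2 := hl_mul c y o hn hm hη e
    obtain ⟨v, hv, w, hw, e1⟩ := o.conj c y hu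
    obtain ⟨u', hu', v', hv', e2⟩ := y.yd.up σ o.mem o.one _ (y.hN θ o.th m hm).1 (by omega) v hv
    refine ⟨w * c.e (c.π s (c.π n i)) u', mul_mem hw (e_mem_PP c hu' _), c.e i ((θ * η)⁻¹ v'),
      e_mem_PP c (y.hU _ (inv_mem (mul_mem o.th hη)) _ hv') _, ?_⟩
    have e3 := c.ha (s * n) i ((θ * η)⁻¹ v')
    have e4 : c.a (s * n) i ((θ * η)⁻¹ v') = u'⁻¹ * (σ * v * σ⁻¹) := by
      have e5 : c.a (s * n) i = MulAut.conj (σ * θ m) * (θ * η) := by
        rw [c.a_mul, o.eq, e, map_mul, conj_map]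
        group
      rw [e5, MulAut.mul_apply, MulAut.apply_inv_self, MulAut.conj_apply, eq_inv_mul_iff_mul_eq, ← mul_assoc,
        ← mul_assoc, ← e2]
      group
    rw [e4, map_mul c.π, Equiv.Perm.mul_apply, map_mul, map_inv, mul_inv_eq_iff_eq_mul] at e3
    calc s * u * n = s * u * s⁻¹ * (s * n) := by group
      _ = _ := by rw [e1, mul_assoc (w * _), e3]; group
  quad s hs h u hu := by
    obtain ⟨j, σ, θ, o⟩ := exists_one c y hs h
    obtain ⟨v, hv, w, hw, e1⟩ := o.conj c y hu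
    rcases y.yd.quad σ o.mem o.one v hv with h1 | ⟨t, ht, h1, u', hu', v', hv', e2⟩
    · exact Or.inl (e1 ▸ mul_mem hw (e_mem_PP c h1 _))
    · have h2 : c.e (c.π s j) (t * σ⁻¹) * s ∈ c.hat Θ := fun i => by
        rw [c.a_mul]
        by_cases hi : i = j
        · rw [hi, a_e_self, o.eq, map_mul, map_inv, mul_assoc, inv_mul_cancel_left]
          exact mul_mem ((y.inn t).2 ⟨ht, h1⟩) o.th
        · rw [a_e_ne c fun h => hi ((c.π s).injective h).symm, one_mul]
          exact o.ne i hi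
      refine Or.inr ⟨_, hat_mono c le_sup_right h2, hl_eq_zero c y h2, w * c.e (c.π s j) u',
        mul_mem hw (e_mem_PP c hu' _), c.e (c.π s j) v', e_mem_PP c hv' _, ?_⟩
      rw [e1, e2, map_mul, map_mul]
      group

omit [Fintype ι] y in
/-- in a group which is `2`-closed modulo `M` the Sylow `2`-subgroups are conjugate under `M` -/
theorem exists_conj_le {T : Type} [Group T] [Finite T] {M R : Subgroup T} [M.Normal] [R.Normal]
    (hR : ∀ g ∈ R, ∃ k : ℕ, g ^ 2 ^ k ∈ M) (ho : Odd R.index) (P : Sylow 2 T) {S : Subgroup T} (hS : IsPGroup 2 S) :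
    ∃ l ∈ M, ∀ s ∈ S, l⁻¹ * s * l ∈ (P : Subgroup T) := by
  have h1 : S ≤ R := fun s hs => by
    obtain ⟨k, hk⟩ := hS ⟨s, hs⟩
    have hk' : (s : T ⧸ R) ^ 2 ^ k = 1 := by
      rw [← QuotientGroup.mk_pow, show s ^ 2 ^ k = 1 from congrArg Subtype.val hk, QuotientGroup.mk_one]
    rw [← QuotientGroup.eq_one_iff, ← orderOf_eq_one_iff]
    exact Nat.eq_one_of_dvd_coprimes ((Nat.coprime_two_left.2 ho).pow_left k) (orderOf_dvd_of_pow_eq_one hk')
      (orderOf_dvd_natCard _)
  have h2 : IsPGroup 2 (R.map (QuotientGroup.mk' M)) := by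
    rintro ⟨_, g, hg, rfl⟩
    obtain ⟨k, hk⟩ := hR g hg
    exact ⟨k, Subtype.ext ((QuotientGroup.eq_one_iff _).2 hk)⟩
  have := Normal.map (inferInstance : R.Normal) _ (QuotientGroup.mk'_surjective M)
  have h3 : S ≤ M ⊔ P := fun s hs => by
    obtain ⟨p, hp, e⟩ := h2.le_sylow_of_normal (P.mapSurjective (QuotientGroup.mk'_surjective M)) ⟨s, h1 hs, rfl⟩
    have h4 := mul_mem (mem_sup_right hp : p ∈ M ⊔ P) (mem_sup_left (QuotientGroup.eq.1 e))
    rwa [mul_inv_cancel_left] at h4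
  obtain ⟨Q, hQ⟩ := (hS.comap_subtype (K := M ⊔ P)).exists_le_sylow
  obtain ⟨k, rfl⟩ := MulAction.exists_smul_eq (↥(M ⊔ P)) (P.subtype (le_sup_right : (P : Subgroup T) ≤ M ⊔ P)) Q
  obtain ⟨l, hl, p, hp, e⟩ := mem_sup_of_normal_left.1 k.2
  refine ⟨l, hl, fun s hs => ?_⟩
  obtain ⟨t, ht, e1⟩ := hQ (show (⟨s, h3 hs⟩ : ↥(M ⊔ P)) ∈ S.comap (M ⊔ P).subtype from hs)
  have e2 : (k : T) * t * (k : T)⁻¹ = s := congrArg Subtype.val e1
  rw [← e2, ← e, show l⁻¹ * (l * p * t * (l * p)⁻¹) * l = p * t * p⁻¹ by group]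
  exact mul_mem (mul_mem hp ht) (inv_mem hp)

/-- **no fixed points** -/
theorem exists_nofix [Finite G] (hX : ∃ x y : X, x * y ≠ y * x) :
    ∃ D ≤ c.hat Θ, IsPGroup 2 D ∧ ∀ u ∈ PP c U, (∀ d ∈ D, d * u * d⁻¹ = u) → u = 1 := by
  obtain ⟨R, hn, -, hR, ho⟩ := c.cl
  obtain ⟨D, hD, h2, hf⟩ := y.nofix
  have := normal_LL c
  obtain ⟨P⟩ : Nonempty (Sylow 2 (c.hat Θ)) := inferInstance
  refine ⟨(P : Subgroup (c.hat Θ)).map (c.hat Θ).subtype, map_subtype_le _, P.2.map _, fun u₀ hu₀ h => ?_⟩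
  obtain ⟨u, hu, rfl⟩ := (mem_PP c).1 hu₀
  rw [show u = 1 from funext fun i => ?_, map_one]
  let W : Subgroup (c.hat Θ) :=
    { carrier := {g | c.π g i = i ∧ c.a g i ∈ D}
      one_mem' := ⟨by rw [OneMemClass.coe_one, map_one, Equiv.Perm.one_apply], by
        rw [OneMemClass.coe_one, c.a_one]; exact one_mem _⟩
      mul_mem' := fun {a b} ha hb => ⟨by rw [coe_mul, map_mul, Equiv.Perm.mul_apply, hb.1, ha.1], by
        rw [coe_mul, c.a_mul, hb.1]; exact mul_mem ha.2 hb.2⟩
      inv_mem' := fun {a} ha => ⟨by rw [coe_inv, map_inv, Equiv.Perm.inv_eq_iff_eq, ha.1], by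
        have h := a_inv' c a i
        rw [ha.1] at h
        rw [coe_inv, h]
        exact inv_mem ha.2⟩ }
  let φ : W →* D := MonoidHom.mk' (fun g => ⟨c.a g i, g.2.2⟩) fun a b => Subtype.ext (by
    change c.a ((a : c.hat Θ) * (b : c.hat Θ) : G) i = c.a a i * c.a b i
    rw [c.a_mul, b.2.1])
  have hφ : Function.Surjective φ := fun α => by
    obtain ⟨g, hg, e1, e2⟩ := exists_hat c y.supp i i (hD α.2)
    exact ⟨⟨⟨g, hg⟩, e1, e2 ▸ α.2⟩, Subtype.ext e2⟩
  obtain ⟨S⟩ : Nonempty (Sylow 2 W) := inferInstance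
  obtain ⟨l, hl, h3⟩ := exists_conj_le (M := (LL c).subgroupOf (c.hat Θ)) (R := R.subgroupOf (c.hat Θ))
    (fun g hg => hR g hg) (ho.of_dvd_nat (relIndex_dvd_index_of_normal _ _)) P (S.2.map W.subtype)
  have h4 : c.π l = 1 := π_LL c hX hl
  have h5 := hf _ (y.hU _ (l.2 i) _ (hu i)) fun α hα => by
    obtain ⟨g, hg, e⟩ := (h2.of_equiv topEquiv.symm).le_sylow_of_normal (S.mapSurjective hφ) (mem_top ⟨α, hα⟩)
    have e1 : c.a g i = α := congrArg Subtype.val e
    have h6 := h _ ⟨_, h3 g ⟨g, hg, rfl⟩, rfl⟩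
    obtain ⟨w, hw⟩ := exists_conj c (((l⁻¹ * g * l : c.hat Θ)) : G) u
    have h7 := cen_of_pr_eq c ((conj_pr c _ hw).symm.trans h6) i
    have h8 : c.π ((l⁻¹ * g * l : c.hat Θ) : G) i = i := by
      rw [coe_mul, coe_mul, coe_inv, map_mul, map_mul, map_inv, h4, inv_one, one_mul, mul_one, g.2.1]
    have h9 := hw i
    rw [h8] at h9
    have h10 := eq_one_of_cen y (mul_mem (inv_mem (hu i)) (h9 ▸ y.hU _ ((l⁻¹ * g * l : c.hat Θ).2 i) _ (hu i))) h7
    have h11 := a_inv' c l i
    rw [h4, Equiv.Perm.one_apply] at h11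
    rw [inv_mul_eq_one, h9, coe_mul, coe_mul, coe_inv, c.a_mul, c.a_mul, h4, Equiv.Perm.one_apply, g.2.1, h11, e1,
      MulAut.mul_apply, MulAut.mul_apply] at h10
    conv_rhs => rw [h10, MulAut.apply_inv_self]
  exact (map_eq_one_iff _ (c.a l i).injective).1 h5

omit y in
/-- **the Yokonuma-Hecke step** -/
theorem stepY (h : Core) : StepY := by
  intro X _ _ Γ Θ H U N len s y G _ _ Z ι _ c l _
  obtain ⟨D, h1, h2, h3⟩ := exists_nofix c y (noncomm s)
  exact kk_of_core h (yd_hat c y) c.cen (Z_le_hat c (noncomm s) _)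
    (fun z hz => hl_eq_zero c y (Z_le_hat c (noncomm s) _ hz)) (h1.trans (hat_mono c le_sup_right)) h2
    (fun d hd u hu => conj_mem_PP c (fun i => y.hU _ (h1 hd i)) hu) h3 (odd_PP c y.odd) l

end Cfsg.Agent.MK.H

private theorem dce_7a9cf8d348f5 : _root_.True := by
  try have : _root_.True := by simp only [_root_.Cfsg.Agent.MK.H.la.eq_1]
  try have : _root_.True := by simp only [_root_.Cfsg.Agent.MK.H.hl.eq_1]
  exact _root_.True.intro
end

-- part: MK/R/Main
section
set_option linter.all false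
open scoped Cfsg.Agent.FastGrp

/-!
# MK, the reduction (helper19)

`red : Red`, and `s4596_of` : the statement of S4596 from `∀ n, IH n`.
-/

set_option autoImplicit false
set_option maxHeartbeats 400000

namespace Cfsg.Agent.MK.R

open Cfsg Subgroup Cfsg.Agent.Characters.Core Cfsg.Agent.H672 Cfsg.Agent.H672.RM

variable {G : Type} [Group G] [Finite G]

theorem odd_rel (P : Sylow 2 G) {H : Subgroup G} (h : (P : Subgroup G) ≤ H) : Odd ((P : Subgroup G).relIndex H) :=
  Nat.not_even_iff_odd.1 fun e => P.not_dvd_index (e.two_dvd.trans (relIndex_dvd_index_of_le h))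

/-- the case of a faithful character of a cyclic group of odd order -/
theorem mck_odd (hC : Crit) {Z : Subgroup G} (hZ : Z ≤ center G) (ho : Odd (Nat.card Z)) (hc : IsCyclic Z)
    (ih : IH Z.index) {l : G → ℂ} (hl : Fa Z l) (P : Sylow 2 G) :
    kk ⊤ Z l = kk (normalizer ((P : Subgroup G) : Set G)) Z l := by
  have := normal_of_le_center hZ
  by_cases h : ∀ K : Subgroup G, K.Normal → Z < K → (K ⊔ (P : Subgroup G)).Normal
  · by_cases hs : IsPSolvable 2 G
    · refine kk_eq_of_cnt hZ le_top (hZ.trans (center_le_normalizer _)) fun m _ => ?_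
      rw [cnt_top rfl]
      exact (relative_mckay (centralCase_of fun Z K hZ hK hZK hd S hKS lam N hN hZN =>
        H676.RM.central_case 2 Z K hZ hZK hd S hKS lam N hN hZN) hs Z P _ rfl (le_sup_left.trans le_normalizer) (isIrr_lf m)
        fun g _ => stab_lf_of_central hZ m g).trans (cnt_eq_of_eq _ _ (normalizer_eq_of_central hZ
          ⟨le_top, P.isPGroup', (relIndex_top_right (P : Subgroup G)).symm ▸ P.not_dvd_index⟩).symm _)
    · have e := QuotientGroup.ker_mk' Z
      obtain ⟨X, Γ, ι, _, c, s⟩ := exists_conf (QuotientGroup.mk'_surjective Z) (e.symm ▸ hZ) (e.symm ▸ ho) (e.symm ▸ hc)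
        (e.symm ▸ ih) P (e.symm ▸ h) hs
      have := Fintype.ofFinite ι
      exact hC X Γ G Z ι (e ▸ c) s l hl P
  · push Not at h
    obtain ⟨K, hK, hZK, hn⟩ := h
    rw [kk_step hZ ih hZK P l, ih.nm (fun z hz k _ => mem_center_iff.1 (hZ hz) k) ?_ (le_sup_right.trans le_normalizer)
      P.isPGroup' (odd_rel P (le_sup_right.trans le_normalizer)), inf_eq_right.2 normalizer_sup_le]
    rw [← relIndex_top_right]
    exact relIndex_lt_of_lt (hZ.trans (center_le_normalizer _)) (lt_top_iff_ne_top.2 fun e => hn (normalizer_eq_top_iff.1 e))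

omit [Finite G] in
/-- multiplication by a linear character -/
theorem kk_twist (H Z : Subgroup G) (l : G → ℂ) (μ : G →* ℂˣ) : kk H Z l = kk H Z fun g => μ g * l g := by
  have key : ∀ (l : G → ℂ) (μ : G →* ℂˣ) (ψ : H → ℂ), OI H ψ ∧ Ov H Z l ψ →
      OI H (fun h => μ h * ψ h) ∧ Ov H Z (fun g => μ g * l g) fun h => μ h * ψ h := fun l μ ψ h =>
    ⟨⟨ODD.Red.isIrr_lin_mul (μ.comp H.subtype) h.1.1, by
      rw [ODD.Red.charDegree_congr (ψ := ψ) (by simp)]
      exact h.1.2⟩, fun x hx => by simp [h.2 x hx, mul_assoc]⟩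
  refine Nat.card_congr
    { toFun := fun ψ => ⟨_, key l μ ψ.1 ψ.2⟩
      invFun := fun ψ => ⟨fun h => μ⁻¹ h * ψ.1 h, by simpa using key _ μ⁻¹ ψ.1 ψ.2⟩
      left_inv := fun ψ => Subtype.ext (funext fun h => by simp)
      right_inv := fun ψ => Subtype.ext (funext fun h => by simp) }

/-- the determinant and the transfer: the `2`-part of the central character extends to `G` -/
theorem exists_twist {Z H : Subgroup G} (hZ : Z ≤ center G) (hZH : Z ≤ H) (hi : Odd H.index) {l : G → ℂ} {ψ : H → ℂ}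
    (h1 : OI H ψ) (h2 : Ov H Z l ψ) : ∃ (μ : G →* ℂˣ) (b : ℕ), Odd b ∧ ∀ z ∈ Z, (μ z * l z) ^ b = 1 := by
  obtain ⟨a, b, hb, hab⟩ := Nat.exists_eq_two_pow_mul_odd (Nat.card_pos (α := Z)).ne'
  obtain ⟨u, hu⟩ : ∃ u, 2 ^ a ∣ (charDegree ψ * H.index) * u + 1 := by
    obtain ⟨u, -, hu⟩ := Nat.exists_mul_mod_eq_of_coprime (2 ^ a - 1)
      ((Nat.coprime_two_right.2 (h1.2.mul hi)).pow_right a) (by positivity)
    refine ⟨u, (Nat.modEq_zero_iff_dvd).1 ((Nat.ModEq.add_right 1 hu).trans ?_)⟩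
    rw [Nat.sub_add_cancel Nat.one_le_two_pow]
    exact Nat.modEq_zero_iff_dvd.2 dvd_rfl
  refine ⟨MonoidHom.transfer (ODD.Red.dH ψ) ^ u, b, hb, fun z hz => ?_⟩
  obtain ⟨c, hc, hk, hd⟩ := ODD.Red.exists_central h1.1 (z := ⟨z, hZH hz⟩)
    (mem_center_iff.2 fun g => Subtype.ext (mem_center_iff.1 (hZ hz) g))
  have e : l z = c := mul_right_cancel₀ h1.one_ne ((h2 ⟨z, hZH hz⟩ hz).symm.trans (by simpa using hc 1))
  have e2 : MonoidHom.transfer (ODD.Red.dH ψ) z = ODD.Red.dH ψ ⟨z, hZH hz⟩ ^ H.index := by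
    rw [MonoidHom.transfer_eq_pow _ z fun k g _ => by
      rw [mul_assoc, ← mem_center_iff.1 (pow_mem (hZ hz) k) g, inv_mul_cancel_left], ← map_pow]
    rfl
  obtain ⟨v, hv⟩ := hu
  rw [MonoidHom.pow_apply, e2, e, Units.val_pow_eq_pow_val, Units.val_pow_eq_pow_val, hd, ← pow_mul, ← pow_mul, ← pow_succ,
    ← mul_assoc, hv, ← pow_mul, mul_right_comm, ← hab, pow_mul, hk _ (Subtype.ext ?_), one_pow]
  have e3 := congrArg Subtype.val (pow_card_eq_one' (x := (⟨z, hz⟩ : Z)))
  exact e3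

/-- a central character of odd order -/
theorem mck_ord (hC : Crit) {Z : Subgroup G} (hZ : Z ≤ center G) (ih : IH Z.index) {l : G → ℂ} {b : ℕ} (hb : Odd b)
    (hl : ∀ z ∈ Z, l z ^ b = 1) (P : Sylow 2 G) : kk ⊤ Z l = kk (normalizer ((P : Subgroup G) : Set G)) Z l := by
  refine kk_eq_of_hom hZ le_top (hZ.trans (center_le_normalizer _)) fun m hm => ?_
  have hK : m.ker.map Z.subtype ≤ Z := map_subtype_le _
  have := normal_of_le_center (hK.trans hZ)
  set f := QuotientGroup.mk' (m.ker.map Z.subtype)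
  have hf : Function.Surjective f := QuotientGroup.mk'_surjective _
  have hk : f.ker = m.ker.map Z.subtype := QuotientGroup.ker_mk' _
  have hZf : (Z.map f).comap f = Z := comap_map_eq_self (hk.le.trans hK)
  obtain ⟨l', hl'⟩ : ∃ l' : G ⧸ m.ker.map Z.subtype → ℂ, ∀ z ∈ Z, l' (f z) = l z := by
    refine ⟨fun q => l q.out, fun z hz => ?_⟩
    obtain ⟨⟨_, y, hy, rfl⟩, e⟩ := QuotientGroup.mk_out_eq_mul (m.ker.map Z.subtype) z
    change l (z : G ⧸ m.ker.map Z.subtype).out = _
    rw [e]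
    refine (hm (⟨z, hz⟩ * y)).trans ?_
    rw [map_mul, MonoidHom.mem_ker.1 hy, mul_one, ← hm]
  have h1 : ∀ H : Subgroup G, kk (H.map f) (Z.map f) l' = kk H Z l := fun H =>
    kk_map f (fun h _ => by rw [← mem_comap, hZf]) fun h _ => hl' h
  have h2 : ∀ z ∈ Z, l z = 1 → f z = 1 := fun z hz e =>
    hk.ge ⟨⟨z, hz⟩, Units.ext ((hm ⟨z, hz⟩).symm.trans e), rfl⟩
  let m' : Z.map f →* ℂ :=
    { toFun := fun z => l' z
      map_one' := (hl' 1 (one_mem Z)).trans ((hm 1).trans (by simp))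
      map_mul' := by
        rintro ⟨_, x, hx, rfl⟩ ⟨_, y, hy, rfl⟩
        refine (hl' (x * y) (mul_mem hx hy)).trans ((hm (⟨x, hx⟩ * ⟨y, hy⟩)).trans ?_)
        rw [hl' x hx, hl' y hy, map_mul, Units.val_mul, ← hm, ← hm] }
  have hfa : Fa (Z.map f) l' := by
    rintro _ ⟨z, hz, rfl⟩ e
    exact h2 z hz ((hl' z hz).symm.trans e)
  have h3 := mck_odd hC (Z := Z.map f) (l := l') (by
      rintro _ ⟨z, hz, rfl⟩
      refine mem_center_iff.2 fun g => ?_
      obtain ⟨g, rfl⟩ := hf g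
      rw [← map_mul, ← map_mul, mem_center_iff.1 (hZ hz) g]) (by
      refine Nat.not_even_iff_odd.1 fun e => ?_
      obtain ⟨⟨_, z, hz, rfl⟩, e⟩ := exists_prime_orderOf_dvd_card' 2 e.two_dvd
      refine hb.not_two_dvd_nat (e ▸ orderOf_dvd_of_pow_eq_one (Subtype.ext ((map_pow f z b).symm.trans (h2 _ (pow_mem hz b) ?_))))
      rw [← hl z hz, hm ⟨z, hz⟩, ← Units.val_pow_eq_pow_val, ← map_pow]
      exact hm (⟨z, hz⟩ ^ b))
    (isCyclic_of_injective_ringHom m' ((injective_iff_map_eq_one m').2 fun z e => Subtype.ext (hfa z z.2 e)))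
    (by rwa [← index_comap_of_surjective _ hf, hZf]) hfa (P.mapSurjective hf)
  rw [← h1, ← h1, map_top_of_surjective f hf, h3, ← map_comap_eq_self_of_surjective hf (normalizer _),
    comap_normalizer_eq_of_surjective _ hf, Sylow.coe_mapSurjective, comap_map_eq, sup_comm, hk,
    ← normalizer_eq_of_central (hK.trans hZ)
      ⟨le_top, P.isPGroup', (relIndex_top_right (P : Subgroup G)).symm ▸ P.not_dvd_index⟩]

theorem mck (hC : Crit) {Z : Subgroup G} (hZ : Z ≤ center G) (ih : IH Z.index) : McK G Z := by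
  intro l P
  by_cases h : ∃ (μ : G →* ℂˣ) (b : ℕ), Odd b ∧ ∀ z ∈ Z, (μ z * l z) ^ b = 1
  · obtain ⟨μ, b, hb, h⟩ := h
    rw [kk_twist _ Z l μ, kk_twist _ Z l μ]
    exact mck_ord hC hZ ih hb h P
  · have h0 : ∀ H : Subgroup G, Z ≤ H → (P : Subgroup G) ≤ H → kk H Z l = 0 := fun H h1 h2 =>
      Nat.card_eq_zero.2 (.inl ⟨fun ψ => h (exists_twist hZ h1 (Nat.not_even_iff_odd.1 fun e =>
        P.not_dvd_index (e.two_dvd.trans (index_dvd_of_le h2))) ψ.2.1 ψ.2.2)⟩)
    rw [h0 _ le_top le_top, h0 _ (hZ.trans (center_le_normalizer _)) le_normalizer]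

/-- **the reduction** -/
theorem red : Red := fun hC n => by
  induction n with
  | zero => exact fun _ _ _ _ _ h => absurd h (Nat.not_lt_zero _)
  | succ n ih => exact fun G _ _ Z hZ h => mck hC hZ (ih.mono (Nat.lt_succ_iff.1 h))

theorem kk_bot {H : Subgroup G} {A : Type*} [Group A] [Finite A] (e : H ≃* A) :
    kk H ⊥ 1 = Nat.card {χ : IrrCharacter A // Odd (charDegree (χ : A → ℂ))} := by
  refine Eq.trans (b := Nat.card {χ : IrrCharacter H // Odd (charDegree (χ : H → ℂ))}) ?_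
    (Nat.card_congr ((irrEquiv e).subtypeEquiv fun χ => by
      rw [show charDegree ((irrEquiv e χ : IrrCharacter H) : H → ℂ) = charDegree (χ : A → ℂ) from
        charDegree_comp_one e.toMonoidHom _])).symm
  exact Nat.card_congr
    { toFun := fun ψ => ⟨⟨ψ.1, ψ.2.1.1⟩, ψ.2.1.2⟩
      invFun := fun χ => ⟨χ.1.1, ⟨χ.1.2, χ.2⟩, fun h hh => by rw [show h = 1 from Subtype.ext hh, Pi.one_apply, one_mul]⟩
      left_inv := fun _ => rfl
      right_inv := fun _ => rfl }

/-- **the statement of S4596** -/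
theorem s4596_of (h : ∀ n, IH n) {A : Type*} [Group A] [Finite A] (P : Sylow 2 A) :
    Nat.card {χ : IrrCharacter A // Odd (charDegree (χ : A → ℂ))} =
      Nat.card {ψ : IrrCharacter (normalizer ((P : Subgroup A) : Set A)) //
        Odd (charDegree (ψ : normalizer ((P : Subgroup A) : Set A) → ℂ))} := by
  obtain ⟨G, _, ⟨e⟩⟩ := Lib.MinNormal.exists_type_zero_model A
  have := Finite.of_equiv _ e.toEquiv.symm
  have h1 := h _ G ⊥ bot_le (Nat.lt_succ_self _) 1 (P.mapSurjective (f := e.symm.toMonoidHom) e.symm.surjective)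
  rw [kk_bot (topEquiv.trans e)] at h1
  exact h1.trans (kk_bot ((e.symm.subgroupMap _).trans
    (MulEquiv.subgroupCongr (map_equiv_normalizer_eq (P : Subgroup A) e.symm))).symm)

end Cfsg.Agent.MK.R
end

-- part: MK/S3/Vec
section
set_option linter.all false
open scoped Cfsg.Agent.FastGrp

/-!
# MK, the vectors fixed by the monomial groups (helper46)
-/

set_option autoImplicit false
set_option maxRecDepth 100000

namespace Cfsg.Agent.MK.S3

open Cfsg Subgroup Cfsg.Agent.MK.T Cfsg.Agent.MK.S.Pc Cfsg.Agent.SporadicA.GolayBase Cfsg.Agent.SporadicA.Co0Basic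

theorem finite_co0 : Finite Co0 := Nat.finite_of_card_ne_zero (by rw [S0397.result]; norm_num)

theorem center_bot {G : Type} [Group G] [Finite G] [IsSimpleGroup G] (h : ¬ (Nat.card G).Prime) : center G = ⊥ := by
  refine (inferInstance : (center G).Normal).eq_bot_or_eq_top.resolve_right fun h1 => h ?_
  let _ := Group.commGroupOfCenterEqTop h1
  exact IsSimpleGroup.prime_card

theorem mem_even (x : GolayPt → ℤ) (h1 : ∀ i, x i ≡ 0 [ZMOD 2]) (h2 : ∑ i, x i ≡ 4 * 0 [ZMOD 8])
    (h3 : ∀ k : Fin 4, isCode (maskW (resWord x (k : ℕ))) = true) : x ∈ leechLattice := by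
  refine AddSubgroup.subset_closure ((mem_leechSet_iff x).2 ⟨0, h1, h2, fun k => ?_⟩)
  have e : resWord x k = resWord x ((⟨(k % 4).toNat, by omega⟩ : Fin 4) : ℕ) := by
    funext p
    unfold resWord Int.ModEq
    congr 2
    show k % 4 = ((k % 4).toNat : ℤ) % 4
    omega
  rw [e]
  exact (mem_golayCode_iff _).2 (h3 _)

/-- the vector of norm `48` -/
def w3 : leechLattice := ⟨vec v3, mem_even _ (by decide +kernel) (by decide +kernel) (by decide +kernel)⟩

/-- the vector of norm `32` -/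
def wA : leechLattice := ⟨vec vA, mem_even _ (by decide +kernel) (by decide +kernel) (by decide +kernel)⟩

/-- the difference -/
def vB : List ℤ := List.zipWith (· - ·) v3 vA

theorem coe_B : ((w3 - wA : leechLattice) : GolayPt → ℤ) = vec vB :=
  funext (show ∀ p, vec v3 p - vec vA p = vec vB p by decide +kernel)

theorem norm_3 : sqNorm (w3 : GolayPt → ℤ) = 48 := show sqNorm (vec v3) = 48 by decide +kernel

theorem norm_A : sqNorm (wA : GolayPt → ℤ) = 32 := show sqNorm (vec vA) = 32 by decide +kernel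

theorem norm_B : sqNorm ((w3 - wA : leechLattice) : GolayPt → ℤ) = 32 := by
  rw [coe_B]
  decide +kernel

/-- the coordinates of `U` -/
def vU : List ℤ := [4, 0, 0, 0, 0, 0, 0, 0, 0, 0, 0, 0, 0, 0, 0, 0, 0, 0, 0, 0, 0, 0, 0, 4]

/-- the coordinates of `V` -/
def vV : List ℤ := [-1, -1, -1, -1, -1, -1, -1, -1, -1, -1, -1, -1, -1, -1, -1, -1, -1, -1, -1, -1, -1, -1, -1, -5]

theorem coe_U : (Spor.leechU : GolayPt → ℤ) = vec vU := funext (show ∀ p, Spor.vecU p = vec vU p by decide +kernel)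

theorem coe_V : (Spor.leechV : GolayPt → ℤ) = vec vV := funext (show ∀ p, Spor.vecV p = vec vV p by decide +kernel)

theorem fix2 : V (el xs2) 18 0 ≤ MulAction.stabilizer Co0 Spor.leechU := by
  have h : ∀ x ∈ xs2, okM x = true ∧ mapB vU vU x = true := by decide +kernel
  exact V_le_of (xs := xs2) fun x hx => mapB_ok (h x hx).1 (h x hx).2 coe_U coe_U

theorem fix3 : V (el xs3) 10 0 ≤ MulAction.stabilizer Co0 w3 := by
  have h : ∀ x ∈ xs3, okM x = true ∧ mapB v3 v3 x = true := by decide +kernel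
  exact V_le_of (xs := xs3) fun x hx => mapB_ok (h x hx).1 (h x hx).2 rfl rfl

theorem fixM : V (el xsM) 7 0 ≤ MulAction.stabilizer Co0 Spor.leechV ⊓ MulAction.stabilizer Co0 Spor.leechU := by
  have h : ∀ x ∈ xsM, okM x = true ∧ mapB vV vV x = true ∧ mapB vU vU x = true := by decide +kernel
  exact V_le_of (xs := xsM) fun x hx =>
    ⟨mapB_ok (h x hx).1 (h x hx).2.1 coe_V coe_V, mapB_ok (h x hx).1 (h x hx).2.2 coe_U coe_U⟩

/-- the stabilizer of `v` and of the pair `a`, `v - a` -/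
def Pr (v a : leechLattice) : Subgroup Co0 where
  carrier := {g | g.1 v = v ∧ (g.1 a = a ∨ g.1 a = v - a)}
  one_mem' := ⟨rfl, Or.inl rfl⟩
  mul_mem' {g k} hg hk := by
    have e : ∀ x, (g * k).1 x = g.1 (k.1 x) := fun _ => rfl
    refine ⟨by rw [e, hk.1, hg.1], ?_⟩
    rw [e]
    rcases hk.2 with h | h <;> rw [h]
    · exact hg.2
    · rw [← toHom_apply, map_sub, toHom_apply, toHom_apply, hg.1]
      rcases hg.2 with h | h <;> rw [h]
      exacts [Or.inr rfl, Or.inl (sub_sub_cancel v a)]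
  inv_mem' {g} hg := by
    refine ⟨Equiv.Perm.inv_eq_iff_eq.2 hg.1.symm, hg.2.imp (fun h => Equiv.Perm.inv_eq_iff_eq.2 h.symm)
      fun h => Equiv.Perm.inv_eq_iff_eq.2 ?_⟩
    rw [← toHom_apply, map_sub, toHom_apply, toHom_apply, hg.1, h, sub_sub_cancel]

theorem fixA : V (el xsA) 8 0 ≤ Pr w3 wA := by
  have h : ∀ x ∈ xsA, okM x = true ∧ mapB v3 v3 x = true ∧ (mapB vA vA x = true ∨ mapB vA vB x = true) := by
    decide +kernel
  exact V_le_of (xs := xsA) fun x hx => ⟨mapB_ok (h x hx).1 (h x hx).2.1 rfl rfl,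
    (h x hx).2.2.imp (fun e => mapB_ok (h x hx).1 e rfl rfl) fun e => mapB_ok (h x hx).1 e rfl coe_B⟩

end Cfsg.Agent.MK.S3
end
end
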